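import Cfsg.Agent.H131.MCube
import Cfsg.Agent.H131.T5J4
import Cfsg.Agent.H935.J4Max.M22Fin

/-!
# The middle row of `J₄`, `p = 11` (helper131)

Elements `a`, `b`, `c` generating a Sylow 11-subgroup of `J₄`, fusion of the subgroups of order 11 and middle pairs,
by computations in the 112-dimensional representation over the field with two elements.
-/

set_option autoImplicit false
set_option Elab.async false

namespace Cfsg.Agent.H131.M11J4

open Cfsg.Agent.Lib Cfsg.Agent.Lib.F2MatGroup Cfsg.Agent.J4.Rep112 Cfsg.Agent.H935.J4Max.Eval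
open Cfsg.Agent.H935.J4Max.M22Fin (E_nil E_cons E_append E_two E_three)
open Subgroup Cfsg.Agent.H957.T5M Cfsg.Agent.H797.T5 Cfsg.Agent.H131.MCube

universe u

/-- the program; results: g = 27, G = 26, c0 = 25, i = 24, z = 23, I = 22, A = 21, B = 20, u = 19, ui = 18, r = 17, a = 16, b = 15, c = 14, K = 13, K11 = 12, w3 = 11, z6 = 10, Q = 9, Qi = 8, p = 7, v = 6, vi = 5, s = 4, S = 3, P0 = 2, P1 = 1, P2 = 0 -/
def ws : List (List ℕ) := [[2, 0, 3, 1, 0, 3, 1, 3, 1, 3], [4, 3, 4, 3, 4, 1, 3, 4, 1, 2], [1, 1, 1, 1], [0,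
  0, 2, 2, 2], [0, 0], [1, 0], [6, 1, 6, 1, 6, 1, 6, 1, 6], [2, 10, 2, 10, 2, 10, 2, 10, 2, 10, 2, 10], [6, 0,
  7, 7, 1, 6, 1, 0, 7, 0, 7, 7, 0, 6, 1, 7, 0, 6, 1, 6, 1], [2, 8, 2, 8, 1, 7, 2, 8, 1, 7, 7, 1, 7, 1, 2, 8,
  2, 7, 7, 1, 8], [5, 11, 13, 10, 12, 10, 5, 10, 11, 10, 13, 12], [1, 0, 2], [8, 0, 6], [1, 1, 1, 1, 1, 1, 1,
  1, 1, 1, 0, 0, 0, 0, 0, 0, 0, 0, 0, 0, 1, 0], [15, 17, 15, 14, 15, 14, 17], [0, 0, 0, 0, 0, 0, 0, 0, 0, 0,
  0], [0, 0], [0, 1], [19, 18], [19, 21], [15, 1, 2, 0], [14, 13, 14, 13, 19, 19], [21, 21, 14, 15, 14, 15],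
  [1, 2, 2, 2, 4, 6, 3, 2, 2, 0], [0, 0], [11, 27, 28, 26, 11, 27, 28, 26], [12, 29, 26, 27, 26, 28, 26, 14,
  26, 27, 26, 28, 26, 29], [15, 27, 29, 30, 28, 27, 15, 27, 29, 30, 28, 27]]

/-- the words of the fusion: `m a^t b = a^k c^j m` -/
def fus : List (List ℕ × ℕ × ℕ) := [([24], 10, 0), ([4, 24, 3], 8, 6), ([3, 24], 2, 1), ([24, 3, 24], 6, 7),
  ([24, 4], 2, 2), ([3], 1, 8), ([4], 10, 3), ([24, 3], 2, 9), ([24, 4, 24], 5, 4), ([4, 24], 2, 10), ([3, 24,
  4], 8, 5)]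

def es : List (List ℕ × List ℕ) := [([16, 16, 16, 16, 16, 16, 16, 16, 16, 16, 16], []), ([15, 15, 15, 15, 15,
  15, 15, 15, 15, 15, 15], []), ([14, 14, 14, 14, 14, 14, 14, 14, 14, 14, 14], []), ([16, 14], [14, 16]),
  ([15, 14], [14, 15]), ([16, 15], [15, 16, 14]), ([2, 2, 2, 2, 2, 2, 2], []), ([1, 1, 1, 1, 1, 1, 1], []),
  ([0, 0, 0, 0, 0], []), ([2], [14, 30, 31, 29, 14, 30, 31, 29]), ([1], [14, 31, 28, 29, 28, 30, 28, 16, 28,
  29, 28, 30, 28, 31]), ([0], [16, 28, 30, 31, 29, 28, 16, 28, 30, 31, 29, 28]), ([30, 31, 29, 30, 31, 29],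
  []), ([31, 28, 29, 28, 30, 28, 28, 29, 28, 30, 28, 31], []), ([28, 30, 31, 29, 28, 28, 30, 31, 29, 28], [])]

def esF : List (List ℕ × List ℕ) := fus.mapIdx fun t x =>
  (x.1 ++ (List.replicate t 16 ++ [15]), List.replicate x.2.1 16 ++ List.replicate x.2.2 14 ++ x.1)

def ns : List (List ℕ × List ℕ) := [([14], []), ([2], []), ([1], []), ([0], [])]

theorem chk : check 112 codes ws (es ++ esF) ns = true := by decide +kernel

theorem facts_es {p : List ℕ × List ℕ} (hp : p ∈ es) : E ws p.1 = E ws p.2 :=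
  (check_J chk).1 p (List.mem_append_left _ hp)

theorem get_es {u v : List ℕ} (i : ℕ) (hi : es[i]? = some (u, v)) : E ws u = E ws v :=
  facts_es (p := (u, v)) (List.mem_of_getElem? hi)

theorem get_ns {u v : List ℕ} (i : ℕ) (hi : ns[i]? = some (u, v)) : E ws u ≠ E ws v :=
  (check_J chk).2 (u, v) (List.mem_of_getElem? hi)

theorem E_rep (i n : ℕ) : E ws (List.replicate n i) = E ws [i] ^ n := by
  induction n with
  | zero => rw [List.replicate_zero, E_nil, pow_zero]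
  | succ n ih => rw [List.replicate_succ, E_cons, ih, pow_succ']

/-- the elements -/
noncomputable def a : Cfsg.Spor.J4 := E ws [16]
@[inherit_doc a] noncomputable def b : Cfsg.Spor.J4 := E ws [15]
@[inherit_doc a] noncomputable def c : Cfsg.Spor.J4 := E ws [14]

theorem a_pow : a ^ 11 = 1 := by
  have h := get_es (u := List.replicate 11 16) (v := []) 0 rfl
  rw [E_rep, E_nil] at h
  exact h

theorem b_pow : b ^ 11 = 1 := by
  have h := get_es (u := List.replicate 11 15) (v := []) 1 rfl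
  rw [E_rep, E_nil] at h
  exact h

theorem c_pow : c ^ 11 = 1 := by
  have h := get_es (u := List.replicate 11 14) (v := []) 2 rfl
  rw [E_rep, E_nil] at h
  exact h

theorem ac : a * c = c * a := by
  have h := get_es (u := [16, 14]) (v := [14, 16]) 3 rfl
  rw [E_two, E_two] at h
  exact h

theorem bc : b * c = c * b := by
  have h := get_es (u := [15, 14]) (v := [14, 15]) 4 rfl
  rw [E_two, E_two] at h
  exact h

theorem ab : a * b = b * a * c := by
  have h := get_es (u := [16, 15]) (v := [15, 16, 14]) 5 rfl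
  rw [E_two, E_three, ← mul_assoc] at h
  exact h

theorem c_ne : c ≠ 1 := by
  have h := get_ns (u := [14]) (v := []) 0 rfl
  rw [E_nil] at h
  exact h

/-- a middle pair from the checks -/
theorem pair_of {i j k N : ℕ} {g g' : List ℕ} (hN : Nat.Coprime 11 N) (h1 : E ws (List.replicate N i) = E ws [])
    (h2 : E ws [i] = E ws ([j] ++ (g ++ ([k] ++ g')))) (h3 : E ws (g ++ g') = E ws []) (h4 : E ws [i] ≠ E ws []) :
    MPair 11 (⊤ : Subgroup Cfsg.Spor.J4) (E ws [j]) (E ws [k]) := by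
  rw [E_append, E_append, E_append] at h2
  rw [E_append, E_nil] at h3
  rw [E_rep, E_nil] at h1
  rw [E_nil] at h4
  have h5 : E ws g' = (E ws g)⁻¹ := (inv_eq_of_mul_eq_one_right h3).symm
  rw [h5, ← mul_assoc (E ws g)] at h2
  refine mpair_of_prod (g := E ws g) hN ?_ ?_
  · rw [← h2]; exact h1
  · rw [← h2]; exact h4

theorem pair_cc : MPair 11 (⊤ : Subgroup Cfsg.Spor.J4) c c :=
  pair_of (i := 2) (j := 14) (k := 14) (N := 7) (g := [30, 31, 29]) (g' := [30, 31, 29]) (by norm_num)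
    (get_es 6 rfl) (get_es 9 rfl) (get_es 12 rfl) (get_ns 1 rfl)

theorem pair_ca : MPair 11 (⊤ : Subgroup Cfsg.Spor.J4) c a :=
  pair_of (i := 1) (j := 14) (k := 16) (N := 7) (g := [31, 28, 29, 28, 30, 28]) (g' := [28, 29, 28, 30, 28, 31])
    (by norm_num) (get_es 7 rfl) (get_es 10 rfl) (get_es 13 rfl) (get_ns 2 rfl)

theorem pair_aa : MPair 11 (⊤ : Subgroup Cfsg.Spor.J4) a a :=
  pair_of (i := 0) (j := 16) (k := 16) (N := 5) (g := [28, 30, 31, 29, 28]) (g' := [28, 30, 31, 29, 28])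
    (by norm_num) (get_es 8 rfl) (get_es 11 rfl) (get_es 14 rfl) (get_ns 3 rfl)

theorem fused (t : ℕ) (ht : t < 11) : ∃ (m : Cfsg.Spor.J4) (k j : ℕ), ¬ 11 ∣ k ∧
    m * (a ^ t * b) = a ^ k * c ^ j * m := by
  have hlen : fus.length = 11 := by decide
  have hk : ∀ x ∈ fus, ¬ 11 ∣ x.2.1 := by decide
  have ht' : t < fus.length := by rw [hlen]; exact ht
  refine ⟨E ws fus[t].1, fus[t].2.1, fus[t].2.2, hk _ (List.getElem_mem ht'), ?_⟩
  have h1 : (fus[t].1 ++ (List.replicate t 16 ++ [15]), List.replicate fus[t].2.1 16 ++ List.replicate fus[t].2.2 14 ++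
      fus[t].1) ∈ esF := by
    unfold esF
    rw [List.mem_mapIdx]
    exact ⟨t, ht', rfl⟩
  have h2 := (check_J chk).1 _ (List.mem_append_right _ h1)
  simp only [E_append, E_rep] at h2
  exact h2

/-- **all pairs of elements of order 11 of `J₄`** -/
theorem allM : AllM 11 Cfsg.Spor.J4 := by
  have : Fact (Nat.Prime 11) := ⟨by norm_num⟩
  refine allM_of_fused ?_ a_pow b_pow c_pow c_ne ac bc ab fused pair_cc pair_ca pair_aa
  rw [Cfsg.Agent.H131.T5J4.card_J4_eq]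
  norm_num

/-- **the row** -/
theorem mrow_j4 (K : Type u) [Group K] [Finite K] [IsSimpleGroup K] (hna : ¬ IsMulCommutative K)
    (h : Cfsg.Spor.IsoJ4 K) : MRow 11 K := by
  obtain ⟨hfin, hsim, ⟨F⟩⟩ := Cfsg.Agent.KFacts.J4.Base.exists_full h
  obtain ⟨e⟩ := h
  refine MRow.of_inner hna (fun a _ => ?_) (allM.congr e)
  obtain ⟨p, hp⟩ := Cfsg.Agent.KFacts.J4.SheetJ4.inner F a
  exact ⟨p, hp.symm⟩

end Cfsg.Agent.H131.M11J4
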