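import Mathlib

/-!
# Solvable normal closures of `p`-elements (helper131)

`isPGroup_normalClosure` : `x` is a `p`-element of the finite group `K`, all `x⁻¹ x ^ g` are `p`-elements and the normal
closure of `x` is solvable; then the normal closure is a `p`-group.
-/

set_option autoImplicit false

universe u

namespace Cfsg.Agent.H131.SolvP

open Subgroup
open scoped commutatorElement

/-- a solvable normal subgroup contains a normal `r`-subgroup -/
theorem exists_normal_rgroup {K : Type u} [Group K] [Finite K] {D : Subgroup K} [hDn : D.Normal]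
    (hs : Group.IsSolvable ↥D) (hD : D ≠ ⊥) :
    ∃ (r : ℕ) (N : Subgroup K), r.Prime ∧ N.Normal ∧ N ≤ D ∧ N ≠ ⊥ ∧ IsPGroup r ↥N := by
  classical
  obtain ⟨m, hm⟩ := hs
  have hex : ∃ n, derivedSeries ↥D n = ⊥ := ⟨m, hm⟩
  have h0 : Nat.find hex ≠ 0 := by
    intro h
    have h1 := Nat.find_spec hex
    rw [h, derivedSeries_zero] at h1
    apply hD
    rw [eq_bot_iff]
    intro d hd
    have h2 : (⟨d, hd⟩ : ↥D) ∈ (⊤ : Subgroup ↥D) := mem_top _
    rw [h1, mem_bot] at h2
    exact congrArg Subtype.val h2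
  obtain ⟨n, hn⟩ := Nat.exists_eq_succ_of_ne_zero h0
  have hA1 : derivedSeries ↥D n ≠ ⊥ := Nat.find_min hex (by omega)
  have hA2 : derivedSeries ↥D (n + 1) = ⊥ := by
    have := Nat.find_spec hex
    rwa [hn] at this
  let A : Subgroup K := (derivedSeries ↥D n).map D.subtype
  have hAn : A.Normal := ConjAct.normal_of_characteristic_of_normal
  have hAD : A ≤ D := by
    rintro _ ⟨a, -, rfl⟩
    exact a.2
  have hAc : ∀ a ∈ A, ∀ b ∈ A, a * b = b * a := by
    rintro _ ⟨a, ha, rfl⟩ _ ⟨b, hb, rfl⟩
    have h1 : ⁅a, b⁆ ∈ derivedSeries ↥D (n + 1) := by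
      rw [derivedSeries_succ]
      exact commutator_mem_commutator ha hb
    rw [hA2, mem_bot, commutatorElement_eq_one_iff_mul_comm] at h1
    exact congrArg Subtype.val h1
  have hAb : A ≠ ⊥ := by
    intro h
    apply hA1
    exact (Subgroup.map_eq_bot_iff_of_injective _ (Subgroup.subtype_injective D)).1 h
  have hcard : Nat.card ↥A ≠ 1 := fun h => hAb (Subgroup.card_eq_one.1 h)
  obtain ⟨r, hr, hrA⟩ := Nat.exists_prime_and_dvd hcard
  have hrf : Fact r.Prime := ⟨hr⟩
  have hcom : ∀ {a b : K}, a ∈ A → b ∈ A → Commute a b := fun ha hb => hAc _ ha _ hb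
  let N : Subgroup K :=
    { carrier := {a | a ∈ A ∧ ∃ k : ℕ, a ^ r ^ k = 1}
      one_mem' := ⟨one_mem _, 0, one_pow _⟩
      mul_mem' := by
        rintro a b ⟨ha, k, hk⟩ ⟨hb, l, hl⟩
        refine ⟨mul_mem ha hb, k + l, ?_⟩
        rw [(hcom ha hb).mul_pow, pow_add, pow_mul, hk, one_pow, one_mul, mul_comm, pow_mul, hl, one_pow]
      inv_mem' := by
        rintro a ⟨ha, k, hk⟩
        exact ⟨inv_mem ha, k, by rw [inv_pow, hk, inv_one]⟩ }
  refine ⟨r, N, hr, ⟨?_⟩, fun a ha => hAD ha.1, ?_, ?_⟩
  · rintro a ⟨ha, k, hk⟩ g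
    exact ⟨hAn.conj_mem a ha g, k, by rw [conj_pow, hk]; group⟩
  · obtain ⟨a, ha⟩ := exists_prime_orderOf_dvd_card' (G := ↥A) r hrA
    intro h
    have h1 : (a : K) ∈ N := ⟨a.2, 1, by
      rw [pow_one, ← Subgroup.coe_pow, ← ha, pow_orderOf_eq_one, Subgroup.coe_one]⟩
    rw [h, mem_bot] at h1
    have h2 : a = 1 := Subtype.ext h1
    rw [h2, orderOf_one] at ha
    exact hr.one_lt.ne ha
  · rintro ⟨a, ha, k, hk⟩
    exact ⟨k, Subtype.ext hk⟩

/-- **solvable normal closures** -/
theorem isPGroup_normalClosure {p : ℕ} [hp : Fact p.Prime] (n : ℕ) :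
    ∀ (K : Type u) [Group K] [Finite K] (x : K), Nat.card K ≤ n → (∃ k : ℕ, x ^ p ^ k = 1) →
      (∀ g : K, ∃ k : ℕ, (x⁻¹ * (g * x * g⁻¹)) ^ p ^ k = 1) →
      Group.IsSolvable ↥(normalClosure {x} : Subgroup K) → IsPGroup p ↥(normalClosure {x} : Subgroup K) := by
  induction n with
  | zero =>
    intro K _ _ x hK
    have := Nat.card_pos (α := K)
    omega
  | succ n ih =>
    intro K _ _ x hK hx hg hs
    by_cases hD : (normalClosure {x} : Subgroup K) = ⊥
    · rw [hD]
      exact IsPGroup.of_bot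
    obtain ⟨r, N, hr, hN, hND, hNb, hNr⟩ := exists_normal_rgroup hs hD
    -- the quotient
    have hmap : (normalClosure {x} : Subgroup K).map (QuotientGroup.mk' N) =
        normalClosure {QuotientGroup.mk' N x} := by
      rw [Subgroup.map_normalClosure _ _ (QuotientGroup.mk'_surjective N), Set.image_singleton]
    have hcard : Nat.card (K ⧸ N) ≤ n := by
      have h1 := Subgroup.card_eq_card_quotient_mul_card_subgroup N
      have h2 : 1 < Nat.card ↥N := by
        rw [← not_le]
        intro h
        have h3 : Nat.card ↥N = 1 := le_antisymm h Nat.card_pos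
        exact hNb (Subgroup.card_eq_one.1 h3)
      have h3 : 0 < Nat.card (K ⧸ N) := Nat.card_pos
      nlinarith
    have hpq : IsPGroup p ↥(normalClosure {QuotientGroup.mk' N x} : Subgroup (K ⧸ N)) := by
      refine ih (K ⧸ N) (QuotientGroup.mk' N x) hcard ?_ ?_ ?_
      · obtain ⟨k, hk⟩ := hx
        exact ⟨k, by rw [← map_pow, hk, map_one]⟩
      · intro g
        obtain ⟨g, rfl⟩ := QuotientGroup.mk'_surjective N g
        obtain ⟨k, hk⟩ := hg g
        refine ⟨k, ?_⟩
        rw [← map_inv, ← map_inv, ← map_mul, ← map_mul, ← map_mul, ← map_pow, hk, map_one]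
      · rw [← hmap]
        exact Group.isSolvable_of_surjective (f := (QuotientGroup.mk' N).subgroupMap _)
          ((QuotientGroup.mk' N).subgroupMap_surjective _)
    have hpow : ∀ y ∈ (normalClosure {x} : Subgroup K), ∃ k : ℕ, y ^ p ^ k ∈ N := by
      intro y hy
      have h1 : QuotientGroup.mk' N y ∈ (normalClosure {QuotientGroup.mk' N x} : Subgroup (K ⧸ N)) := by
        rw [← hmap]
        exact mem_map_of_mem _ hy
      obtain ⟨k, hk⟩ := hpq ⟨_, h1⟩
      refine ⟨k, ?_⟩
      have h2 : QuotientGroup.mk' N (y ^ p ^ k) = 1 := by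
        rw [map_pow]
        exact congrArg Subtype.val hk
      exact (QuotientGroup.eq_one_iff _).1 h2
    by_cases hrp : r = p
    · subst hrp
      rintro ⟨y, hy⟩
      obtain ⟨k, hk⟩ := hpow y hy
      obtain ⟨l, hl⟩ := hNr ⟨_, hk⟩
      have h3 : (y ^ r ^ k) ^ r ^ l = 1 := congrArg Subtype.val hl
      refine ⟨k + l, Subtype.ext ?_⟩
      change y ^ r ^ (k + l) = 1
      rw [pow_add, pow_mul, h3]
    · -- `x` centralizes `N`
      have hxN : ∀ m ∈ N, m * x = x * m := by
        intro m hm
        have h1 : x⁻¹ * (m * x * m⁻¹) ∈ N := by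
          have h2 : x⁻¹ * (m * x * m⁻¹) = (x⁻¹ * m * x⁻¹⁻¹) * m⁻¹ := by group
          rw [h2]
          exact mul_mem (hN.conj_mem m hm x⁻¹) (inv_mem hm)
        obtain ⟨k, hk⟩ := hg m
        obtain ⟨l, hl⟩ := hNr ⟨_, h1⟩
        have hl' : (x⁻¹ * (m * x * m⁻¹)) ^ r ^ l = 1 := congrArg Subtype.val hl
        have h3 := orderOf_dvd_of_pow_eq_one hk
        have h4 := orderOf_dvd_of_pow_eq_one hl'
        have h5 : Nat.Coprime (p ^ k) (r ^ l) :=
          Nat.Coprime.pow _ _ ((Nat.coprime_primes hp.out hr).2 (fun h => hrp h.symm))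
        have h6 : orderOf (x⁻¹ * (m * x * m⁻¹)) = 1 := Nat.dvd_one.1 (h5 ▸ Nat.dvd_gcd h3 h4)
        rw [orderOf_eq_one_iff, inv_mul_eq_one] at h6
        nth_rewrite 2 [h6]
        group
      have hcen : (normalClosure {x} : Subgroup K) ≤ centralizer (N : Set K) := by
        refine normalClosure_le_normal ?_
        rintro y rfl
        rw [SetLike.mem_coe, mem_centralizer_iff]
        exact fun m hm => hxN m hm
      -- the normal closure is nilpotent
      have hnil : Group.IsNilpotent ↥(normalClosure {x} : Subgroup K) := by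
        have h1 : Group.IsNilpotent ↥((normalClosure {x} : Subgroup K).map (QuotientGroup.mk' N)) := by
          rw [hmap]
          exact hpq.isNilpotent
        refine Subgroup.isNilpotent_of_ker_le_center ((QuotientGroup.mk' N).subgroupMap (normalClosure {x})) ?_
        rintro ⟨y, hy⟩ hyk
        have h2 : QuotientGroup.mk' N y = 1 := congrArg Subtype.val ((MonoidHom.mem_ker).1 hyk)
        have h3 : y ∈ N := (QuotientGroup.eq_one_iff _).1 h2
        rw [mem_center_iff]
        rintro ⟨d, hd⟩
        refine Subtype.ext ?_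
        exact (mem_centralizer_iff.1 (hcen hd) y h3).symm
      obtain ⟨P⟩ : Nonempty (Sylow p ↥(normalClosure {x} : Subgroup K)) := inferInstance
      have hPn : (P : Subgroup ↥(normalClosure {x} : Subgroup K)).Normal := by
        have h4 := ((Group.isNilpotent_of_finite_tfae (G := ↥(normalClosure {x} : Subgroup K))).out 0 3 rfl rfl).1 hnil
        exact h4 p hp P
      have hPc := Sylow.characteristic_of_normal P hPn
      have hPK : ((P : Subgroup ↥(normalClosure {x} : Subgroup K)).map
          (normalClosure {x} : Subgroup K).subtype).Normal := ConjAct.normal_of_characteristic_of_normal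
      have hxD : x ∈ (normalClosure {x} : Subgroup K) := subset_normalClosure rfl
      have hxP : (⟨x, hxD⟩ : ↥(normalClosure {x} : Subgroup K)) ∈ (P : Subgroup _) := by
        obtain ⟨k, hk⟩ := hx
        have h1 : IsPGroup p ↥(zpowers (⟨x, hxD⟩ : ↥(normalClosure {x} : Subgroup K))) := by
          refine IsPGroup.of_card_dvd_pow (n := k) ?_
          rw [Nat.card_zpowers]
          exact orderOf_dvd_of_pow_eq_one (Subtype.ext hk)
        obtain ⟨Q, hQ⟩ := h1.exists_le_sylow
        have hu := Sylow.unique_of_normal P hPn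
        have h2 : Q = P := (hu.uniq Q).trans (hu.uniq P).symm
        rw [← h2]
        exact hQ (mem_zpowers _)
      have hle : (normalClosure {x} : Subgroup K) ≤ (P : Subgroup ↥(normalClosure {x} : Subgroup K)).map
          (normalClosure {x} : Subgroup K).subtype := by
        refine normalClosure_le_normal ?_
        rintro y rfl
        exact ⟨_, hxP, rfl⟩
      exact (P.2.map _).to_le hle

end Cfsg.Agent.H131.SolvP
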