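import Mathlib
import Cfsg.Agent.H131.Tools
import Cfsg.Agent.OrdCrit.Main

/-!
# The cube bound for groups of Lie type in characteristic 2 with one class of involutions (helper131)

`|L| < |L|₂³`, and the involutions are 2-central.
-/

set_option autoImplicit false

namespace Cfsg.Agent.H131.CharTwo

open Subgroup Cfsg Cfsg.Agent.H131.OneClass Cfsg.Agent.H131.Tools Cfsg.Agent.OrdCrit

theorem suz {F : Type} [Field F] [Fintype F] {m : ℕ} (hm : 1 ≤ m) (hF : Fintype.card F = 2 ^ (2 * m + 1)) :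
    Nat.card ↥(Lie.Sz F (2 ^ (m + 1))) < (ordProj[2] (Nat.card ↥(Lie.Sz F (2 ^ (m + 1))))) ^ 3 := by
  have h1 := (S1163.result hm hF).1
  have hq2 : 2 ≤ 2 ^ (2 * m + 1) := by
    have : 2 ^ 1 ≤ 2 ^ (2 * m + 1) := Nat.pow_le_pow_right (by norm_num) (by omega)
    omega
  rw [mul_assoc, ← one_mul (Nat.card _)] at h1
  refine cube_of (q := 2 ^ (2 * m + 1)) Nat.prime_two rfl (Nat.coprime_one_left 2) h1 ?_ Nat.card_pos.ne'
  set q := 2 ^ (2 * m + 1)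
  have h2 : q - 1 < q := by omega
  have h3 : q ^ 2 + 1 ≤ q ^ 3 := by nlinarith [sq_nonneg q, pow_succ q 2]
  calc (q - 1) * (q ^ 2 + 1) ≤ (q - 1) * q ^ 3 := Nat.mul_le_mul_left _ h3
    _ < q * q ^ 3 := Nat.mul_lt_mul_of_pos_right h2 (by positivity)
    _ = q ^ (2 * 2) := by ring

theorem twF4 {K : Type} [Field K] [Fintype K] {m : ℕ} (hK : Fintype.card K = 2 ^ (2 * m + 1)) :
    Nat.card ↥(Lie.twistedF4 K (2 ^ m)) < (ordProj[2] (Nat.card ↥(Lie.twistedF4 K (2 ^ m)))) ^ 3 := by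
  have h1 := S1068.result hK
  have hq2 : 2 ≤ 2 ^ (2 * m + 1) := by
    have : 2 ^ 1 ≤ 2 ^ (2 * m + 1) := Nat.pow_le_pow_right (by norm_num) (by omega)
    omega
  rw [mul_assoc, mul_assoc, mul_assoc, ← one_mul (Nat.card _)] at h1
  refine cube_of (q := 2 ^ (2 * m + 1)) Nat.prime_two rfl (Nat.coprime_one_left 2) h1 ?_ Nat.card_pos.ne'
  set q := 2 ^ (2 * m + 1)
  have h0 : 0 < q := by omega
  have h2 : q - 1 < q := by omega
  have h3 : q ^ 3 + 1 ≤ q ^ 4 := by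
    have : 1 ≤ q ^ 3 := Nat.one_le_pow _ _ h0
    calc q ^ 3 + 1 ≤ q ^ 3 * 2 := by omega
      _ ≤ q ^ 3 * q := Nat.mul_le_mul_left _ hq2
      _ = q ^ 4 := by ring
  have h4 : q ^ 4 - 1 ≤ q ^ 4 := Nat.sub_le _ _
  have h5 : q ^ 6 + 1 ≤ q ^ 7 := by
    have : 1 ≤ q ^ 6 := Nat.one_le_pow _ _ h0
    calc q ^ 6 + 1 ≤ q ^ 6 * 2 := by omega
      _ ≤ q ^ 6 * q := Nat.mul_le_mul_left _ hq2
      _ = q ^ 7 := by ring
  calc (q - 1) * ((q ^ 3 + 1) * ((q ^ 4 - 1) * (q ^ 6 + 1)))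
      ≤ (q - 1) * (q ^ 4 * (q ^ 4 * q ^ 7)) :=
        Nat.mul_le_mul_left _ (Nat.mul_le_mul h3 (Nat.mul_le_mul h4 h5))
    _ < q * (q ^ 4 * (q ^ 4 * q ^ 7)) := Nat.mul_lt_mul_of_pos_right h2 (by positivity)
    _ = q ^ 16 := by ring
    _ ≤ q ^ (2 * 12) := Nat.pow_le_pow_right h0 (by norm_num)

/-- **`|X| < |X|₂ ^ 3`**, `X` of Lie type in characteristic 2. -/
theorem card_lt_cube_two {X : Type*} [Group X] (h : IsLieTypeChar 2 X) :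
    Nat.card X < (ordProj[2] (Nat.card X)) ^ 3 := by
  have hp := Nat.prime_two
  rcases h with h | h | h | h | h | h | h | h | ⟨-, h⟩ | ⟨-, h⟩ | ⟨hp', h⟩
  · obtain ⟨F, _, _, _, n, h1, h2, ⟨f⟩⟩ := h
    rw [Nat.card_congr f.toEquiv]
    exact psl hp h1
  · obtain ⟨F, _, _, _, m, h1, h2, ⟨f⟩⟩ := h
    rw [Nat.card_congr f.toEquiv]
    exact psp hp h1
  · obtain ⟨F, _, _, _, n, q, h1, h2, h3, ⟨f⟩⟩ := h
    rw [Nat.card_congr f.toEquiv]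
    exact psu hp h1 h2
  · exfalso
    obtain ⟨F, i1, i2, i3, m, h1, h2, ⟨f⟩⟩ := h
    obtain ⟨k, hk, hq⟩ := exists_pow (F := F) hp
    rw [hq] at h2
    exact (Nat.not_even_iff_odd.2 h2) (Nat.even_pow.2 ⟨even_two, hk⟩)
  · obtain ⟨F, i1, i2, i3, m, h1, ⟨f⟩⟩ := h
    rw [Nat.card_congr f.toEquiv]
    exact pomegaPlus hp h1
  · obtain ⟨F, i1, i2, i3, m, a, b, h1, h2, ⟨f⟩⟩ := h
    rw [Nat.card_congr f.toEquiv]
    exact pomegaMinus hp h1 a b h2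
  · obtain ⟨F, i1, i2, i3, h⟩ := h
    rcases h with ⟨h1, ⟨f⟩⟩ | ⟨⟨f⟩⟩ | ⟨⟨f⟩⟩ | ⟨⟨f⟩⟩ | ⟨⟨f⟩⟩
    · rw [Nat.card_congr f.toEquiv]; exact g2 hp
    · rw [Nat.card_congr f.toEquiv]; exact f4 hp
    · rw [Nat.card_congr f.toEquiv]; exact e6 hp
    · rw [Nat.card_congr f.toEquiv]; exact e7 hp
    · rw [Nat.card_congr f.toEquiv]; exact e8 hp
  · obtain ⟨F, i1, i2, i3, q, hq, h⟩ := h
    rcases h with ⟨h1, ⟨f⟩⟩ | ⟨h1, ⟨f⟩⟩
    · rw [Nat.card_congr f.toEquiv]; exact twE6 hp hq h1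
    · rw [Nat.card_congr f.toEquiv]; exact twD4 hp hq h1
  · obtain ⟨F, _, _, m, h1, h2, ⟨f⟩⟩ := h
    rw [Nat.card_congr f.toEquiv]
    exact suz h1 h2
  · obtain ⟨F, _, _, m, h1, h2, ⟨f⟩⟩ := h
    rw [Nat.card_congr f.toEquiv]
    exact twF4 h2
  · exact absurd hp' (by norm_num)

/-- **Characteristic 2.** -/
theorem cube {X : Type*} [Group X] [Finite X] (h : IsLieTypeChar 2 X) (he : Even (Nat.card X)) (h1 : OneC X) : Cube X :=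
  cube_of_sylow h1 he (card_lt_cube_two h)

end Cfsg.Agent.H131.CharTwo
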