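import Mathlib
import Cfsg.Agent.H131.Tools
import Cfsg.Agent.Phan.Ext
import Cfsg.Agent.LieClassical.SUBasic
import Cfsg.Agent.LieClassical.OmegaCenter
import Cfsg.Agent.ClassicalGeometry.SympInvolutions
import Cfsg.Agent.ClassicalGeometry.OddInvolutions

/-!
# Two classes of involutions in classical groups of odd characteristic (helper131)

* `not_one_of_rank`, `not_one_of_neg` : general criteria for `S / Z(S)`, `S` a group of matrices with scalar centre;
* `sl`, `su` : `PSL_n(q)`, `PSU_n(q)`, `n ≥ 5`;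
* `sp` : `PSp_2m(q)`, `m ≥ 2`.
-/

set_option autoImplicit false

namespace Cfsg.Agent.H131.ClassTwo

open Subgroup Matrix Cfsg Cfsg.Agent.H131.OneClass Cfsg.Agent.H131.Tools

section general

variable {S : Type*} [Group S] {ι : Type*} [Fintype ι] [DecidableEq ι] {F : Type*} [Field F]

theorem rank_conj {X X' A : Matrix ι ι F} (h : X * X' = 1) : (X * A * X').rank = A.rank := by
  have h' : X' * X = 1 := mul_eq_one_comm.1 h
  apply le_antisymm
  · exact (rank_mul_le_left _ _).trans (rank_mul_le_right _ _)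
  · have : A = X' * (X * A * X') * X := by
      calc A = (X' * X) * A * (X' * X) := by rw [h', one_mul, mul_one]
        _ = _ := by simp only [Matrix.mul_assoc]
    conv_lhs => rw [this]
    exact (rank_mul_le_left _ _).trans (rank_mul_le_right _ _)

theorem rank_neg' (A : Matrix ι ι F) : (-A).rank = A.rank := by
  have h : ∀ B : Matrix ι ι F, (-B).rank ≤ B.rank := fun B => by
    have : -B = B * (-1) := by rw [Matrix.mul_neg, Matrix.mul_one]
    rw [this]
    exact rank_mul_le_left _ _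
  apply le_antisymm (h A)
  have := h (-A)
  rwa [neg_neg] at this

/-- the image of `g` is an involution -/
theorem inv_quot (ρ : S →* Matrix ι ι F) (hz : ∀ z ∈ center S, ∃ c : F, ρ z = c • 1) {g : S}
    (h : g * g ∈ center S) (hn : ∀ c : F, ρ g ≠ c • 1) : orderOf (QuotientGroup.mk g : S ⧸ center S) = 2 := by
  apply inv_of
  · rw [Ne, QuotientGroup.eq_one_iff]
    intro hg
    obtain ⟨c, hc⟩ := hz g hg
    exact hn c hc
  · rw [← QuotientGroup.mk_mul, QuotientGroup.eq_one_iff]; exact h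

/-- conjugacy in the quotient -/
theorem conj_quot (ρ : S →* Matrix ι ι F) (hz : ∀ z ∈ center S, ∃ c : F, ρ z = c • 1) {g₁ g₂ : S}
    (h : IsConj (QuotientGroup.mk g₁ : S ⧸ center S) (QuotientGroup.mk g₂)) :
    ∃ (X X' : Matrix ι ι F) (z : S) (c : F), X * X' = 1 ∧ z ∈ center S ∧ ρ z = c • 1 ∧ X * ρ g₁ * X' = c • ρ g₂ := by
  obtain ⟨x, hx⟩ := isConj_iff.1 h
  obtain ⟨y, rfl⟩ := QuotientGroup.mk_surjective x
  rw [← QuotientGroup.mk_inv, ← QuotientGroup.mk_mul, ← QuotientGroup.mk_mul, QuotientGroup.eq] at hx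
  obtain ⟨c, hc⟩ := hz _ ((center S).inv_mem hx)
  refine ⟨ρ y, ρ y⁻¹, _, c, by rw [← map_mul, mul_inv_cancel, map_one], (center S).inv_mem hx, hc, ?_⟩
  rw [← map_mul, ← map_mul]
  have h1 : y * g₁ * y⁻¹ = g₂ * ((y * g₁ * y⁻¹)⁻¹ * g₂)⁻¹ := by group
  rw [h1, map_mul, hc, Matrix.mul_smul, Matrix.mul_one]

/-- **First criterion.** -/
theorem not_one_of_rank (ρ : S →* Matrix ι ι F) (hz : ∀ z ∈ center S, ∃ c : F, ρ z = c • 1) {g₁ g₂ : S}
    (h₁ : g₁ * g₁ = 1) (h₂ : g₂ * g₂ = 1) (n₁ : ∀ c : F, ρ g₁ ≠ c • 1) (n₂ : ∀ c : F, ρ g₂ ≠ c • 1)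
    (hr : (ρ g₁ - 1).rank ≠ (ρ g₂ - 1).rank) (hr' : (ρ g₁ - 1).rank ≠ (ρ g₂ + 1).rank) : ¬ OneC (S ⧸ center S) := by
  intro h
  obtain ⟨X, X', z, c, hX, -, -, he⟩ := conj_quot ρ hz (h _ _ (inv_quot ρ hz (by rw [h₁]; exact one_mem _) n₁)
    (inv_quot ρ hz (by rw [h₂]; exact one_mem _) n₂))
  have hX' : X' * X = 1 := mul_eq_one_comm.1 hX
  have hsq : (X * ρ g₁ * X') * (X * ρ g₁ * X') = 1 := by
    calc _ = X * ρ g₁ * (X' * X) * ρ g₁ * X' := by simp only [Matrix.mul_assoc]
      _ = X * (ρ g₁ * ρ g₁) * X' := by rw [hX', Matrix.mul_one]; simp only [Matrix.mul_assoc]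
      _ = 1 := by rw [← map_mul, h₁, map_one, Matrix.mul_one, hX]
  rw [he, Matrix.smul_mul, Matrix.mul_smul, ← map_mul, h₂, map_one, smul_smul] at hsq
  have hne : Nonempty ι := by
    by_contra hcon
    rw [not_nonempty_iff] at hcon
    exact n₁ 1 (Subsingleton.elim _ _)
  obtain ⟨i⟩ := hne
  have hc := congrFun (congrFun hsq i) i
  simp only [Matrix.smul_apply, Matrix.one_apply_eq, smul_eq_mul, mul_one] at hc
  rcases mul_self_eq_one_iff.1 hc with rfl | rfl
  · apply hr
    rw [one_smul] at he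
    rw [← he, ← rank_conj (A := ρ g₁ - 1) hX, Matrix.mul_sub, Matrix.sub_mul, Matrix.mul_one, hX]
  · apply hr'
    rw [neg_smul, one_smul] at he
    have h3 : ρ g₂ + 1 = -(X * (ρ g₁ - 1) * X') := by
      rw [Matrix.mul_sub, Matrix.sub_mul, Matrix.mul_one, hX, he]
      abel
    rw [h3, rank_neg', rank_conj hX]

/-- **Second criterion.** -/
theorem not_one_of_neg (ρ : S →* Matrix ι ι F) (hz : ∀ z ∈ center S, ∃ c : F, ρ z = c • 1)
    (hz' : ∀ z ∈ center S, ∀ c : F, ρ z = c • 1 → c * c ≠ -1) {g₁ g₂ : S}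
    (h₁ : g₁ * g₁ = 1) (h₂ : g₂ * g₂ ∈ center S) (h₂' : ρ g₂ * ρ g₂ = -1) (n₁ : ∀ c : F, ρ g₁ ≠ c • 1)
    (n₂ : ∀ c : F, ρ g₂ ≠ c • 1) : ¬ OneC (S ⧸ center S) := by
  intro h
  obtain ⟨X, X', z, c, hX, hzc, hzz, he⟩ := conj_quot ρ hz (h _ _ (inv_quot ρ hz (by rw [h₁]; exact one_mem _) n₁)
    (inv_quot ρ hz h₂ n₂))
  have hX' : X' * X = 1 := mul_eq_one_comm.1 hX
  have hsq : (X * ρ g₁ * X') * (X * ρ g₁ * X') = 1 := by
    calc _ = X * ρ g₁ * (X' * X) * ρ g₁ * X' := by simp only [Matrix.mul_assoc]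
      _ = X * (ρ g₁ * ρ g₁) * X' := by rw [hX', Matrix.mul_one]; simp only [Matrix.mul_assoc]
      _ = 1 := by rw [← map_mul, h₁, map_one, Matrix.mul_one, hX]
  rw [he, Matrix.smul_mul, Matrix.mul_smul, h₂', smul_smul, smul_neg] at hsq
  have hne : Nonempty ι := by
    by_contra hcon
    rw [not_nonempty_iff] at hcon
    exact n₁ 1 (Subsingleton.elim _ _)
  obtain ⟨i⟩ := hne
  have hc := congrFun (congrFun hsq i) i
  simp only [Matrix.neg_apply, Matrix.smul_apply, Matrix.one_apply_eq, smul_eq_mul, mul_one] at hc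
  exact hz' z hzc c hzz (by rw [← hc, neg_neg])

end general

/-! ### Sign vectors -/

section sign

variable {F : Type*} [Field F] {n : ℕ}

/-- `-1` on the first `k` coordinates -/
def sg (F : Type*) [Field F] (n k : ℕ) : Fin n → F := fun i => if (i : ℕ) < k then -1 else 1

theorem sg_sq (k : ℕ) (i : Fin n) : sg F n k i * sg F n k i = 1 := by
  unfold sg; split_ifs <;> ring

theorem card_lt (k : ℕ) (hk : k ≤ n) : Fintype.card {i : Fin n // (i : ℕ) < k} = k := by
  have : Fintype.card {i : Fin n // (i : ℕ) < k} = Fintype.card (Fin k) :=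
    Fintype.card_congr
      { toFun := fun i => ⟨i.1, i.2⟩
        invFun := fun i => ⟨⟨i, by omega⟩, i.2⟩
        left_inv := fun i => rfl
        right_inv := fun i => rfl }
  rw [this, Fintype.card_fin]

theorem sg_prod (k : ℕ) (hk : k ≤ n) (he : Even k) : ∏ i, sg F n k i = 1 := by
  unfold sg
  rw [Finset.prod_ite, Finset.prod_const, Finset.prod_const_one, mul_one, ← Fintype.card_subtype, card_lt k hk,
    he.neg_one_pow]

theorem rank_sub (h2 : (2 : F) ≠ 0) (k : ℕ) (hk : k ≤ n) : (diagonal (sg F n k) - 1).rank = k := by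
  classical
  rw [← diagonal_one, diagonal_sub, Matrix.rank_diagonal]
  conv_rhs => rw [← card_lt (n := n) k hk]
  apply Fintype.card_congr
  apply Equiv.subtypeEquivRight
  intro i
  unfold sg
  split_ifs with h
  · simp only [h, iff_true]
    intro e
    apply h2
    linear_combination -e
  · simp [h]

theorem rank_add (h2 : (2 : F) ≠ 0) (k : ℕ) (hk : k ≤ n) : (diagonal (sg F n k) + 1).rank = n - k := by
  classical
  rw [← diagonal_one, diagonal_add, Matrix.rank_diagonal]
  have h1 : Fintype.card {i : Fin n // ¬ (i : ℕ) < k} = n - k := by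
    rw [Fintype.card_subtype_compl, card_lt k hk, Fintype.card_fin]
  rw [← h1]
  apply Fintype.card_congr
  apply Equiv.subtypeEquivRight
  intro i
  unfold sg
  split_ifs with h
  · simp [h]
  · simp only [h, not_false_eq_true, iff_true]
    intro e
    apply h2
    linear_combination e

theorem not_scalar (h2 : (2 : F) ≠ 0) (k : ℕ) (hk0 : 0 < k) (hk : k < n) (c : F) : diagonal (sg F n k) ≠ c • 1 := by
  intro h
  have h0 := congrFun (congrFun h ⟨0, by omega⟩) ⟨0, by omega⟩
  have h1 := congrFun (congrFun h ⟨k, hk⟩) ⟨k, hk⟩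
  simp only [diagonal_apply_eq, Matrix.smul_apply, Matrix.one_apply_eq, smul_eq_mul, mul_one, sg, hk0, if_true,
    lt_irrefl, if_false] at h0 h1
  apply h2
  rw [← h1] at h0
  linear_combination -h0

end sign

/-! ### `J` in dimension 6 -/

section J

variable (F : Type*) [Field F]

def J2 : Matrix (Fin 2) (Fin 2) F := !![0, -1; 1, 0]

theorem J2_sq : J2 F * J2 F = -1 := by
  ext i j
  fin_cases i <;> fin_cases j <;> simp [J2, Matrix.mul_apply, Fin.sum_univ_two]

theorem J2_det : (J2 F).det = 1 := by simp [J2, Matrix.det_fin_two]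

theorem J2_tr : (J2 F)ᵀ = -J2 F := by
  ext i j
  fin_cases i <;> fin_cases j <;> simp [J2]

theorem J2_map (f : F →+* F) : (J2 F).map f = J2 F := by
  ext i j
  fin_cases i <;> fin_cases j <;> simp [J2]

noncomputable def e6 : Fin 2 × Fin 3 ≃ Fin 6 := Fintype.equivFinOfCardEq (by simp)

noncomputable def J6 : Matrix (Fin 6) (Fin 6) F :=
  Matrix.reindex e6 e6 (blockDiagonal fun _ : Fin 3 => J2 F)

theorem J6_sq : J6 F * J6 F = -1 := by
  unfold J6
  rw [Matrix.reindex_apply, Matrix.submatrix_mul_equiv, ← blockDiagonal_mul]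
  have h1 : (fun _ : Fin 3 => J2 F * J2 F) = -(fun _ : Fin 3 => (1 : Matrix (Fin 2) (Fin 2) F)) := by
    funext i
    rw [J2_sq]; rfl
  have h2 : (blockDiagonal fun _ : Fin 3 => J2 F * J2 F) = -1 := by
    rw [h1, blockDiagonal_neg]
    congr 1
    exact blockDiagonal_one
  rw [h2, Matrix.submatrix_neg, Pi.neg_apply, Pi.neg_apply, Matrix.submatrix_one_equiv]

theorem J6_det : (J6 F).det = 1 := by
  unfold J6
  rw [Matrix.det_reindex_self, Matrix.det_blockDiagonal, J2_det, Finset.prod_const_one]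

theorem J6_tr : (J6 F)ᵀ = -J6 F := by
  unfold J6
  rw [Matrix.reindex_apply, Matrix.transpose_submatrix, Matrix.blockDiagonal_transpose]
  have h1 : (fun k : Fin 3 => (J2 F)ᵀ) = -(fun _ : Fin 3 => J2 F) := by
    funext i; rw [J2_tr]; rfl
  rw [h1, blockDiagonal_neg]; rfl

theorem J6_map (f : F →+* F) : (J6 F).map f = J6 F := by
  unfold J6
  rw [Matrix.reindex_apply, ← Matrix.submatrix_map, Matrix.blockDiagonal_map _ _ (map_zero f)]
  simp only [J2_map]

end J

/-! ### `PSL_n(q)` -/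

section sl

variable {F : Type*} [Field F] {n : ℕ}

def toM (n : ℕ) (F : Type*) [Field F] : SpecialLinearGroup (Fin n) F →* Matrix (Fin n) (Fin n) F where
  toFun g := g.1
  map_one' := rfl
  map_mul' _ _ := rfl

theorem sl_center {z : SpecialLinearGroup (Fin n) F} (hz : z ∈ center (SpecialLinearGroup (Fin n) F)) :
    ∃ c : F, c ^ n = 1 ∧ toM n F z = c • 1 := by
  obtain ⟨r, hr, h⟩ := Matrix.SpecialLinearGroup.mem_center_iff.1 hz
  refine ⟨r, by rwa [Fintype.card_fin] at hr, ?_⟩
  change z.1 = _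
  rw [← h, Matrix.scalar_apply, ← Matrix.smul_one_eq_diagonal]

def dgSL (k : ℕ) (hk : k ≤ n) (he : Even k) : SpecialLinearGroup (Fin n) F :=
  ⟨diagonal (sg F n k), by rw [det_diagonal, sg_prod k hk he]⟩

theorem toM_dgSL (k : ℕ) (hk : k ≤ n) (he : Even k) :
    toM n F (dgSL k hk he) = diagonal (sg F n k) := rfl

theorem dgSL_sq (k : ℕ) (hk : k ≤ n) (he : Even k) : (dgSL k hk he : SpecialLinearGroup (Fin n) F) * dgSL k hk he = 1 := by
  apply Subtype.ext
  change diagonal (sg F n k) * diagonal (sg F n k) = 1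
  rw [diagonal_mul_diagonal, ← diagonal_one]
  congr 1
  funext i
  exact sg_sq k i

theorem sl (h2 : (2 : F) ≠ 0) (hn : 5 ≤ n) : ¬ OneC (ProjectiveSpecialLinearGroup (Fin n) F) := by
  have hz : ∀ z ∈ center (SpecialLinearGroup (Fin n) F), ∃ c : F, toM n F z = c • 1 := fun z hz => by
    obtain ⟨c, -, h⟩ := sl_center hz
    exact ⟨c, h⟩
  by_cases h6 : n = 6
  · subst h6
    let J : SpecialLinearGroup (Fin 6) F := ⟨J6 F, J6_det F⟩
    have hJ : toM 6 F J * toM 6 F J = -1 := J6_sq F
    refine not_one_of_neg (toM 6 F) hz ?_ (g₁ := dgSL 2 (by norm_num) even_two) (g₂ := J)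
      (dgSL_sq _ _ _) ?_ hJ ?_ ?_
    · intro z hz c hc hcc
      obtain ⟨d, hd, hd'⟩ := sl_center hz
      have hcd : c = d := by
        rw [hc] at hd'
        have := congrFun (congrFun hd' 0) 0
        simpa using this
      subst hcd
      apply h2
      have : c ^ 6 = (c * c) ^ 3 := by ring
      rw [this, hcc] at hd
      linear_combination -hd
    · rw [Matrix.SpecialLinearGroup.mem_center_iff]
      refine ⟨-1, by rw [Fintype.card_fin]; norm_num, ?_⟩
      change _ = J6 F * J6 F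
      rw [J6_sq, Matrix.scalar_apply, ← Matrix.smul_one_eq_diagonal, neg_smul, one_smul]
    · intro c
      rw [toM_dgSL]
      exact not_scalar h2 2 (by norm_num) (by norm_num) c
    · intro c hc
      have h1 : (J6 F)ᵀ = -J6 F := J6_tr F
      have h3 : J6 F = c • 1 := hc
      rw [h3, Matrix.transpose_smul, Matrix.transpose_one] at h1
      have h4 := congrFun (congrFun h1 0) 0
      simp only [Matrix.smul_apply, Matrix.one_apply_eq, smul_eq_mul, mul_one, Matrix.neg_apply] at h4
      have h5 : c = 0 := by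
        have : 2 * c = 0 := by linear_combination h4
        exact (mul_eq_zero.1 this).resolve_left h2
      have h6 := J6_det F
      rw [h3, h5, zero_smul, Matrix.det_zero] at h6
      exact zero_ne_one h6
  · refine not_one_of_rank (toM n F) hz (g₁ := dgSL 2 (by omega) even_two) (g₂ := dgSL 4 (by omega) (by decide))
      (dgSL_sq _ _ _) (dgSL_sq _ _ _) ?_ ?_ ?_ ?_
    · intro c; rw [toM_dgSL]; exact not_scalar h2 2 (by norm_num) (by omega) c
    · intro c; rw [toM_dgSL]; exact not_scalar h2 4 (by norm_num) (by omega) c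
    · rw [toM_dgSL, toM_dgSL, rank_sub h2 2 (by omega), rank_sub h2 4 (by omega)]; norm_num
    · rw [toM_dgSL, toM_dgSL, rank_sub h2 2 (by omega), rank_add h2 4 (by omega)]; omega

end sl

/-! ### `PSU_n(q)` -/

section su

open Cfsg.Agent.Phan Cfsg.Agent.LieClassical.SUBasic

variable {F : Type*} [Field F] [Fintype F] {n q : ℕ}

def toU (n : ℕ) (F : Type*) [Field F] (q : ℕ) : SU n F q →* Matrix (Fin n) (Fin n) F where
  toFun g := mat g
  map_one' := rfl
  map_mul' _ _ := rfl

theorem su_center (hF : Fintype.card F = q ^ 2) (hn : 3 ≤ n) {z : SU n F q} (hz : z ∈ center (SU n F q)) :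
    ∃ c : F, c ^ n = 1 ∧ toU n F q z = c • 1 := by
  obtain ⟨r, hr, hr', h⟩ := (mem_center_SU_iff hF hn z).1 hz
  refine ⟨r, hr, ?_⟩
  rw [h, Matrix.smul_one_eq_diagonal]
  exact coe_suScalar q r hr hr'

omit [Fintype F] in
theorem sg_norm (hq : Odd q) (k : ℕ) (i : Fin n) : sg F n k i ^ (q + 1) = 1 := by
  have h : Even (q + 1) := hq.add_one
  unfold sg
  split_ifs
  · exact h.neg_one_pow
  · exact one_pow _

def dgSU (hq : Odd q) (k : ℕ) (hk : k ≤ n) (he : Even k) : SU n F q :=
  suDiag q (sg F n k) (sg_prod k hk he) (sg_norm hq k)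

omit [Fintype F] in
theorem toU_dgSU (hq : Odd q) (k : ℕ) (hk : k ≤ n) (he : Even k) :
    toU n F q (dgSU hq k hk he) = diagonal (sg F n k) :=
  coe_suDiag q (sg F n k) (sg_prod k hk he) (sg_norm hq k)

omit [Fintype F] in
theorem dgSU_sq (hq : Odd q) (k : ℕ) (hk : k ≤ n) (he : Even k) : (dgSU hq k hk he : SU n F q) * dgSU hq k hk he = 1 := by
  apply mat_inj
  rw [mat_mul, mat_one]
  change toU n F q (dgSU hq k hk he) * toU n F q (dgSU hq k hk he) = 1
  rw [toU_dgSU, diagonal_mul_diagonal, ← diagonal_one]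
  congr 1
  funext i
  exact sg_sq k i

theorem su (hF : Fintype.card F = q ^ 2) (hq : Odd q) (h2 : (2 : F) ≠ 0) (hn : 5 ≤ n) : ¬ OneC (PSU n F q) := by
  have hz : ∀ z ∈ center (SU n F q), ∃ c : F, toU n F q z = c • 1 := fun z hz => by
    obtain ⟨c, -, h⟩ := su_center hF (by omega) hz
    exact ⟨c, h⟩
  by_cases h6 : n = 6
  · subst h6
    let J : SU 6 F q := mk (J6 F) (J6_det F) (by
      rw [Cfsg.Agent.LieClassical.GUOrder.mul_map_eq_one_iff hF, J6_tr, J6_map, Matrix.neg_mul, J6_sq, neg_neg])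
    have hJm : toU 6 F q J = J6 F := rfl
    have hJ : toU 6 F q J * toU 6 F q J = -1 := J6_sq F
    refine not_one_of_neg (toU 6 F q) hz ?_ (g₁ := dgSU hq 2 (by norm_num) even_two) (g₂ := J)
      (dgSU_sq _ _ _ _) ?_ hJ ?_ ?_
    · intro z hz c hc hcc
      obtain ⟨d, hd, hd'⟩ := su_center hF (by norm_num) hz
      have hcd : c = d := by
        rw [hc] at hd'
        have := congrFun (congrFun hd' 0) 0
        simpa using this
      subst hcd
      apply h2
      have : c ^ 6 = (c * c) ^ 3 := by ring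
      rw [this, hcc] at hd
      linear_combination -hd
    · rw [mem_center_SU_iff hF (by norm_num)]
      have h1 : (-1 : F) ^ 6 = 1 := by norm_num
      have h3 : (-1 : F) ^ (q + 1) = 1 := hq.add_one.neg_one_pow
      refine ⟨-1, h1, h3, ?_⟩
      apply mat_inj
      have h4 : mat (suScalar q (-1) h1 h3 : SU 6 F q) = diagonal (fun _ => -1) := coe_suScalar q (-1) h1 h3
      rw [h4, mat_mul]
      change J6 F * J6 F = _
      rw [J6_sq, ← Matrix.smul_one_eq_diagonal, neg_smul, one_smul]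
    · intro c
      rw [toU_dgSU]
      exact not_scalar h2 2 (by norm_num) (by norm_num) c
    · intro c hc
      have h1 : (J6 F)ᵀ = -J6 F := J6_tr F
      have h3 : J6 F = c • 1 := hc
      rw [h3, Matrix.transpose_smul, Matrix.transpose_one] at h1
      have h4 := congrFun (congrFun h1 0) 0
      simp only [Matrix.smul_apply, Matrix.one_apply_eq, smul_eq_mul, mul_one, Matrix.neg_apply] at h4
      have h5 : c = 0 := by
        have : 2 * c = 0 := by linear_combination h4
        exact (mul_eq_zero.1 this).resolve_left h2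
      have h6 := J6_det F
      rw [h3, h5, zero_smul, Matrix.det_zero] at h6
      exact zero_ne_one h6
  · refine not_one_of_rank (toU n F q) hz (g₁ := dgSU hq 2 (by omega) even_two) (g₂ := dgSU hq 4 (by omega) (by decide))
      (dgSU_sq _ _ _ _) (dgSU_sq _ _ _ _) ?_ ?_ ?_ ?_
    · intro c; rw [toU_dgSU]; exact not_scalar h2 2 (by norm_num) (by omega) c
    · intro c; rw [toU_dgSU]; exact not_scalar h2 4 (by norm_num) (by omega) c
    · rw [toU_dgSU, toU_dgSU, rank_sub h2 2 (by omega), rank_sub h2 4 (by omega)]; norm_num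
    · rw [toU_dgSU, toU_dgSU, rank_sub h2 2 (by omega), rank_add h2 4 (by omega)]; omega

end su

/-! ### `PSp_2m(q)` -/

section sp

variable {F : Type*} [Field F] {m : ℕ}

def toS (m : ℕ) (F : Type*) [Field F] : symplecticGroup (Fin m) F →* Matrix (Fin m ⊕ Fin m) (Fin m ⊕ Fin m) F :=
  (symplecticGroup (Fin m) F).subtype

theorem sp_center {z : symplecticGroup (Fin m) F} (hz : z ∈ center (symplecticGroup (Fin m) F)) :
    ∃ c : F, c * c = 1 ∧ toS m F z = c • 1 := by
  rcases Cfsg.Agent.ClassicalGeometry.SympInvolutions.center_eq hz with h | h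
  · exact ⟨1, by ring, by rw [one_smul]; exact h⟩
  · exact ⟨-1, by ring, by rw [neg_smul, one_smul]; exact h⟩

def dgSp (m : ℕ) (F : Type*) [Field F] (k : ℕ) : symplecticGroup (Fin m) F :=
  ⟨fromBlocks (diagonal (sg F m k)) 0 0 (diagonal (sg F m k)), by
    have h : diagonal (sg F m k) * diagonal (sg F m k) = 1 := by
      rw [diagonal_mul_diagonal, ← diagonal_one]
      congr 1
      funext i
      exact sg_sq k i
    rw [SymplecticGroup.mem_iff, Matrix.J, fromBlocks_transpose, fromBlocks_multiply, fromBlocks_multiply]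
    simp only [Matrix.mul_zero, Matrix.zero_mul, add_zero, zero_add, diagonal_transpose, Matrix.transpose_zero,
      Matrix.mul_neg, Matrix.mul_one, Matrix.neg_mul, neg_zero, h]⟩

theorem sp (h2 : (2 : F) ≠ 0) (hm : 2 ≤ m) : ¬ OneC (PSp m F) := by
  have h : diagonal (sg F m 1) * diagonal (sg F m 1) = 1 := by
    rw [diagonal_mul_diagonal, ← diagonal_one]
    congr 1
    funext i
    exact sg_sq 1 i
  refine not_one_of_neg (toS m F) (fun z hz => ?_) (fun z hz c hc hcc => ?_) (g₁ := dgSp m F 1)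
    (g₂ := SymplecticGroup.symJ (Fin m) F) ?_ ?_ (Matrix.J_squared (Fin m) F) ?_ ?_
  · obtain ⟨c, -, h⟩ := sp_center hz
    exact ⟨c, h⟩
  · obtain ⟨d, hd, hd'⟩ := sp_center hz
    have hcd : c = d := by
      rw [hc] at hd'
      have := congrFun (congrFun hd' (Sum.inl ⟨0, by omega⟩)) (Sum.inl ⟨0, by omega⟩)
      simpa using this
    subst hcd
    apply h2
    rw [hcc] at hd
    linear_combination -hd
  · apply Subtype.ext
    change fromBlocks (diagonal (sg F m 1)) 0 0 (diagonal (sg F m 1)) *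
      fromBlocks (diagonal (sg F m 1)) 0 0 (diagonal (sg F m 1)) = 1
    rw [fromBlocks_multiply]
    simp only [Matrix.mul_zero, Matrix.zero_mul, add_zero, zero_add, h, fromBlocks_one]
  · have : (SymplecticGroup.symJ (Fin m) F) * (SymplecticGroup.symJ (Fin m) F) =
        Cfsg.Agent.ClassicalGeometry.SympInvolutions.negOne m F := by
      apply Subtype.ext
      exact Matrix.J_squared (Fin m) F
    rw [this]
    exact Cfsg.Agent.ClassicalGeometry.SympInvolutions.negOne_mem_center
  · intro c hc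
    have h0 := congrFun (congrFun hc (Sum.inl ⟨0, by omega⟩)) (Sum.inl ⟨0, by omega⟩)
    have h1 := congrFun (congrFun hc (Sum.inl ⟨1, by omega⟩)) (Sum.inl ⟨1, by omega⟩)
    change fromBlocks (diagonal (sg F m 1)) 0 0 (diagonal (sg F m 1)) _ _ = _ at h0 h1
    simp [sg] at h0 h1
    apply h2
    rw [← h1] at h0
    linear_combination -h0
  · intro c hc
    have h0 := congrFun (congrFun hc (Sum.inl ⟨0, by omega⟩)) (Sum.inr ⟨0, by omega⟩)
    change Matrix.J (Fin m) F _ _ = _ at h0
    simp [Matrix.J] at h0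

end sp

end Cfsg.Agent.H131.ClassTwo
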