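import Cfsg.Agent.H166.Cov.Defs

/-!
# The elliptic case in dimension two (helper131, task F of S2483)
-/

set_option autoImplicit false

namespace Cfsg.Agent.H131.CovElliptic

open Module Polynomial Cfsg.Agent.H166.Cov

universe u

variable {F : Type u} [Field F] {V W U : Type u} [AddCommGroup V] [Module F V]
  [AddCommGroup W] [Module F W] [AddCommGroup U] [Module F U]

/-- a non-scalar endomorphism of a plane is a companion matrix -/
theorem comp_basis [FiniteDimensional F V] (hV : finrank F V = 2) {S : End F V} (hS : NS S) :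
    ∃ c : Basis (Fin 2) F V, LinearMap.toMatrix c c S = !![0, -LinearMap.det S; 1, LinearMap.trace F V S] := by
  obtain ⟨x, hx⟩ : ∃ x, LinearIndependent F ![x, S x] := by
    by_contra hcon
    push Not at hcon
    obtain ⟨a, ha⟩ := LinearMap.exists_eq_smul_id_of_forall_notLinearIndependent hcon
    exact hS a ha
  let c : Basis (Fin 2) F V := basisOfLinearIndependentOfCardEqFinrank hx (by rw [Fintype.card_fin, hV])
  have hc : ⇑c = ![x, S x] := coe_basisOfLinearIndependentOfCardEqFinrank _ _
  have h0 : c 0 = x := by rw [hc]; rfl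
  have h1 : c 1 = S x := by rw [hc]; rfl
  have hm : ∀ i j, LinearMap.toMatrix c c S i j = c.repr (S (c j)) i := fun i j => LinearMap.toMatrix_apply _ _ _ _ _
  have e00 : LinearMap.toMatrix c c S 0 0 = 0 := by
    rw [hm, h0, ← h1, Basis.repr_self]
    simp
  have e10 : LinearMap.toMatrix c c S 1 0 = 1 := by
    rw [hm, h0, ← h1, Basis.repr_self]
    simp
  have hdet := LinearMap.det_toMatrix c S
  have htr := LinearMap.trace_eq_matrix_trace F c S
  rw [Matrix.det_fin_two, e00, e10] at hdet
  rw [Matrix.trace_fin_two, e00] at htr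
  refine ⟨c, ?_⟩
  ext i j
  fin_cases i <;> fin_cases j
  · exact e00
  · show LinearMap.toMatrix c c S 0 1 = - LinearMap.det S
    linear_combination (-1 : F) * hdet
  · exact e10
  · show LinearMap.toMatrix c c S 1 1 = LinearMap.trace F V S
    linear_combination (-1 : F) * htr

/-- non-scalar endomorphisms of planes with the same trace and determinant are similar -/
theorem sim_of [FiniteDimensional F V] [FiniteDimensional F W] (hV : finrank F V = 2) (hW : finrank F W = 2)
    {S : End F V} {T : End F W} (hS : NS S) (hT : NS T) (ht : LinearMap.trace F V S = LinearMap.trace F W T)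
    (hd : LinearMap.det S = LinearMap.det T) : Sim S T := by
  obtain ⟨c, hc⟩ := comp_basis hV hS
  obtain ⟨d, hd'⟩ := comp_basis hW hT
  rw [ht, hd, ← hd'] at hc
  let e : V ≃ₗ[F] W := c.equiv d (Equiv.refl _)
  refine ⟨e, ?_⟩
  have key : (e : V →ₗ[F] W) ∘ₗ S = T ∘ₗ (e : V →ₗ[F] W) := by
    apply c.ext
    intro j
    have h1 : S (c j) = ∑ i, LinearMap.toMatrix c c S i j • c i := by
      rw [← c.sum_repr (S (c j))]
      simp [LinearMap.toMatrix_apply]
    have h2 : T (d j) = ∑ i, LinearMap.toMatrix d d T i j • d i := by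
      rw [← d.sum_repr (T (d j))]
      simp [LinearMap.toMatrix_apply]
    have h3 : ∀ i, e (c i) = d i := fun i => by simp [e]
    show e (S (c j)) = T (e (c j))
    rw [h3, h2, h1, map_sum, hc]
    exact Finset.sum_congr rfl fun i _ => by rw [map_smul, h3]
  intro x
  exact LinearMap.congr_fun key x

theorem charpoly_two [FiniteDimensional F V] (hV : finrank F V = 2) (S : End F V) :
    LinearMap.charpoly S = X ^ 2 - C (LinearMap.trace F V S) * X + C (LinearMap.det S) := by
  let c : Basis (Fin 2) F V := finBasisOfFinrankEq F V hV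
  rw [← LinearMap.charpoly_toMatrix S c, Matrix.charpoly_fin_two, LinearMap.det_toMatrix,
    LinearMap.trace_eq_matrix_trace F c S]

theorem trace_smul_one [FiniteDimensional F V] (hV : finrank F V = 2) (c : F) :
    LinearMap.trace F V (c • (1 : End F V)) = 2 * c := by
  rw [map_smul, LinearMap.trace_one, hV, smul_eq_mul]
  push_cast
  ring

theorem det_smul_one [FiniteDimensional F V] (hV : finrank F V = 2) (c : F) :
    LinearMap.det (c • (1 : End F V)) = c ^ 2 := by
  rw [LinearMap.det_smul, hV, map_one, mul_one]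

/-- the conic has a point -/
theorem conic [Finite F] {τ δ a b : F} (hroot : ∀ x : F, x ^ 2 - τ * x + δ ≠ 0) :
    ∃ s r : F, s ^ 2 - τ * s * r + δ * r ^ 2 - a * s + a * (τ - b) * r + b = 0 := by
  classical
  have : Fintype F := Fintype.ofFinite F
  by_cases h2 : (2 : F) = 0
  · have hsq : ∀ x : F, ∃ y : F, y ^ 2 = x := by
      intro x
      have hch : ringChar F = 2 := by
        have h3 : ringChar F ∣ 2 := ringChar.dvd (by exact_mod_cast h2)
        rcases (Nat.dvd_prime Nat.prime_two).1 h3 with h | h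
        · exfalso
          have := CharP.ringChar_ne_one (R := F)
          exact this h
        · exact h
      obtain ⟨y, hy⟩ := FiniteField.isSquare_of_char_two hch x
      exact ⟨y, by rw [hy]; ring⟩
    have hτ : τ ≠ 0 := by
      rintro rfl
      obtain ⟨y, hy⟩ := hsq (-δ)
      exact hroot y (by rw [hy]; ring)
    obtain ⟨s, hs⟩ := hsq (-(δ * (-a / τ) ^ 2 + a * (τ - b) * (-a / τ) + b))
    refine ⟨s, -a / τ, ?_⟩
    have h4 : τ * s * (-a / τ) = -a * s := by field_simp
    rw [hs, h4]
    linear_combination (0 : F) * h2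
  · obtain ⟨h, hh⟩ : ∃ h : F, 2 * h = 1 := ⟨2⁻¹, mul_inv_cancel₀ h2⟩
    have hD : δ - τ ^ 2 * h ^ 2 ≠ 0 := by
      intro h0
      apply hroot (τ * h)
      linear_combination h0 + (τ ^ 2 * h) * hh
    have hodd : Fintype.card F % 2 = 1 := by
      have h3 : ringChar F ≠ 2 := by
        intro h
        apply h2
        have := ringChar.Nat.cast_ringChar (R := F)
        rw [h] at this
        exact_mod_cast this
      exact FiniteField.odd_card_of_char_ne_two h3
    let f : F[X] := X ^ 2 - C a * X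
    let g : F[X] := C (δ - τ ^ 2 * h ^ 2) * X ^ 2 + C (a * (τ - b) - a * τ * h) * X + C b
    have hf : f.degree = 2 := by
      have : f = C 1 * X ^ 2 + C (-a) * X + C 0 := by
        simp only [f, map_neg, map_one, map_zero]
        ring
      rw [this]
      exact degree_quadratic one_ne_zero
    have hg : g.degree = 2 := degree_quadratic hD
    obtain ⟨s, r, hsr⟩ := FiniteField.exists_root_sum_quadratic hf hg hodd
    refine ⟨s + τ * h * r, r, ?_⟩
    simp only [f, g, eval_add, eval_sub, eval_mul, eval_pow, eval_X, eval_C] at hsr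
    linear_combination hsr + (τ * s * r + τ ^ 2 * h * r ^ 2) * hh

/-- **task F of S2483 (742): `elliptic`** -/
theorem elliptic [Finite F] [FiniteDimensional F V] (hV : finrank F V = 2) {M T : End F V}
    (hM : ∀ x, (LinearMap.charpoly M).eval x ≠ 0) (hT : NS T) (hdet : LinearMap.det M = LinearMap.det T ^ 2) :
    HP T 2 M := by
  obtain ⟨τ, hτ⟩ : ∃ τ, τ = LinearMap.trace F V M := ⟨_, rfl⟩
  obtain ⟨δ, hδ⟩ : ∃ δ, δ = LinearMap.det M := ⟨_, rfl⟩
  obtain ⟨a, ha⟩ : ∃ a, a = LinearMap.trace F V T := ⟨_, rfl⟩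
  obtain ⟨b, hb⟩ : ∃ b, b = LinearMap.det T := ⟨_, rfl⟩
  have hroot : ∀ x : F, x ^ 2 - τ * x + δ ≠ 0 := by
    intro x
    have h := hM x
    rw [charpoly_two hV M, ← hτ, ← hδ] at h
    simpa using h
  rw [← hδ, ← hb] at hdet
  have hNM : NS M := by
    intro c hc
    have h1 : τ = 2 * c := by rw [hτ, hc, trace_smul_one hV]
    have h2 : δ = c ^ 2 := by rw [hδ, hc, det_smul_one hV]
    apply hroot c
    rw [h1, h2]
    ring
  have hb0 : b ≠ 0 := by
    intro h0
    apply hroot 0
    rw [hdet, h0]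
    ring
  obtain ⟨c, hc⟩ := comp_basis hV hNM
  rw [← hτ, ← hδ] at hc
  obtain ⟨s, r, hsr⟩ := conic (a := a) (b := b) hroot
  -- the matrices
  obtain ⟨Mm, hMm⟩ : ∃ Mm : Matrix (Fin 2) (Fin 2) F, Mm = !![0, -δ; 1, τ] := ⟨_, rfl⟩
  obtain ⟨Ym, hYm⟩ : ∃ Ym : Matrix (Fin 2) (Fin 2) F,
    Ym = !![a - s, a * (τ - b) + δ * r - τ * s; r, s] := ⟨_, rfl⟩
  obtain ⟨Am, hAm⟩ : ∃ Am : Matrix (Fin 2) (Fin 2) F, Am = b⁻¹ • (Mm * (a • (1 : Matrix (Fin 2) (Fin 2) F) - Ym)) := ⟨_, rfl⟩
  have hYdet : Ym.det = b := by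
    rw [hYm, Matrix.det_fin_two_of]
    linear_combination (-1 : F) * hsr
  have hYtr : Ym.trace = a := by
    rw [hYm, Matrix.trace_fin_two_of]
    ring
  have hYY : (a • (1 : Matrix (Fin 2) (Fin 2) F) - Ym) * Ym = b • 1 := by
    ext i j
    rw [hYm]
    fin_cases i <;> fin_cases j <;> simp [Matrix.mul_apply, Fin.sum_univ_two]
    · linear_combination (-1 : F) * hsr
    · ring
    · ring
    · linear_combination (-1 : F) * hsr
  have hprod : Am * Ym = Mm := by
    rw [hAm, Matrix.smul_mul, mul_assoc, hYY, Matrix.mul_smul, mul_one, smul_smul, inv_mul_cancel₀ hb0, one_smul]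
  have hMdet : Mm.det = δ := by
    rw [hMm, Matrix.det_fin_two_of]
    ring
  have hAdet : Am.det = b := by
    have h1 : Am.det * Ym.det = Mm.det := by rw [← Matrix.det_mul, hprod]
    rw [hYdet, hMdet, hdet] at h1
    have h2 : Am.det * b = b * b := by rw [h1]; ring
    exact mul_right_cancel₀ hb0 h2
  have hAtr : Am.trace = a := by
    have h1 : (Mm * (a • (1 : Matrix (Fin 2) (Fin 2) F) - Ym)).trace = a * b := by
      rw [hMm, hYm, Matrix.trace_fin_two]
      simp [Matrix.mul_apply, Fin.sum_univ_two]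
      ring
    rw [hAm, Matrix.trace_smul, h1, smul_eq_mul]
    field_simp
  -- the linear maps
  obtain ⟨A, hA⟩ : ∃ A : End F V, LinearMap.toMatrix c c A = Am := ⟨Matrix.toLin c c Am, LinearMap.toMatrix_toLin _ _ _⟩
  obtain ⟨Y, hY⟩ : ∃ Y : End F V, LinearMap.toMatrix c c Y = Ym := ⟨Matrix.toLin c c Ym, LinearMap.toMatrix_toLin _ _ _⟩
  have hAY : A * Y = M := by
    apply (LinearMap.toMatrix c c).injective
    rw [LinearMap.toMatrix_mul, hA, hY, hprod, hc, hMm]
  have dA : LinearMap.det A = b := by rw [← LinearMap.det_toMatrix c A, hA, hAdet]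
  have dY : LinearMap.det Y = b := by rw [← LinearMap.det_toMatrix c Y, hY, hYdet]
  have tA : LinearMap.trace F V A = a := by rw [LinearMap.trace_eq_matrix_trace F c A, hA, hAtr]
  have tY : LinearMap.trace F V Y = a := by rw [LinearMap.trace_eq_matrix_trace F c Y, hY, hYtr]
  have key : ∀ (y : F) (Z : End F V), M = y • Z → LinearMap.trace F V Z = a → a = 2 * y → b = y ^ 2 → False := by
    intro y Z hZ hZt h1 h2
    apply hroot (y ^ 2)
    have h3 : τ = 2 * y ^ 2 := by
      rw [hτ, hZ, map_smul, hZt, h1, smul_eq_mul]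
      ring
    rw [h3, hdet, h2]
    ring
  have nA : NS A := by
    intro y hy
    refine key y Y ?_ tY ?_ ?_
    · rw [← hAY, hy, smul_mul_assoc, one_mul]
    · rw [← tA, hy, trace_smul_one hV]
    · rw [← dA, hy, det_smul_one hV]
  have nY : NS Y := by
    intro y hy
    refine key y A ?_ tA ?_ ?_
    · rw [← hAY, hy, mul_smul_comm, mul_one]
    · rw [← tY, hy, trace_smul_one hV]
    · rw [← dY, hy, det_smul_one hV]
  refine ⟨[A, Y], rfl, ?_, ?_⟩
  · intro Z hZ
    rw [List.mem_cons, List.mem_singleton] at hZ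
    rcases hZ with rfl | rfl
    · exact sim_of hV hV hT nA (by rw [← ha, tA]) (by rw [← hb, dA])
    · exact sim_of hV hV hT nY (by rw [← ha, tY]) (by rw [← hb, dY])
  · rw [List.prod_cons, List.prod_singleton, hAY]

end Cfsg.Agent.H131.CovElliptic
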