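import Mathlib
import Cfsg.Agent.H131.Tools
import Cfsg.Agent.GenExc.Data
import Cfsg.Agent.OddTab.GenRowsDone
import Cfsg.Agent.S1062
import Cfsg.Agent.S1063
import Cfsg.Agent.S1064
import Cfsg.Agent.S1065
import Cfsg.Agent.S1066

/-!
# The cube bound for `F₄`, `E₆`, `E₇`, `E₈`, `²E₆` in odd characteristic (helper131)

One component of the centralizer of an involution is large enough.
-/

set_option autoImplicit false

namespace Cfsg.Agent.H131.ExcBig

open Subgroup Cfsg Cfsg.Agent.H131.OneClass Cfsg.Agent.H131.Tools Cfsg.Agent.GenExc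

theorem of_compData {p q N : ℕ} {Y : Type*} [Group Y] [Finite Y] (h1 : OneC Y) (h : CompData p q N Y)
    (hlt : Nat.card Y < (q ^ N * q ^ N) ^ 3) : Cube Y := by
  obtain ⟨x, hx, -, L, hL, -, -, h2⟩ := h
  refine cube_of_le h1 ⟨x, hx, ?_⟩ hlt
  refine h2.trans ?_
  have h3 : Nat.card (↥L ⧸ center ↥L) ≤ Nat.card L := by
    rw [← Subgroup.index_eq_card]
    exact Nat.le_of_dvd Nat.card_pos (Subgroup.index_dvd_card _)
  refine h3.trans (Subgroup.card_le_of_le ?_)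
  exact hL.1

section

variable {K : Type} [Field K] [Fintype K] {p : ℕ} [Fact p.Prime] [CharP K p] (h2 : (2 : K) ≠ 0)

omit [Fact p.Prime] [CharP K p] in
theorem two_le_card : 2 ≤ Nat.card K := Finite.one_lt_card

include h2 p

theorem f4 (h1 : OneC ↥(Lie.chevF4.group K)) : Cube ↥(Lie.chevF4.group K) := by
  have hq := two_le_card (K := K)
  refine of_compData h1 (Chev.compData_F4 p h2) ?_
  have h := S1062.result (F := K) (q := Nat.card K) (by rw [Nat.card_eq_fintype_card])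
  set q := Nat.card K with hqd
  clear_value q
  rw [h]
  calc q ^ 24 * (q ^ 2 - 1) * (q ^ 6 - 1) * (q ^ 8 - 1) * (q ^ 12 - 1)
      ≤ q ^ 24 * q ^ 2 * q ^ 6 * q ^ 8 * q ^ 12 := by gcongr <;> exact Nat.sub_le _ _
    _ = q ^ 52 := by ring
    _ < q ^ 54 := Nat.pow_lt_pow_right (by omega) (by norm_num)
    _ = (q ^ 9 * q ^ 9) ^ 3 := by ring

theorem e6 (h1 : OneC ↥(Lie.chevE6.group K)) : Cube ↥(Lie.chevE6.group K) := by
  have hq := two_le_card (K := K)
  refine of_compData h1 (Chev.compData_E6 p h2) ?_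
  have h := S1063.result (F := K) (q := Nat.card K) (by rw [Nat.card_eq_fintype_card])
  set q := Nat.card K with hqd
  clear_value q
  have hg : 1 ≤ Nat.gcd 3 (q - 1) := Nat.gcd_pos_of_pos_left _ (by norm_num)
  calc Nat.card ↥(Lie.chevE6.group K) ≤ Nat.gcd 3 (q - 1) * Nat.card ↥(Lie.chevE6.group K) := Nat.le_mul_of_pos_left _ hg
    _ = q ^ 36 * (q ^ 2 - 1) * (q ^ 5 - 1) * (q ^ 6 - 1) * (q ^ 8 - 1) * (q ^ 9 - 1) * (q ^ 12 - 1) := h
    _ ≤ q ^ 36 * q ^ 2 * q ^ 5 * q ^ 6 * q ^ 8 * q ^ 9 * q ^ 12 := by gcongr <;> exact Nat.sub_le _ _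
    _ = q ^ 78 := by ring
    _ < q ^ 90 := Nat.pow_lt_pow_right (by omega) (by norm_num)
    _ = (q ^ 15 * q ^ 15) ^ 3 := by ring

theorem e7 (h1 : OneC ↥(Lie.chevE7.group K)) : Cube ↥(Lie.chevE7.group K) := by
  have hq := two_le_card (K := K)
  refine of_compData h1 (Chev.compData_E7 p h2) ?_
  have h := S1064.result (F := K) (q := Nat.card K) (by rw [Nat.card_eq_fintype_card])
  set q := Nat.card K with hqd
  clear_value q
  have hg : 1 ≤ Nat.gcd 2 (q - 1) := Nat.gcd_pos_of_pos_left _ (by norm_num)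
  calc Nat.card ↥(Lie.chevE7.group K) ≤ Nat.gcd 2 (q - 1) * Nat.card ↥(Lie.chevE7.group K) := Nat.le_mul_of_pos_left _ hg
    _ = q ^ 63 * (q ^ 2 - 1) * (q ^ 6 - 1) * (q ^ 8 - 1) * (q ^ 10 - 1) * (q ^ 12 - 1) * (q ^ 14 - 1) * (q ^ 18 - 1) := h
    _ ≤ q ^ 63 * q ^ 2 * q ^ 6 * q ^ 8 * q ^ 10 * q ^ 12 * q ^ 14 * q ^ 18 := by gcongr <;> exact Nat.sub_le _ _
    _ = q ^ 133 := by ring
    _ < q ^ 180 := Nat.pow_lt_pow_right (by omega) (by norm_num)
    _ = (q ^ 30 * q ^ 30) ^ 3 := by ring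

theorem e8 (h1 : OneC ↥(Lie.chevE8.group K)) : Cube ↥(Lie.chevE8.group K) := by
  have hq := two_le_card (K := K)
  refine of_compData h1 (Chev.compData_E8 p h2) ?_
  have h := S1065.result (F := K) (q := Nat.card K) (by rw [Nat.card_eq_fintype_card])
  set q := Nat.card K with hqd
  clear_value q
  rw [h]
  calc q ^ 120 * (q ^ 2 - 1) * (q ^ 8 - 1) * (q ^ 12 - 1) * (q ^ 14 - 1) * (q ^ 18 - 1) * (q ^ 20 - 1) * (q ^ 24 - 1) *
        (q ^ 30 - 1)
      ≤ q ^ 120 * q ^ 2 * q ^ 8 * q ^ 12 * q ^ 14 * q ^ 18 * q ^ 20 * q ^ 24 * q ^ 30 := by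
        gcongr <;> exact Nat.sub_le _ _
    _ = q ^ 248 := by ring
    _ < q ^ 378 := Nat.pow_lt_pow_right (by omega) (by norm_num)
    _ = (q ^ 63 * q ^ 63) ^ 3 := by ring

end

theorem twE6 {K : Type} [Field K] [Fintype K] {q : ℕ} (hodd : Odd q) (hK : Fintype.card K = q ^ 2)
    (h1 : OneC ↥(Lie.twistedE6 K q)) : Cube ↥(Lie.twistedE6 K q) := by
  obtain ⟨p, hpc⟩ := CharP.exists K
  have hp : p.Prime := (CharP.char_is_prime_or_zero K p).resolve_right (CharP.char_ne_zero_of_finite K p)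
  have : Fact p.Prime := ⟨hp⟩
  have hp' : ExpChar K p := ExpChar.prime hp
  obtain ⟨n, -, hn⟩ := FiniteField.card K p
  have h2 : (2 : K) ≠ 0 := Cfsg.Agent.OddHalf.LongSL.two_ne_of_odd (by rw [hK]; exact hodd.pow)
  have hp2 : p ≠ 2 := by
    rintro rfl
    exact h2 (by exact_mod_cast CharP.cast_eq_zero K 2)
  have hdvd : q ∣ p ^ (n : ℕ) := by
    rw [← hn, hK]
    exact dvd_pow_self q two_ne_zero
  obtain ⟨e, -, rfl⟩ := (Nat.dvd_prime_pow hp).1 hdvd
  have he : 0 < e := by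
    rcases Nat.eq_zero_or_pos e with rfl | h
    · exfalso
      rw [pow_zero, one_pow] at hK
      have := Fintype.one_lt_card (α := K)
      omega
    · exact h
  have hq3 : 3 ≤ p ^ e := by
    have h3 : 3 ≤ p := by
      have := hp.two_le
      omega
    exact h3.trans (Nat.le_self_pow he.ne' p)
  have hC : CompData p (p ^ e) 15 ↥(Lie.twistedE6 K (p ^ e)) := by
    refine TwE.compData (φ := iterateFrobenius K p e) (fun x => ?_) (fun t => ?_) p h2 hq3 hK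
    · exact iterateFrobenius_def p e x
    · rw [← pow_mul, ← pow_two, ← hK]
      exact FiniteField.pow_card t
  refine of_compData h1 hC ?_
  have h := S1066.result (K := K) (q := p ^ e) (hp.isPrimePow.pow he.ne') hK
  set q := p ^ e with hqd
  clear_value q
  have hg : 1 ≤ Nat.gcd 3 (q + 1) := Nat.gcd_pos_of_pos_left _ (by norm_num)
  have h5 : q ^ 5 + 1 ≤ q ^ 6 := by
    have : 1 ≤ q ^ 5 := Nat.one_le_pow _ _ (by omega)
    calc q ^ 5 + 1 ≤ q ^ 5 * 2 := by omega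
      _ ≤ q ^ 5 * q := by gcongr; omega
      _ = q ^ 6 := by ring
  have h9 : q ^ 9 + 1 ≤ q ^ 10 := by
    have : 1 ≤ q ^ 9 := Nat.one_le_pow _ _ (by omega)
    calc q ^ 9 + 1 ≤ q ^ 9 * 2 := by omega
      _ ≤ q ^ 9 * q := by gcongr; omega
      _ = q ^ 10 := by ring
  calc Nat.card ↥(Lie.twistedE6 K q) ≤ Nat.gcd 3 (q + 1) * Nat.card ↥(Lie.twistedE6 K q) := Nat.le_mul_of_pos_left _ hg
    _ = q ^ 36 * (q ^ 2 - 1) * (q ^ 5 + 1) * (q ^ 6 - 1) * (q ^ 8 - 1) * (q ^ 9 + 1) * (q ^ 12 - 1) := h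
    _ ≤ q ^ 36 * q ^ 2 * q ^ 6 * q ^ 6 * q ^ 8 * q ^ 10 * q ^ 12 := by
        gcongr <;> first | exact Nat.sub_le _ _ | assumption
    _ = q ^ 80 := by ring
    _ < q ^ 90 := Nat.pow_lt_pow_right (by omega) (by norm_num)
    _ = (q ^ 15 * q ^ 15) ^ 3 := by ring

end Cfsg.Agent.H131.ExcBig
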