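import Mathlib
import Cfsg.Agent.H131.ClassTwo
import Cfsg.Agent.H556.SLPair
import Cfsg.Agent.ClassificationK.GTwoChev
import Cfsg.Agent.GH.LowRankD4
import Cfsg.Agent.ChevalleyStructure.FixedCard
import Cfsg.Agent.OddTab.D4Short
import Cfsg.Agent.S0276
import Cfsg.Agent.S0243
import Cfsg.Agent.S1157
import Cfsg.Agent.S1059
import Cfsg.Agent.S1067
import Cfsg.Agent.S1069

/-!
# The cube bound for `G₂`, `³D₄`, `²G₂` in odd characteristic (helper131)
-/

set_option autoImplicit false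

namespace Cfsg.Agent.H131.ExcSmall

open Subgroup Matrix Cfsg Cfsg.Lie Cfsg.Agent.H131.OneClass Cfsg.Agent.H131.Tools Cfsg.Agent.H131.ClassTwo

/-- **Two commuting `SL₂`.** -/
theorem cube_of_pair {L : Type*} [Group L] [Finite L] (h1 : OneC L) {E F : Type*} [Field E] [Fintype E] [Field F]
    [Fintype F] (hE2 : (2 : E) ≠ 0) (f : SpecialLinearGroup (Fin 2) E →* L) (g : SpecialLinearGroup (Fin 2) F →* L)
    (hc : ∀ x y, f x * g y = g y * f x) (hf : f (-1) ≠ 1) (hg : Function.Injective g)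
    (hlt : Nat.card L * 8 < (Nat.card (SpecialLinearGroup (Fin 2) E) * Nat.card (SpecialLinearGroup (Fin 2) F)) ^ 3) :
    Cube L := by
  have hfi : Function.Injective f := H556.SLPair.injective_of_neg hE2 f hf
  have ht2 : f (-1) * f (-1) = 1 := by
    rw [← map_mul, neg_mul_neg, one_mul, map_one]
  have ht : orderOf (f (-1)) = 2 := inv_of hf ht2
  refine cube_of_two_hom h1 ht f g hc (fun h => ?_) (fun h => ?_) (d := 2) ?_ ?_
  · rw [← map_mul, ← map_mul, mul_neg, neg_mul, mul_one, one_mul]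
  · rw [hc]
  · have h3 : ∀ p : {p : SpecialLinearGroup (Fin 2) E × SpecialLinearGroup (Fin 2) F // f p.1 * g p.2 = 1},
        p.1.1 = 1 ∨ p.1.1 = -1 := by
      rintro ⟨⟨x, y⟩, h⟩
      simp only at h ⊢
      have hx : ∀ z, x * z = z * x := by
        intro z
        apply hfi
        rw [map_mul, map_mul]
        have e : f x = (g y)⁻¹ := eq_inv_of_mul_eq_one_left h
        rw [e]
        have := hc z y
        rw [inv_mul_eq_iff_eq_mul, ← mul_assoc, ← this, mul_assoc, mul_inv_cancel, mul_one]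
      have h4 : x ∈ center (SpecialLinearGroup (Fin 2) E) := mem_center_iff.2 fun z => (hx z).symm
      obtain ⟨c, hc, hc'⟩ := sl_center h4
      rw [sq] at hc
      rcases mul_self_eq_one_iff.1 hc with rfl | rfl
      · left; rw [one_smul] at hc'; exact Subtype.ext hc'
      · right; rw [neg_smul, one_smul] at hc'; exact Subtype.ext hc'
    have h4 : Nat.card {p : SpecialLinearGroup (Fin 2) E × SpecialLinearGroup (Fin 2) F // f p.1 * g p.2 = 1} ≤
        Nat.card ({1, -1} : Set (SpecialLinearGroup (Fin 2) E)) := by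
      refine Nat.card_le_card_of_injective
        (fun p => (⟨p.1.1, h3 p⟩ : ({1, -1} : Set (SpecialLinearGroup (Fin 2) E)))) ?_
      rintro ⟨⟨x, y⟩, h⟩ ⟨⟨x', y'⟩, h'⟩ e
      have e1 : x = x' := congrArg Subtype.val e
      subst e1
      have e2 : y = y' := by
        apply hg
        simp only at h h'
        rw [← h'] at h
        exact mul_left_cancel h
      exact Subtype.ext (Prod.ext rfl e2)
    refine h4.trans ?_
    rw [Nat.card_coe_set_eq]
    exact (Set.ncard_insert_le _ _).trans (by rw [Set.ncard_singleton])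
  · simpa using hlt

open Cfsg.Agent.ClassificationK.GTwoChev in
theorem g2 {F : Type*} [Field F] [Fintype F] (h2 : (2 : F) ≠ 0) (hq3 : 3 ≤ Fintype.card F)
    (h1 : OneC ↥(chevG2.group F)) : Cube ↥(chevG2.group F) := by
  have hn := phi_neg_one_ne (F := F) h2
  refine cube_of_pair h1 h2 (ph11 F) (ph7 F) (fun x y => comm x y) hn
    (H556.SLPair.injective_of_neg h2 _ (by rw [← phi_neg_one_eq]; exact hn)) ?_
  rw [S0276.card_sl_two rfl, S1059.result (F := F) rfl]
  obtain ⟨k, hk⟩ := Nat.exists_eq_add_of_le' hq3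
  rw [hk]
  have e2 : (k + 3) ^ 2 - 1 = (k + 2) * (k + 4) := by
    have : (k + 3) ^ 2 = (k + 2) * (k + 4) + 1 := by ring
    omega
  have e6 : (k + 3) ^ 6 - 1 = ((k + 2) * (k + 4)) * ((k + 3) ^ 4 + (k + 3) ^ 2 + 1) := by
    have : (k + 3) ^ 6 = ((k + 2) * (k + 4)) * ((k + 3) ^ 4 + (k + 3) ^ 2 + 1) + 1 := by ring
    omega
  rw [e2, e6]
  have key : ((k + 3) ^ 4 + (k + 3) ^ 2 + 1) * 8 < ((k + 2) * (k + 4)) ^ 4 := by
    have e7 : ((k + 2) * (k + 4)) ^ 4 = ((k + 3) ^ 4 + (k + 3) ^ 2 + 1) * 8 +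
        (k^8+24*k^7+248*k^6+1440*k^5+5128*k^4+11424*k^3+15432*k^2+11376*k+3368) := by ring
    rw [e7]
    exact Nat.lt_add_of_pos_right (by positivity)
  calc (k + 3) ^ 6 * ((k + 2) * (k + 4)) * (((k + 2) * (k + 4)) * ((k + 3) ^ 4 + (k + 3) ^ 2 + 1)) * 8
      = (k + 3) ^ 6 * ((k + 2) * (k + 4)) ^ 2 * (((k + 3) ^ 4 + (k + 3) ^ 2 + 1) * 8) := by ring
    _ < (k + 3) ^ 6 * ((k + 2) * (k + 4)) ^ 2 * ((k + 2) * (k + 4)) ^ 4 :=
        Nat.mul_lt_mul_of_pos_left key (by positivity)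
    _ = ((k + 3) * ((k + 2) * (k + 4)) * ((k + 3) * ((k + 2) * (k + 4)))) ^ 3 := by ring

section

open Cfsg.Agent.GH.LowRankD4 Cfsg.Agent.ChevalleyStructure.D4Cols Cfsg.Agent.ChevalleyStructure.D4Fixed
open Cfsg.Agent.ChevalleyStructure Cfsg.Agent.ChevalleyStructure.SL2Hom Cfsg.Agent.OddTab

theorem hi_psi {K : Type} [Field K] {φ : K →+* K} {P : Type*} [Field P] (c : P →+* K)
    (x : SpecialLinearGroup (Fin 2) P) (y : SpecialLinearGroup (Fin 2) K) :
    hi c x * D4Short.psi φ y = D4Short.psi φ y * hi c x := by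
  have q : ∀ {r s : ℕ}, (r, s) ∈ highPairs → ∀ t u : K, Commute (xU r t) (xU s u) :=
    fun h t u => high_comm h t u
  refine (commute_of (hi c) (D4Short.psi φ) _ _ mem_closure_SL2 mem_closure_SL2 ?_ x y).eq
  rintro _ (⟨s, rfl⟩ | ⟨s, rfl⟩) _ (⟨t, rfl⟩ | ⟨t, rfl⟩)
  · rw [hi_up, D4Short.psi_up]
    exact ((q (by decide) _ _).mul_right (q (by decide) _ _)).mul_right (q (by decide) _ _)
  · rw [hi_up, D4Short.psi_lo]
    exact ((q (by decide) _ _).mul_right (q (by decide) _ _)).mul_right (q (by decide) _ _)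
  · rw [hi_lo, D4Short.psi_up]
    exact ((q (by decide) _ _).mul_right (q (by decide) _ _)).mul_right (q (by decide) _ _)
  · rw [hi_lo, D4Short.psi_lo]
    exact ((q (by decide) _ _).mul_right (q (by decide) _ _)).mul_right (q (by decide) _ _)

theorem twD4 {K : Type} [Field K] [Fintype K] {q : ℕ} (hq : Odd q) (hK : Fintype.card K = q ^ 3)
    (h1 : OneC ↥(twistedD4 K q)) : Cube ↥(twistedD4 K q) := by
  have hodd : Odd (Fintype.card K) := by rw [hK]; exact hq.pow
  have h2 : (2 : K) ≠ 0 := Cfsg.Agent.GH.LowRankLie.two_ne_zero_of_odd hodd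
  have hpp : IsPrimePow q := by
    have h1 : IsPrimePow (q ^ 3) := by rw [← hK]; exact Fintype.isPrimePow_card_of_field
    rwa [isPrimePow_pow_iff (by norm_num)] at h1
  obtain ⟨φ, hφ⟩ := exists_frob hpp hK
  -- the fixed field
  let P : Subfield K := RingHom.eqLocusField φ (RingHom.id K)
  have hP : ∀ x : K, x ∈ P ↔ x ^ q = x := by
    intro x
    rw [← hφ]
    rfl
  have hcardP : Nat.card P = q := by
    rw [← Cfsg.Agent.ChevalleyStructure.FixedCard.card_fixed hpp.one_lt hK]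
    exact Nat.card_congr (Equiv.subtypeEquivRight hP)
  have hc : ∀ t : P, φ (P.subtype t) = P.subtype t := fun t => t.2
  have : Fintype P := Fintype.ofFinite _
  have hP2 : (2 : P) ≠ 0 := by
    intro h
    apply h2
    exact_mod_cast congrArg P.subtype h
  have hinj : Function.Injective ((D4Short.psi φ).codRestrict (twistedD4 K q) (D4Short.psi_mem φ hφ)) := by
    intro x y hxy
    exact D4Short.psi_injective φ h2 (congrArg Subtype.val hxy)
  refine cube_of_pair h1 hP2 ((hi P.subtype).codRestrict (twistedD4 K q) (hi_mem P.subtype hφ hc))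
    ((D4Short.psi φ).codRestrict (twistedD4 K q) (D4Short.psi_mem φ hφ)) (fun x y => Subtype.ext (hi_psi _ x y)) ?_
    hinj ?_
  · intro h
    exact hi_neg_one P.subtype h2 (congrArg Subtype.val h)
  · rw [S0276.card_sl_two (q := q) (by rw [← Nat.card_eq_fintype_card, hcardP]), S0276.card_sl_two hK,
      S1067.result hpp hK]
    have hq3 : 3 ≤ q := by
      have := hpp.one_lt
      obtain ⟨r, hr⟩ := hq
      omega
    obtain ⟨A, hA⟩ : ∃ A, A = q ^ 2 - 1 := ⟨_, rfl⟩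
    obtain ⟨B, hB⟩ : ∃ B, B = q ^ 6 - 1 := ⟨_, rfl⟩
    have hB' : (q ^ 3) ^ 2 - 1 = B := by rw [hB, ← pow_mul]
    rw [hB', ← hA, ← hB]
    have hA8 : 8 ≤ A := by
      have : 3 ^ 2 ≤ q ^ 2 := Nat.pow_le_pow_left hq3 2
      omega
    have hB5 : q ^ 5 ≤ B := by
      have h5 : 1 ≤ q ^ 5 := Nat.one_le_pow _ _ (by omega)
      have : 3 * q ^ 5 ≤ q ^ 6 := by
        calc 3 * q ^ 5 ≤ q * q ^ 5 := by gcongr
          _ = q ^ 6 := by ring
      omega
    have key : (q ^ 8 + q ^ 4 + 1) * 8 < A ^ 2 * B ^ 2 := by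
      have h4 : 1 ≤ q ^ 4 := Nat.one_le_pow _ _ (by omega)
      have h8 : q ^ 4 ≤ q ^ 8 := Nat.pow_le_pow_right (by omega) (by norm_num)
      have h10 : q ^ 8 ≤ q ^ 10 := Nat.pow_le_pow_right (by omega) (by norm_num)
      calc (q ^ 8 + q ^ 4 + 1) * 8 < 64 * q ^ 10 := by omega
        _ = 8 ^ 2 * (q ^ 5) ^ 2 := by ring
        _ ≤ A ^ 2 * B ^ 2 := by gcongr
    have hA0 : 0 < A := by omega
    have hB0 : 0 < B := lt_of_lt_of_le (by positivity) hB5
    calc q ^ 12 * A * B * (q ^ 8 + q ^ 4 + 1) * 8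
        = q ^ 12 * A * B * ((q ^ 8 + q ^ 4 + 1) * 8) := by ring
      _ < q ^ 12 * A * B * (A ^ 2 * B ^ 2) := Nat.mul_lt_mul_of_pos_left key (by positivity)
      _ = (q * A * (q ^ 3 * B)) ^ 3 := by ring

end

theorem ree {K : Type*} [Field K] [Fintype K] {m : ℕ} (hm : 1 ≤ m) (hK : Fintype.card K = 3 ^ (2 * m + 1))
    (h1 : OneC ↥(twistedG2 K (3 ^ m))) : Cube ↥(twistedG2 K (3 ^ m)) := by
  obtain ⟨a, haH, ha1, ha2⟩ := S1157.exists_involution hK
  obtain ⟨⟨e⟩, -⟩ := S1152.result hK a haH ha1 ha2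
  have hfin : Finite ↥(twistedG2 K (3 ^ m)) := inferInstance
  have hc : Nat.card ↥(centralizer ({a} : Set ↥(twistedG2 K (3 ^ m)))) = 2 * Nat.card (ProjectiveSpecialLinearGroup (Fin 2) K) := by
    rw [Nat.card_congr e.toEquiv, Nat.card_prod, Nat.card_eq_fintype_card (α := Multiplicative (ZMod 2))]
    rfl
  refine cube_of_one h1 (inv_of ha1 ha2) ?_
  rw [hc]
  rw [S1069.result hK]
  have h := S0243.result (F := K) rfl 2 le_rfl
  rw [hK] at h
  have ho : Odd (3 ^ (2 * m + 1)) := Odd.pow (by decide)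
  have hq5 : 27 ≤ 3 ^ (2 * m + 1) := by
    calc 27 = 3 ^ 3 := by norm_num
      _ ≤ 3 ^ (2 * m + 1) := Nat.pow_le_pow_right (by norm_num) (by omega)
  generalize 3 ^ (2 * m + 1) = q at *
  obtain ⟨k, hk⟩ := Nat.exists_eq_add_of_le' hq5
  rw [Fin.prod_univ_two] at h
  simp only [Fin.val_zero, Fin.val_one, pow_zero, pow_one] at h
  have hg : Nat.gcd 2 (q - 1) = 2 := by
    apply Nat.gcd_eq_left
    obtain ⟨r, hr⟩ := ho
    exact ⟨r, by omega⟩
  rw [hg] at h
  set N := Nat.card (ProjectiveSpecialLinearGroup (Fin 2) K)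
  have e1 : q - 1 = k + 26 := by omega
  have e2 : q ^ 2 - 1 = (k + 26) * (k + 28) := by
    rw [hk]
    have : (k + 27) ^ 2 = (k + 26) * (k + 28) + 1 := by ring
    omega
  have e3 : q ^ 2 - q = (k + 27) * (k + 26) := by
    rw [hk]
    have : (k + 27) ^ 2 = (k + 27) * (k + 26) + (k + 27) := by ring
    omega
  rw [e1, e2, e3] at h
  have h5 : (k + 26) * (2 * N) = (k + 26) * ((k + 26) * (k + 28) * (k + 27)) := by
    calc _ = 2 * ((k + 26) * N) := by ring
      _ = _ := by rw [h]; ring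
  have h6 := Nat.eq_of_mul_eq_mul_left (by omega) h5
  rw [h6, e1, hk]
  have key : (k + 27) ^ 2 - (k + 27) + 1 < (k + 26) ^ 2 * (k + 28) ^ 2 := by
    have : (k + 27) ^ 2 - (k + 27) + 1 ≤ (k + 28) ^ 2 := by
      have : (k + 28) ^ 2 = (k + 27) ^ 2 + 2 * (k + 27) + 1 := by ring
      omega
    have h7 : 1 < (k + 26) ^ 2 := Nat.one_lt_pow (by norm_num) (by omega)
    calc _ ≤ 1 * (k + 28) ^ 2 := by rw [one_mul]; exact this
      _ < (k + 26) ^ 2 * (k + 28) ^ 2 := Nat.mul_lt_mul_of_pos_right h7 (by positivity)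
  have e4 : (k + 27) ^ 3 + 1 = (k + 28) * ((k + 27) ^ 2 - (k + 27) + 1) := by
    have h8 : (k + 27) ^ 2 - (k + 27) = (k + 27) * (k + 26) := by
      have : (k + 27) ^ 2 = (k + 27) * (k + 26) + (k + 27) := by ring
      omega
    rw [h8]; ring
  rw [e4]
  calc (k + 27) ^ 3 * (k + 26) * ((k + 28) * ((k + 27) ^ 2 - (k + 27) + 1))
      = (k + 27) ^ 3 * (k + 26) * (k + 28) * ((k + 27) ^ 2 - (k + 27) + 1) := by ring
    _ < (k + 27) ^ 3 * (k + 26) * (k + 28) * ((k + 26) ^ 2 * (k + 28) ^ 2) :=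
        Nat.mul_lt_mul_of_pos_left key (by positivity)
    _ = ((k + 26) * (k + 28) * (k + 27)) ^ 3 := by ring

end Cfsg.Agent.H131.ExcSmall
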