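import Mathlib

/-!
# Extending a central extension of a Sylow subgroup (helper131, for S5260)

`T` a Sylow `p`-subgroup of the finite group `G`, `π : S →* G` with range `T` and central kernel `U`
a `p`-group, `χ : G →* MulAut U` trivial on `T`, and the extension is stable. Then `S` is contained in
an extension `E` of `G` by `U` on which `G` acts through `χ`.
-/

set_option autoImplicit false
set_option linter.unusedSectionVars false

namespace Cfsg.Agent.H131.ExtTransfer

universe u v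

/-- pairs `(g, F)`, with product `(g, F) (g', F') = (g g', x ↦ F (g' x) F' x)`. -/
@[ext] structure W (S : Type u) (G : Type v) (X : Type v) where
  fst : G
  snd : X → S

section W

variable {S : Type u} [Group S] {G : Type v} [Group G] {X : Type v} [MulAction G X]

instance : Mul (W S G X) := ⟨fun w w' => ⟨w.fst * w'.fst, fun x => w.snd (w'.fst • x) * w'.snd x⟩⟩

instance : One (W S G X) := ⟨⟨1, fun _ => 1⟩⟩

instance : Inv (W S G X) := ⟨fun w => ⟨w.fst⁻¹, fun x => (w.snd (w.fst⁻¹ • x))⁻¹⟩⟩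

@[simp] theorem mul_fst (w w' : W S G X) : (w * w').fst = w.fst * w'.fst := rfl

@[simp] theorem mul_snd (w w' : W S G X) (x : X) :
    (w * w').snd x = w.snd (w'.fst • x) * w'.snd x := rfl

@[simp] theorem one_fst : (1 : W S G X).fst = 1 := rfl

@[simp] theorem one_snd (x : X) : (1 : W S G X).snd x = 1 := rfl

@[simp] theorem inv_fst (w : W S G X) : (w⁻¹).fst = w.fst⁻¹ := rfl

@[simp] theorem inv_snd (w : W S G X) (x : X) : (w⁻¹).snd x = (w.snd (w.fst⁻¹ • x))⁻¹ := rfl

instance : Group (W S G X) := by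
  refine Group.ofLeftAxioms ?_ ?_ ?_
  · intro a b c
    ext x
    · simp [mul_assoc]
    · simp [mul_assoc, mul_smul]
  · intro a
    ext x
    · simp
    · simp
  · intro a
    ext x
    · simp
    · simp

instance [Finite S] [Finite G] [Finite X] : Finite (W S G X) :=
  Finite.of_injective (β := G × (X → S)) (fun w => (w.fst, w.snd)) (by
    rintro ⟨a, b⟩ ⟨c, d⟩ h
    simp only [Prod.mk.injEq] at h
    rw [h.1, h.2])

end W

variable {p : ℕ} {S : Type u} {G : Type v} [Group S] [Group G]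

/-- lift of the partial map -/
theorem exists_Phi (T : Subgroup G) (π : S →* G) (χ : G →* MulAut π.ker)
    (hlift : ∀ g : G, ∃ φ : (((T ⊓ T.map (MulAut.conj g).toMonoidHom).comap π : Subgroup S) →* S),
      (∀ x : ((T ⊓ T.map (MulAut.conj g).toMonoidHom).comap π : Subgroup S),
        π (φ x) = g⁻¹ * π (x : S) * g) ∧
      ∀ (x : ((T ⊓ T.map (MulAut.conj g).toMonoidHom).comap π : Subgroup S)) (u : π.ker),
        (x : S) = u → φ x = (χ g)⁻¹ u) :
    ∃ Φ : G → S → S, ∀ g : G,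
      (∀ x y : S, π x ∈ T ⊓ T.map (MulAut.conj g).toMonoidHom →
        π y ∈ T ⊓ T.map (MulAut.conj g).toMonoidHom → Φ g (x * y) = Φ g x * Φ g y) ∧
      (∀ x : S, π x ∈ T ⊓ T.map (MulAut.conj g).toMonoidHom → π (Φ g x) = g⁻¹ * π x * g) ∧
      ∀ u : π.ker, Φ g u = (χ g)⁻¹ u := by
  classical
  choose φ hφ1 hφ2 using hlift
  refine ⟨fun g x => if h : x ∈ ((T ⊓ T.map (MulAut.conj g).toMonoidHom).comap π : Subgroup S)
    then φ g ⟨x, h⟩ else 1, fun g => ⟨?_, ?_, ?_⟩⟩
  · intro x y hx hy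
    have hx' : x ∈ ((T ⊓ T.map (MulAut.conj g).toMonoidHom).comap π : Subgroup S) := hx
    have hy' : y ∈ ((T ⊓ T.map (MulAut.conj g).toMonoidHom).comap π : Subgroup S) := hy
    have hxy := mul_mem hx' hy'
    simp only [dif_pos hx', dif_pos hy', dif_pos hxy]
    rw [← map_mul]
    rfl
  · intro x hx
    have hx' : x ∈ ((T ⊓ T.map (MulAut.conj g).toMonoidHom).comap π : Subgroup S) := hx
    simp only [dif_pos hx']
    rw [hφ1]
  · intro u
    have hu : (u : S) ∈ ((T ⊓ T.map (MulAut.conj g).toMonoidHom).comap π : Subgroup S) := by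
      rw [Subgroup.mem_comap, (MonoidHom.mem_ker).1 u.2]
      exact one_mem _
    simp only [dif_pos hu]
    exact hφ2 g ⟨u, hu⟩ u rfl

/-- The main theorem. -/
theorem exists_ext [Fact p.Prime] [Finite S] [Finite G] (T : Sylow p G) (π : S →* G)
    (hπ : π.range = T)
    (hc : ∀ u ∈ π.ker, ∀ s, u * s = s * u) (hU : ∀ u ∈ π.ker, ∃ k, u ^ p ^ k = 1)
    (χ : G →* MulAut π.ker) (hχ : ∀ s, χ (π s) = 1)
    (hlift : ∀ g : G, ∃ φ : ((((T : Subgroup G) ⊓ (T : Subgroup G).map
        (MulAut.conj g).toMonoidHom).comap π : Subgroup S) →* S),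
      (∀ x : (((T : Subgroup G) ⊓ (T : Subgroup G).map (MulAut.conj g).toMonoidHom).comap π :
          Subgroup S), π (φ x) = g⁻¹ * π (x : S) * g) ∧
      ∀ (x : (((T : Subgroup G) ⊓ (T : Subgroup G).map (MulAut.conj g).toMonoidHom).comap π :
          Subgroup S)) (u : π.ker), (x : S) = u → φ x = (χ g)⁻¹ u) :
    ∃ (E : Type (max u v)) (_ : Group E) (_ : Finite E) (ι : S →* E) (ρ : E →* G),
      Function.Injective ι ∧ (∀ s, ρ (ι s) = π s) ∧ Function.Surjective ρ ∧
        (∀ e, ρ e = 1 → ∃ u : π.ker, e = ι u) ∧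
        (∀ e (u : π.ker), e * ι u * e⁻¹ = ι (χ (ρ e) u)) := by
  classical
  have hp : p.Prime := Fact.out
  obtain ⟨Φ, hΦ⟩ := exists_Phi (T : Subgroup G) π χ hlift
  -- commutativity of the kernel
  let _ : CommGroup π.ker :=
    { (inferInstance : Group π.ker) with
      mul_comm := fun a b => Subtype.ext (hc a a.2 b) }
  let X := G ⧸ (T : Subgroup G)
  have : Finite X := inferInstance
  have : Fintype X := Fintype.ofFinite X
  have hTπ : ∀ t : G, t ∈ (T : Subgroup G) → ∃ s, π s = t := by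
    intro t ht
    rw [← hπ] at ht
    exact ht
  have hπT : ∀ s, π s ∈ (T : Subgroup G) := by
    intro s
    rw [← hπ]
    exact ⟨s, rfl⟩
  -- orbit representatives
  let x0 : X → X := fun y => (Quotient.out (Quotient.mk (MulAction.orbitRel (T : Subgroup G) X) y))
  have hx0 : ∀ y : X, ∃ s : S, π s • x0 y = y := by
    intro y
    have h1 : (MulAction.orbitRel (T : Subgroup G) X).r (x0 y) y :=
      Quotient.exact (Quotient.out_eq _)
    have h2 : x0 y ∈ MulAction.orbit (T : Subgroup G) y := h1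
    obtain ⟨t, ht⟩ := h2
    obtain ⟨s, hs⟩ := hTπ _ (t⁻¹).2
    refine ⟨s, ?_⟩
    rw [← ht, hs]
    show (t⁻¹ : (T : Subgroup G)) • (t • y) = y
    rw [inv_smul_smul]
  have hx0' : ∀ (s : S) (y : X), x0 (π s • y) = x0 y := by
    intro s y
    have h1 : Quotient.mk (MulAction.orbitRel (T : Subgroup G) X) (π s • y) =
        Quotient.mk (MulAction.orbitRel (T : Subgroup G) X) y := by
      refine Quotient.sound ?_
      show (π s • y) ∈ MulAction.orbit (T : Subgroup G) y
      exact ⟨⟨π s, hπT s⟩, rfl⟩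
    show Quotient.out _ = Quotient.out _
    rw [h1]
  choose a ha using hx0
  let o : X → G := fun y => Quotient.out (x0 y)
  have ho : ∀ y, ((o y : G) : X) = x0 y := fun y => Quotient.out_eq' (x0 y)
  have ho' : ∀ (s : S) (y : X), o (π s • y) = o y := by
    intro s y
    show Quotient.out (x0 (π s • y)) = Quotient.out (x0 y)
    rw [hx0']
  let r : X → G := fun y => π (a y) * o y
  have hr : ∀ y, ((r y : G) : X) = y := by
    intro y
    have h1 : ((r y : G) : X) = π (a y) • ((o y : G) : X) := rfl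
    rw [h1, ho, ha]
  -- the group Γ
  let Γ : Subgroup (W S G X) :=
    { carrier := {w | ∀ x, π (w.snd x) = (r (w.fst • x))⁻¹ * w.fst * r x}
      mul_mem' := by
        intro w w' hw hw' x
        rw [mul_snd, map_mul, hw, hw', mul_fst, mul_smul]
        group
      one_mem' := by
        intro x
        simp
      inv_mem' := by
        intro w hw x
        rw [inv_snd, map_inv, hw, inv_fst, smul_inv_smul]
        group }
  have hΓ : ∀ w : W S G X, w ∈ Γ ↔ ∀ x, π (w.snd x) = (r (w.fst • x))⁻¹ * w.fst * r x :=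
    fun w => Iff.rfl
  let toU : S → π.ker := fun s => if h : s ∈ π.ker then ⟨s, h⟩ else 1
  have htoU : ∀ s (h : s ∈ π.ker), toU s = ⟨s, h⟩ := fun s h => dif_pos h
  let τ : W S G X → π.ker := fun w => ∏ x, χ (r x) (toU (w.snd x))
  have hker : ∀ w ∈ Γ, w.fst = 1 → ∀ x, w.snd x ∈ π.ker := by
    intro w hw h1 x
    rw [MonoidHom.mem_ker, hw x, h1]
    simp
  have hτmul : ∀ w w' : W S G X, w ∈ Γ → w' ∈ Γ → w.fst = 1 → w'.fst = 1 →
      τ (w * w') = τ w * τ w' := by
    intro w w' hw hw' h1 h1'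
    show ∏ x, χ (r x) (toU ((w * w').snd x)) =
      (∏ x, χ (r x) (toU (w.snd x))) * ∏ x, χ (r x) (toU (w'.snd x))
    rw [← Finset.prod_mul_distrib]
    refine Finset.prod_congr rfl fun x _ => ?_
    rw [← map_mul, mul_snd, h1', one_smul]
    have k1 := hker w hw h1 x
    have k2 := hker w' hw' h1' x
    rw [htoU _ k1, htoU _ k2, htoU _ (mul_mem k1 k2)]
    rfl
  have hτconj : ∀ w v : W S G X, w ∈ Γ → v ∈ Γ → v.fst = 1 →
      τ (w * v * w⁻¹) = χ w.fst (τ v) := by
    intro w v hw hv h1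
    show ∏ x, χ (r x) (toU ((w * v * w⁻¹).snd x)) = χ w.fst (∏ x, χ (r x) (toU (v.snd x)))
    rw [map_prod]
    rw [← Equiv.prod_comp (MulAction.toPerm w.fst : Equiv.Perm X)
      (fun x => χ (r x) (toU ((w * v * w⁻¹).snd x)))]
    refine Finset.prod_congr rfl fun x _ => ?_
    have h2 : (w * v * w⁻¹).snd (w.fst • x) = v.snd x := by
      rw [mul_snd, mul_snd, inv_snd, inv_fst, inv_smul_smul, h1, one_smul]
      have k1 := hker v hv h1 x
      rw [mul_assoc, hc _ k1, ← mul_assoc, mul_inv_cancel, one_mul]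
    have h3 : r (w.fst • x) = w.fst * r x * π ((w.snd x)⁻¹) := by
      rw [map_inv, hw x]
      group
    show χ (r (w.fst • x)) (toU ((w * v * w⁻¹).snd (w.fst • x))) = _
    rw [h2, h3, map_mul, map_mul, hχ, mul_one]
    rfl
  let N : Subgroup Γ :=
    { carrier := {w | w.1.fst = 1 ∧ τ w.1 = 1}
      mul_mem' := by
        rintro w w' ⟨h1, h2⟩ ⟨h1', h2'⟩
        refine ⟨?_, ?_⟩
        · show (w.1 * w'.1).fst = 1
          rw [mul_fst, h1, h1', one_mul]
        · show τ (w.1 * w'.1) = 1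
          rw [hτmul w.1 w'.1 w.2 w'.2 h1 h1', h2, h2', one_mul]
      one_mem' := by
        refine ⟨rfl, ?_⟩
        have h0 := hτmul 1 1 (one_mem Γ) (one_mem Γ) rfl rfl
        rw [one_mul] at h0
        exact (mul_eq_left.1 h0.symm)
      inv_mem' := by
        rintro w ⟨h1, h2⟩
        have h3 : (w.1⁻¹).fst = 1 := by rw [inv_fst, h1, inv_one]
        refine ⟨h3, ?_⟩
        have h0 := hτmul w.1 (w.1⁻¹) w.2 (inv_mem w.2) h1 h3
        have h4 : τ 1 = 1 := by
          have h0 := hτmul 1 1 (one_mem Γ) (one_mem Γ) rfl rfl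
          rw [one_mul] at h0
          exact (mul_eq_left.1 h0.symm)
        rw [mul_inv_cancel, h4, h2, one_mul] at h0
        exact h0.symm }
  have hN : ∀ w : Γ, w ∈ N ↔ w.1.fst = 1 ∧ τ w.1 = 1 := fun w => Iff.rfl
  have hNn : N.Normal := by
    refine ⟨fun v hv w => ?_⟩
    rw [hN] at hv ⊢
    refine ⟨?_, ?_⟩
    · show (w.1 * v.1 * w.1⁻¹).fst = 1
      rw [mul_fst, mul_fst, inv_fst, hv.1, mul_one, mul_inv_cancel]
    · show τ (w.1 * v.1 * w.1⁻¹) = 1
      rw [hτconj w.1 v.1 w.2 v.2 hv.1, hv.2, map_one]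
  -- the map S → Γ
  let F : S → X → S := fun s y => Φ (o y) ((a (π s • y))⁻¹ * s * a y)
  have hdom : ∀ (s : S) (y : X), π ((a (π s • y))⁻¹ * s * a y) ∈
      (T : Subgroup G) ⊓ (T : Subgroup G).map (MulAut.conj (o y)).toMonoidHom := by
    intro s y
    refine ⟨hπT _, ?_⟩
    have h1 : π ((a (π s • y))⁻¹ * s * a y) • x0 y = x0 y := by
      rw [map_mul, map_mul, map_inv, mul_smul, mul_smul, ha]
      rw [inv_smul_eq_iff]
      conv_rhs => rw [← hx0' s y]
      rw [ha]
    rw [← ho y] at h1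
    have h2 : (((π ((a (π s • y))⁻¹ * s * a y)) * o y : G) : X) = ((o y : G) : X) := h1
    have h3 := QuotientGroup.eq.1 h2.symm
    refine ⟨(o y)⁻¹ * (π ((a (π s • y))⁻¹ * s * a y) * o y), h3, ?_⟩
    show o y * ((o y)⁻¹ * (π ((a (π s • y))⁻¹ * s * a y) * o y)) * (o y)⁻¹ = _
    group
  have hFΓ : ∀ s : S, (⟨π s, F s⟩ : W S G X) ∈ Γ := by
    intro s
    rw [hΓ]
    intro y
    show π (Φ (o y) ((a (π s • y))⁻¹ * s * a y)) = (r (π s • y))⁻¹ * π s * r y
    rw [(hΦ (o y)).2.1 _ (hdom s y)]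
    show _ = (π (a (π s • y)) * o (π s • y))⁻¹ * π s * (π (a y) * o y)
    rw [ho', map_mul, map_mul, map_inv]
    group
  have hFmul : ∀ (s s' : S) (y : X), F (s * s') y = F s (π s' • y) * F s' y := by
    intro s s' y
    show Φ (o y) ((a (π (s * s') • y))⁻¹ * (s * s') * a y) =
      Φ (o (π s' • y)) ((a (π s • π s' • y))⁻¹ * s * a (π s' • y)) *
        Φ (o y) ((a (π s' • y))⁻¹ * s' * a y)
    have h2 := hdom s (π s' • y)
    rw [ho'] at h2
    rw [ho', ← (hΦ (o y)).1 _ _ h2 (hdom s' y), map_mul, mul_smul]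
    congr 1
    group
  let ι0 : S →* Γ :=
    { toFun := fun s => ⟨⟨π s, F s⟩, hFΓ s⟩
      map_one' := by
        have h1 : (⟨⟨π 1, F 1⟩, hFΓ 1⟩ : Γ) * ⟨⟨π 1, F 1⟩, hFΓ 1⟩ = ⟨⟨π 1, F 1⟩, hFΓ 1⟩ := by
          apply Subtype.ext
          apply W.ext
          · show π 1 * π 1 = π 1
            rw [map_one, one_mul]
          · funext y
            show F 1 (π 1 • y) * F 1 y = F 1 y
            rw [← hFmul, one_mul]
        exact mul_eq_left.1 h1
      map_mul' := by
        intro s s'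
        apply Subtype.ext
        apply W.ext
        · show π (s * s') = π s * π s'
          rw [map_mul]
        · funext y
          exact hFmul s s' y }
  -- values on the kernel
  have hFu : ∀ (u : π.ker) (y : X), F u y = (χ (o y))⁻¹ u := by
    intro u y
    show Φ (o y) ((a (π (u : S) • y))⁻¹ * u * a y) = _
    have h1 : π (u : S) = 1 := (MonoidHom.mem_ker).1 u.2
    rw [h1, one_smul]
    have h2 : (a y)⁻¹ * (u : S) * a y = u := by
      rw [mul_assoc, hc u u.2, ← mul_assoc, inv_mul_cancel, one_mul]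
    rw [h2, (hΦ (o y)).2.2 u]
  have hτu : ∀ u : π.ker, τ ⟨π (u : S), F u⟩ = u ^ Fintype.card X := by
    intro u
    show ∏ x, χ (r x) (toU (F u x)) = _
    have h1 : ∀ x ∈ (Finset.univ : Finset X), χ (r x) (toU (F u x)) = u := by
      intro x _
      rw [hFu, htoU _ ((χ (o x))⁻¹ u).2]
      show χ (π (a x) * o x) ((χ (o x))⁻¹ u) = u
      rw [map_mul, hχ, one_mul, MulAut.apply_inv_self]
    rw [Finset.prod_congr rfl h1, Finset.prod_const, Finset.card_univ]
  -- coprimality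
  have hcop : ∀ u : π.ker, (orderOf u).Coprime (Fintype.card X) := by
    intro u
    obtain ⟨k, hk⟩ := hU u u.2
    have h1 : u ^ p ^ k = 1 := Subtype.ext hk
    have h2 : orderOf u ∣ p ^ k := orderOf_dvd_of_pow_eq_one h1
    have h3 : ¬ p ∣ Nat.card X := by
      have h4 : Nat.card X = (T : Subgroup G).index := rfl
      rw [h4]
      exact T.not_dvd_index
    rw [← Nat.card_eq_fintype_card (α := X)]
    exact Nat.Coprime.coprime_dvd_left h2 (Nat.Coprime.pow_left _ ((Nat.Prime.coprime_iff_not_dvd hp).2 h3))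
  -- the projection
  let ρ0 : Γ →* G :=
    { toFun := fun w => w.1.fst
      map_one' := rfl
      map_mul' := fun _ _ => rfl }
  let ρ : Γ ⧸ N →* G := QuotientGroup.lift N ρ0 (fun w hw => hw.1)
  have hρ : ∀ w : Γ, ρ (QuotientGroup.mk w) = w.1.fst := fun w => rfl
  -- equality criterion
  have hEq : ∀ w w' : Γ, w.1.fst = 1 → w'.1.fst = 1 → τ w.1 = τ w'.1 →
      (QuotientGroup.mk w : Γ ⧸ N) = QuotientGroup.mk w' := by
    intro w w' h1 h1' h2
    rw [QuotientGroup.eq]
    rw [hN]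
    have h3 : (w⁻¹ * w').1 ∈ Γ := (w⁻¹ * w').2
    have h4 : (w⁻¹ * w').1.fst = 1 := by
      show w.1.fst⁻¹ * w'.1.fst = 1
      rw [h1, h1', inv_one, one_mul]
    refine ⟨h4, ?_⟩
    have h5 := hτmul w.1 (w⁻¹ * w').1 w.2 h3 h1 h4
    have h6 : w.1 * (w⁻¹ * w').1 = w'.1 := by
      show w.1 * (w.1⁻¹ * w'.1) = w'.1
      rw [mul_inv_cancel_left]
    rw [h6, ← h2] at h5
    exact mul_eq_left.1 h5.symm
  have hFfst : ∀ u : π.ker, (ι0 u).1.fst = 1 := fun u => (MonoidHom.mem_ker).1 u.2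
  have hτι : ∀ u : π.ker, τ (ι0 u).1 = u ^ Fintype.card X := hτu
  refine ⟨Γ ⧸ N, inferInstance, inferInstance, (QuotientGroup.mk' N).comp ι0, ρ, ?_, ?_, ?_, ?_, ?_⟩
  · rw [injective_iff_map_eq_one]
    intro s hs
    have h1 : ι0 s ∈ N := (QuotientGroup.eq_one_iff _).1 hs
    have h2 : π s = 1 := h1.1
    have h3 : τ (ι0 s).1 = 1 := h1.2
    have h4 := hτι ⟨s, (MonoidHom.mem_ker).2 h2⟩
    have h5 : (⟨s, (MonoidHom.mem_ker).2 h2⟩ : π.ker) ^ Fintype.card X = 1 := by
      rw [← h4]; exact h3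
    have h6 := orderOf_dvd_of_pow_eq_one h5
    have h7 := Nat.Coprime.eq_one_of_dvd (hcop _) h6
    rw [orderOf_eq_one_iff] at h7
    exact congrArg Subtype.val h7
  · intro s
    rfl
  · intro g
    have h1 : ∀ x : X, ∃ s : S, π s = (r (g • x))⁻¹ * g * r x := by
      intro x
      apply hTπ
      have h2 : ((r (g • x) : G) : X) = ((g * r x : G) : X) := by
        rw [hr]
        show g • x = g • ((r x : G) : X)
        rw [hr]
      have h3 := QuotientGroup.eq.1 h2
      rw [← mul_assoc] at h3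
      exact h3
    choose A hA using h1
    exact ⟨QuotientGroup.mk (⟨⟨g, A⟩, hA⟩ : Γ), rfl⟩
  · intro e
    refine QuotientGroup.induction_on e fun w => ?_
    intro hw
    have hw1 : w.1.fst = 1 := hw
    obtain ⟨u, hu⟩ : ∃ u : π.ker, u ^ Fintype.card X = τ w.1 := by
      have h1 := hcop (τ w.1)
      obtain ⟨n, hn⟩ := exists_pow_eq_self_of_coprime h1.symm
      refine ⟨(τ w.1) ^ n, ?_⟩
      rw [← pow_mul, mul_comm, pow_mul]
      exact hn
    refine ⟨u, ?_⟩
    refine hEq w (ι0 u) hw1 (hFfst u) ?_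
    rw [hτι, hu]
  · intro e
    refine QuotientGroup.induction_on e fun w => ?_
    intro u
    have h1 : (w * ι0 u * w⁻¹).1.fst = 1 := by
      show w.1.fst * (ι0 u).1.fst * w.1.fst⁻¹ = 1
      rw [hFfst, mul_one, mul_inv_cancel]
    refine hEq (w * ι0 u * w⁻¹) (ι0 (χ w.1.fst u)) h1 (hFfst _) ?_
    have h2 := hτconj w.1 (ι0 u).1 w.2 (ι0 u).2 (hFfst u)
    have h3 : (w * ι0 u * w⁻¹).1 = w.1 * (ι0 u).1 * w.1⁻¹ := rfl
    rw [h3, h2, hτι, hτι, map_pow]

end Cfsg.Agent.H131.ExtTransfer
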