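import Cfsg.Agent.H937.L34Seven

/-!
# `L₃(4)` and the degrees of `A_8` (helper131, task 595 for S4941)
-/

set_option autoImplicit false
open Cfsg
open scoped Matrix MatrixGroups

universe u

namespace Cfsg.Agent.H131.L34Elim

open Cfsg.Agent.Characters.Core Cfsg.Agent.H937.L34

section mat

variable {F : Type*} [Field F]

/-- commuting with a transvection up to a scalar -/
theorem entries {g : Matrix (Fin 3) (Fin 3) F} {c : F} (h : g * um 1 0 = c • (um 1 0 * g)) (hd : g.det ≠ 0) :
    c = 1 ∧ g 2 0 = 0 ∧ g 2 1 = 0 ∧ g 1 0 = 0 ∧ g 0 0 = g 2 2 := by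
  have e : ∀ i j : Fin 3, (g * um 1 0 : Matrix (Fin 3) (Fin 3) F) i j = c * (um 1 0 * g : Matrix (Fin 3) (Fin 3) F) i j :=
    fun i j => by rw [h]; rfl
  have e00 := e 0 0
  have e01 := e 0 1
  have e02 := e 0 2
  have e10 := e 1 0
  have e11 := e 1 1
  have e12 := e 1 2
  have e20 := e 2 0
  have e21 := e 2 1
  have e22 := e 2 2
  simp [um, Matrix.mul_apply, Fin.sum_univ_three] at e00 e01 e02 e10 e11 e12 e20 e21 e22
  have hc : c = 1 := by
    by_contra hc
    have hc' : 1 - c ≠ 0 := sub_ne_zero.2 (Ne.symm hc)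
    have h10 : g 1 0 = 0 := by
      have : (1 - c) * g 1 0 = 0 := by linear_combination e10
      exact (mul_eq_zero.1 this).resolve_left hc'
    have h11 : g 1 1 = 0 := by
      have : (1 - c) * g 1 1 = 0 := by linear_combination e11
      exact (mul_eq_zero.1 this).resolve_left hc'
    have h20 : g 2 0 = 0 := by
      have : (1 - c) * g 2 0 = 0 := by linear_combination e20
      exact (mul_eq_zero.1 this).resolve_left hc'
    have h21 : g 2 1 = 0 := by
      have : (1 - c) * g 2 1 = 0 := by linear_combination e21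
      exact (mul_eq_zero.1 this).resolve_left hc'
    apply hd
    rw [Matrix.det_fin_three, h10, h11, h20, h21]
    ring
  subst hc
  refine ⟨rfl, ?_, ?_, ?_, ?_⟩
  · linear_combination (-1 : F) * e00
  · linear_combination (-1 : F) * e01
  · linear_combination e12
  · linear_combination e02

/-- **the centralizer of an involution of `L₃(4)` has order at most 64.** -/
theorem card_centralizer_le [Fintype F] (hF : Fintype.card F = 4) {T : Type*} [Group T] [Finite T]
    (π : Matrix.SpecialLinearGroup (Fin 3) F →* T) (hπ : Function.Surjective π)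
    (hk : π.ker = Subgroup.center _) :
    Nat.card (Subgroup.centralizer ({π (us 1 0)} : Set T)) ≤ 64 := by
  classical
  obtain ⟨S, hS⟩ : ∃ S : Subgroup (Matrix.SpecialLinearGroup (Fin 3) F),
      S = Subgroup.centralizer ({us 1 0} : Set (Matrix.SpecialLinearGroup (Fin 3) F)) := ⟨_, rfl⟩
  have hent : ∀ g ∈ S, g.1 2 0 = 0 ∧ g.1 2 1 = 0 ∧ g.1 1 0 = 0 ∧ g.1 0 0 = g.1 2 2 := by
    intro g hg
    rw [hS, Subgroup.mem_centralizer_singleton_iff] at hg
    have h1 : g.1 * um 1 0 = (1 : F) • (um 1 0 * g.1) := by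
      rw [one_smul]
      exact congrArg Subtype.val hg
    exact (entries h1 (by rw [g.2]; exact one_ne_zero)).2
  have hdet : ∀ g ∈ S, g.1 0 0 * g.1 1 1 * g.1 0 0 = 1 := by
    intro g hg
    obtain ⟨h1, h2, h3, h4⟩ := hent g hg
    have h5 := g.2
    rw [Matrix.det_fin_three, h1, h2, h3, ← h4] at h5
    linear_combination h5
  -- the order of `S`
  have hS192 : Nat.card S ≤ 192 := by
    let φ : S → Fˣ × F × F × F := fun g =>
      (⟨g.1.1 0 0, g.1.1 1 1 * g.1.1 0 0, by have := hdet g.1 g.2; linear_combination this,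
        by have := hdet g.1 g.2; linear_combination this⟩,
        g.1.1 0 1, g.1.1 0 2, g.1.1 1 2)
    have hφ : Function.Injective φ := by
      intro g h hgh
      have e1 : g.1.1 0 0 = h.1.1 0 0 := congrArg (fun x : Fˣ × F × F × F => (x.1 : F)) hgh
      have e2 : g.1.1 0 1 = h.1.1 0 1 := congrArg (fun x : Fˣ × F × F × F => x.2.1) hgh
      have e3 : g.1.1 0 2 = h.1.1 0 2 := congrArg (fun x : Fˣ × F × F × F => x.2.2.1) hgh
      have e4 : g.1.1 1 2 = h.1.1 1 2 := congrArg (fun x : Fˣ × F × F × F => x.2.2.2) hgh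
      obtain ⟨a1, a2, a3, a4⟩ := hent g.1 g.2
      obtain ⟨b1, b2, b3, b4⟩ := hent h.1 h.2
      have d1 := hdet g.1 g.2
      have d2 := hdet h.1 h.2
      have e5 : g.1.1 1 1 = h.1.1 1 1 := by
        rw [e1] at d1
        have h0 : h.1.1 0 0 ≠ 0 := by
          intro h0
          rw [h0] at d2
          simp at d2
        have h6 : h.1.1 0 0 * g.1.1 1 1 * h.1.1 0 0 = h.1.1 0 0 * h.1.1 1 1 * h.1.1 0 0 := d1.trans d2.symm
        exact mul_left_cancel₀ h0 (mul_right_cancel₀ h0 h6)
      apply Subtype.ext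
      apply Subtype.ext
      ext i j
      fin_cases i <;> fin_cases j
      · exact e1
      · exact e2
      · exact e3
      · exact a3.trans b3.symm
      · exact e5
      · exact e4
      · exact a1.trans b1.symm
      · exact a2.trans b2.symm
      · exact a4.symm.trans (e1.trans b4)
    have h1 := Nat.card_le_card_of_injective φ hφ
    have h2 : Nat.card (Fˣ × F × F × F) = 192 := by
      rw [Nat.card_prod, Nat.card_prod, Nat.card_prod, Nat.card_units, Nat.card_eq_fintype_card, hF]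
    omega
  -- the map onto the centralizer
  have hmap : S.map π = Subgroup.centralizer ({π (us 1 0)} : Set T) := by
    apply le_antisymm
    · rintro _ ⟨g, hg, rfl⟩
      have hg' : g ∈ S := hg
      rw [hS, Subgroup.mem_centralizer_singleton_iff] at hg'
      rw [Subgroup.mem_centralizer_singleton_iff, ← map_mul, ← map_mul, hg']
    · intro x hx
      obtain ⟨g, rfl⟩ := hπ x
      rw [Subgroup.mem_centralizer_singleton_iff, ← map_mul, ← map_mul] at hx
      have h1 : g * us 1 0 * (us 1 0 * g)⁻¹ ∈ π.ker := by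
        rw [MonoidHom.mem_ker, map_mul, map_inv, hx, mul_inv_cancel]
      rw [hk, Matrix.SpecialLinearGroup.mem_center_iff] at h1
      obtain ⟨c, -, hc⟩ := h1
      have h2 : g.1 * um 1 0 = c • (um 1 0 * g.1) := by
        have h3 : (g * us 1 0 * (us 1 0 * g)⁻¹) * (us 1 0 * g) = g * us 1 0 := inv_mul_cancel_right _ _
        have h4 := congrArg Subtype.val h3
        have h5 : (g * us 1 0 * (us 1 0 * g)⁻¹ : Matrix.SpecialLinearGroup (Fin 3) F).1 * (um 1 0 * g.1) =
            g.1 * um 1 0 := h4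
        rw [← hc, Matrix.scalar_apply, ← Matrix.smul_eq_diagonal_mul] at h5
        exact h5.symm
      have h3 := (entries h2 (by rw [g.2]; exact one_ne_zero)).1
      refine ⟨g, ?_, rfl⟩
      show g ∈ S
      rw [hS, Subgroup.mem_centralizer_singleton_iff]
      apply Subtype.ext
      show g.1 * um 1 0 = um 1 0 * g.1
      rw [h2, h3, one_smul]
  -- the kernel has at least 3 elements
  have hker : 3 ≤ Nat.card (π.comp S.subtype).ker := by
    have hsc : ∀ a : Fˣ, (a : F) ^ 3 = 1 := by
      intro a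
      have h1 : a ^ 3 = 1 := by
        have h2 := pow_card_eq_one (G := Fˣ) (x := a)
        rwa [Fintype.card_units, hF] at h2
      have h3 := congrArg Units.val h1
      rwa [Units.val_pow_eq_pow_val, Units.val_one] at h3
    let s : Fˣ → Matrix.SpecialLinearGroup (Fin 3) F := fun a =>
      ⟨Matrix.scalar (Fin 3) (a : F), by rw [Matrix.scalar_apply, Matrix.det_diagonal]; simpa using hsc a⟩
    have hcen : ∀ a, s a ∈ Subgroup.center (Matrix.SpecialLinearGroup (Fin 3) F) := by
      intro a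
      rw [Matrix.SpecialLinearGroup.mem_center_iff]
      exact ⟨a, by simpa using hsc a, rfl⟩
    have hsS : ∀ a, s a ∈ S := by
      intro a
      rw [hS, Subgroup.mem_centralizer_singleton_iff]
      exact (Subgroup.mem_center_iff.1 (hcen a) _).symm
    let ψ : Fˣ → (π.comp S.subtype).ker := fun a => ⟨⟨s a, hsS a⟩, by
      rw [MonoidHom.mem_ker]
      show π (s a) = 1
      rw [← MonoidHom.mem_ker, hk]
      exact hcen a⟩
    have hψ : Function.Injective ψ := by
      intro a b hab
      have h1 : (s a).1 0 0 = (s b).1 0 0 :=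
        congrArg (fun x : (π.comp S.subtype).ker => (x.1.1.1 : Matrix (Fin 3) (Fin 3) F) 0 0) hab
      have h2 : (s a).1 0 0 = (a : F) := by
        show (Matrix.scalar (Fin 3) (a : F)) 0 0 = _
        simp
      have h3 : (s b).1 0 0 = (b : F) := by
        show (Matrix.scalar (Fin 3) (b : F)) 0 0 = _
        simp
      exact Units.ext (by rw [← h2, h1, h3])
    have h1 := Nat.card_le_card_of_injective ψ hψ
    rw [Nat.card_units, Nat.card_eq_fintype_card, hF] at h1
    exact h1
  have hcard : Nat.card S = Nat.card (π.comp S.subtype).ker *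
      Nat.card (Subgroup.centralizer ({π (us 1 0)} : Set T)) := by
    rw [← hmap, Subgroup.card_eq_card_quotient_mul_card_subgroup (π.comp S.subtype).ker, mul_comm]
    congr 1
    have h1 := Nat.card_congr (QuotientGroup.quotientKerEquivRange (π.comp S.subtype)).toEquiv
    rw [h1, MonoidHom.range_comp, Subgroup.range_subtype]
  nlinarith

end mat

/-- the data used below -/
structure Data (T : Type u) [Group T] (t : T) : Prop where
  ne : t ≠ 1
  val : ∀ ψ : T → ℂ, IsIrrCharacter T ψ → ∀ d : ℕ, ψ 1 = (d : ℂ) →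
    ∃ v : ℤ, ψ t = (v : ℂ) ∧ ∃ k : ℕ, (d : ℤ) + 15 * v = 16 * k
  cen : Nat.card (Subgroup.centralizer ({t} : Set T)) ≤ 64

theorem exists_data {F : Type} [Field F] [Fintype F] (hF : Fintype.card F = 4) {T : Type u} [Group T] [Finite T]
    (e : T ≃* Matrix.ProjectiveSpecialLinearGroup (Fin 3) F) : ∃ t : T, Data T t := by
  classical
  have : Fintype T := Fintype.ofFinite T
  have hch : CharP F 2 := by
    obtain ⟨p, hp⟩ := CharP.exists F
    have : Fact p.Prime := ⟨CharP.char_is_prime F p⟩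
    obtain ⟨n, hp', hn⟩ := FiniteField.card F p
    rw [hF] at hn
    have h1 : p ∣ 2 ^ 2 := by
      rw [show 2 ^ 2 = 4 from rfl, hn]
      exact dvd_pow_self p n.ne_zero
    have h2 : p = 2 := (Nat.prime_dvd_prime_iff_eq hp' Nat.prime_two).1 (hp'.dvd_of_dvd_pow h1)
    rwa [h2] at hp
  set π : Matrix.SpecialLinearGroup (Fin 3) F →* T := e.symm.toMonoidHom.comp (QuotientGroup.mk' _) with hπ
  have hπs : Function.Surjective π := e.symm.surjective.comp (QuotientGroup.mk'_surjective _)
  have hπk : π.ker = Subgroup.center _ := by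
    ext g
    rw [MonoidHom.mem_ker]
    constructor
    · intro h
      have h1 : (QuotientGroup.mk g : Matrix.ProjectiveSpecialLinearGroup (Fin 3) F) = 1 := by
        apply e.symm.injective
        rw [map_one]
        exact h
      exact (QuotientGroup.eq_one_iff _).1 h1
    · intro h
      have h1 : (QuotientGroup.mk g : Matrix.ProjectiveSpecialLinearGroup (Fin 3) F) = 1 :=
        (QuotientGroup.eq_one_iff _).2 h
      show e.symm (QuotientGroup.mk g) = 1
      rw [h1, map_one]
  have hcen := card_centralizer_le hF π hπs hπk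
  obtain ⟨t, ht⟩ : ∃ t : T, t = π (us 1 0) := ⟨_, rfl⟩
  rw [← ht] at hcen
  have htne : t ≠ 1 := by
    intro h
    apply mk_us_ne (F := F)
    apply e.symm.injective
    rw [map_one, ← h, ht]
    rfl
  have htt : t * t = 1 := by
    rw [ht, ← map_mul, us_mul, CharTwo.add_self_eq_zero, add_zero, us_zero, map_one]
  refine ⟨t, htne, ?_, hcen⟩
  intro ψ hψ d h7
  have hψc := isIrr_isCharacter hψ
  have hval : ∀ a b : F, ¬ (a = 0 ∧ b = 0) → ψ (π (us a b)) = ψ t := by
    intro a b hab
    obtain ⟨g, hg⟩ := us_conj a b hab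
    have h1 : t = π g * π (us a b) * (π g)⁻¹ := by
      rw [ht, ← map_mul, hg, map_mul, mul_inv_cancel_right]
    rw [h1, isCharacter_isClassFunction hψc]
  -- the sum over the group of order sixteen
  obtain ⟨k, hk⟩ := sum_eq (isCharacter_comp (π.comp (uh F)) hψc)
  have hcard : Fintype.card (Multiplicative (F × F)) = 16 := by
    rw [Fintype.card_multiplicative, Fintype.card_prod, hF]
  have hsum : ∑ x : Multiplicative (F × F), ψ ((π.comp (uh F)) x) = d + 15 * ψ t := by
    rw [← Finset.add_sum_erase _ _ (Finset.mem_univ (1 : Multiplicative (F × F)))]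
    rw [map_one, h7]
    congr 1
    rw [Finset.sum_congr rfl (g := fun _ => ψ t) (fun x hx => ?_), Finset.sum_const, Finset.card_erase_of_mem (Finset.mem_univ _),
      Finset.card_univ, hcard]
    · simp
    · refine hval _ _ fun h => (Finset.ne_of_mem_erase hx) ?_
      apply Multiplicative.toAdd.injective
      exact Prod.ext h.1 h.2
  -- the sum over the group of order two
  have hZ : (ZMod.lift 2 ⟨(zmultiplesHom (Additive T)) (Additive.ofMul t), by
      show (2 : ℤ) • Additive.ofMul t = 0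
      rw [two_zsmul, ← ofMul_mul, htt, ofMul_one]⟩) 1 = Additive.ofMul t := by
    have := ZMod.lift_coe 2 ⟨(zmultiplesHom (Additive T)) (Additive.ofMul t), by
      show (2 : ℤ) • Additive.ofMul t = 0
      rw [two_zsmul, ← ofMul_mul, htt, ofMul_one]⟩ 1
    rw [Int.cast_one] at this
    rw [this]
    simp
  set δ : Multiplicative (ZMod 2) →* T := AddMonoidHom.toMultiplicativeLeft (ZMod.lift 2 ⟨(zmultiplesHom (Additive T)) (Additive.ofMul t), by
      show (2 : ℤ) • Additive.ofMul t = 0
      rw [two_zsmul, ← ofMul_mul, htt, ofMul_one]⟩) with hδ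
  obtain ⟨m, hm⟩ := sum_eq (isCharacter_comp δ hψc)
  have hm' : (d : ℂ) + ψ t = 2 * m := by
    have h1 : ∑ x : Multiplicative (ZMod 2), ψ (δ x) = ψ (δ 1) + ψ (δ (Multiplicative.ofAdd 1)) :=
      Fin.sum_univ_two (fun x : Fin 2 => ψ (δ (Multiplicative.ofAdd (x : ZMod 2))))
    have h2 : δ (Multiplicative.ofAdd 1) = t := by
      show Additive.toMul ((ZMod.lift 2 _) 1) = t
      rw [hZ]
      rfl
    rw [map_one, h7, h2] at h1
    have h3 : Fintype.card (Multiplicative (ZMod 2)) = 2 := rfl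
    rw [h3] at hm
    rw [← h1]
    exact hm
  have hk' : (d : ℂ) + 15 * ψ t = 16 * k := by
    rw [← hsum]
    rw [hcard] at hk
    exact hk
  have hx : ψ t = ((2 * (m : ℤ) - d : ℤ) : ℂ) := by
    push_cast
    linear_combination hm'
  refine ⟨2 * (m : ℤ) - d, hx, k, ?_⟩
  have h1 : (((d : ℤ) + 15 * (2 * (m : ℤ) - d) : ℤ) : ℂ) = ((16 * (k : ℤ) : ℤ) : ℂ) := by
    rw [hx] at hk'
    push_cast at hk' ⊢
    exact hk'
  exact_mod_cast h1

/-- **task 595: `l34_elim`** -/
theorem l34_elim {F : Type} [Field F] [Fintype F] (hF : Fintype.card F = 4) {T : Type u} [Group T] [Finite T]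
    (e : T ≃* Matrix.ProjectiveSpecialLinearGroup (Fin 3) F)
    (h : ∀ ψ : T → ℂ, IsIrrCharacter T ψ →
      ∃ d ∈ [1, 7, 10, 14, 20, 21, 28, 32, 35, 42, 45, 56, 64, 70, 90], ψ 1 = ((d : ℕ) : ℂ)) : False := by
  classical
  have : Fintype T := Fintype.ofFinite T
  obtain ⟨t, htne, hval, hcen⟩ := exists_data hF e
  have hs : IsSimpleGroup (Matrix.ProjectiveSpecialLinearGroup (Fin 3) F) := Cfsg.Agent.S0249.result 3 le_rfl
  have hsT : IsSimpleGroup T := e.isSimpleGroup
  have hone : IsIrrCharacter T (1 : T → ℂ) := isIrr_one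
  -- the kernel
  have hker : ∀ ψ : T → ℂ, IsIrrCharacter T ψ → ψ t = ψ 1 → ψ = 1 := by
    intro ψ hψ ht7
    by_contra hne
    have hker : Cfsg.Agent.H686.CharKit.chKer (⟨ψ, hψ⟩ : IrrCharacter T) = ⊤ := by
      rcases (inferInstance : (Cfsg.Agent.H686.CharKit.chKer (⟨ψ, hψ⟩ : IrrCharacter T)).Normal).eq_bot_or_eq_top with h | h
      · exfalso
        apply htne
        have h1 : t ∈ Cfsg.Agent.H686.CharKit.chKer (⟨ψ, hψ⟩ : IrrCharacter T) := ht7
        rwa [h, Subgroup.mem_bot] at h1
      · exact h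
    have hconst : ∀ g, ψ g = ψ 1 := by
      intro g
      have h1 : g ∈ Cfsg.Agent.H686.CharKit.chKer (⟨ψ, hψ⟩ : IrrCharacter T) := by rw [hker]; exact Subgroup.mem_top g
      exact h1
    have h0 := classInner_irr_ne hψ isIrr_one hne
    rw [classInner] at h0
    have h0' : (Nat.card T : ℂ)⁻¹ * ∑ g : T, ψ 1 = 0 := by
      rw [← h0]
      congr 1
      refine Finset.sum_congr rfl fun g _ => ?_
      rw [hconst g]
      simp
    rw [Finset.sum_const, Finset.card_univ, nsmul_eq_mul, Nat.card_eq_fintype_card] at h0'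
    have hc : ((Fintype.card T : ℕ) : ℂ) ≠ 0 := by exact_mod_cast Fintype.card_ne_zero
    rw [← mul_assoc, inv_mul_cancel₀ hc, one_mul] at h0'
    have h2 := Cfsg.Agent.H686.CharKit.charDegree_pos (⟨ψ, hψ⟩ : IrrCharacter T)
    have h3 := Cfsg.Agent.H686.CharKit.charDegree_irr (⟨ψ, hψ⟩ : IrrCharacter T)
    have h4 : ((⟨ψ, hψ⟩ : IrrCharacter T) : T → ℂ) 1 = 0 := h0'
    rw [h4] at h3
    have h5 : charDegree ((⟨ψ, hψ⟩ : IrrCharacter T) : T → ℂ) = 0 := by exact_mod_cast h3
    omega
  have hfin' : Finite (IrrCharacter T) := Cfsg.Agent.Characters.Core.finite_irr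
  have hfin : Fintype (IrrCharacter T) := Fintype.ofFinite _
  have hnsq := Cfsg.Agent.H686.CharKit.sum_normSq t
  -- the bound on the values
  have hbound : ∀ ψ : IrrCharacter T, ψ ≠ ⟨1, hone⟩ → ∀ v : ℤ, (ψ : T → ℂ) t = (v : ℂ) → v * v ≤ 63 := by
    intro ψ hψ v hv
    have h1 : Complex.normSq ((ψ : T → ℂ) t) + Complex.normSq (((⟨1, hone⟩ : IrrCharacter T) : T → ℂ) t) ≤
        ∑ χ : IrrCharacter T, Complex.normSq ((χ : T → ℂ) t) := by
      rw [← Finset.sum_pair (f := fun χ : IrrCharacter T => Complex.normSq ((χ : T → ℂ) t)) hψ]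
      exact Finset.sum_le_sum_of_subset_of_nonneg (Finset.subset_univ _) fun _ _ _ => Complex.normSq_nonneg _
    have h2 : Complex.normSq (((⟨1, hone⟩ : IrrCharacter T) : T → ℂ) t) = 1 := by
      show Complex.normSq (1 : ℂ) = 1
      exact Complex.normSq_one
    have h3 : Complex.normSq ((ψ : T → ℂ) t) = (v : ℝ) * v := by
      rw [hv, Complex.normSq_intCast]
    rw [hnsq, h2, h3] at h1
    have h4 : ((v * v + 1 : ℤ) : ℝ) ≤ ((Nat.card (Subgroup.centralizer ({t} : Set T)) : ℤ) : ℝ) := by
      push_cast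
      exact h1
    have h5 : v * v + 1 ≤ (Nat.card (Subgroup.centralizer ({t} : Set T)) : ℤ) := by exact_mod_cast h4
    omega
  -- the products
  have hprod : ∀ ψ : IrrCharacter T, ∃ f : ℤ, (ψ : T → ℂ) 1 * (starRingEnd ℂ) ((ψ : T → ℂ) t) = (f : ℂ) ∧
      (ψ ≠ ⟨1, hone⟩ → (5 : ℤ) ∣ f) := by
    intro ψ
    obtain ⟨d, hd, hψ1⟩ := h ψ.1 ψ.2
    obtain ⟨v, hv, k, hk⟩ := hval ψ.1 ψ.2 d hψ1
    refine ⟨d * v, ?_, ?_⟩
    · rw [hψ1, hv]
      push_cast
      rw [map_intCast]
    · intro hne
      have hb := hbound ψ hne v hv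
      have h7 : d ≠ 7 := by
        rintro rfl
        exact l34_no_seven hF e ψ.1 ψ.2 (by rw [hψ1]; norm_num)
      have hv7 : v ≤ 7 := by nlinarith
      have hv7' : -7 ≤ v := by nlinarith
      have h1 : ¬ (d = 1 ∧ v = 1) := by
        rintro ⟨rfl, rfl⟩
        apply hne
        apply Subtype.ext
        apply hker ψ.1 ψ.2
        rw [hv, hψ1]
        simp
      simp only [List.mem_cons, List.not_mem_nil, or_false] at hd
      rcases hd with rfl | rfl | rfl | rfl | rfl | rfl | rfl | rfl | rfl | rfl | rfl | rfl | rfl | rfl | rfl <;> omega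
  choose f hf1 hf2 using hprod
  have hconj : ¬ IsConj (1 : T) t := by
    intro hc
    exact htne (isConj_one_right.1 hc)
  have horth := Cfsg.Agent.H686.CharKit.col_orth (1 : T) t
  rw [if_neg hconj, Finset.sum_congr rfl (fun χ _ => hf1 χ), ← Int.cast_sum] at horth
  have h0 : ∑ χ : IrrCharacter T, f χ = 0 := by exact_mod_cast horth
  rw [← Finset.add_sum_erase _ _ (Finset.mem_univ (⟨1, hone⟩ : IrrCharacter T))] at h0
  have h1 : f ⟨1, hone⟩ = 1 := by
    have h2 := hf1 ⟨1, hone⟩
    have h3 : (((⟨1, hone⟩ : IrrCharacter T) : T → ℂ) 1) * (starRingEnd ℂ) (((⟨1, hone⟩ : IrrCharacter T) : T → ℂ) t) = 1 := by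
      show (1 : ℂ) * (starRingEnd ℂ) 1 = 1
      simp
    rw [h3] at h2
    have h4 : ((1 : ℤ) : ℂ) = (f ⟨1, hone⟩ : ℂ) := by rw [← h2]; simp
    exact (by exact_mod_cast h4 : (1 : ℤ) = f ⟨1, hone⟩).symm
  have h5 : (5 : ℤ) ∣ ∑ χ ∈ Finset.univ.erase (⟨1, hone⟩ : IrrCharacter T), f χ :=
    Finset.dvd_sum fun χ hχ => hf2 χ (Finset.ne_of_mem_erase hχ)
  omega

end Cfsg.Agent.H131.L34Elim
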