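import Cfsg.Agent.OrdDiv.Main
import Cfsg.Agent.OrdDiv.Table
import Cfsg.Agent.OrdCrit.Main
import Cfsg.Agent.H131.CharTwo
import Cfsg.Agent.H816.TwoOrd
import Cfsg.Agent.S0252
import Cfsg.Agent.S0253
import Cfsg.Agent.S0254
import Cfsg.Agent.S0256

/-!
# Groups of Lie type of large order dividing `n! / 2` (helper131, task 597 for S4941)
-/

set_option autoImplicit false
open Cfsg Cfsg.Agent.OrdDiv

universe u

namespace Cfsg.Agent.H131.LieList

/-- the condition -/
def ok (n p : ℕ) (g : Grp) : Bool :=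
  Nat.beq (n.factorial % (2 * ordN g)) 0 &&
    Nat.blt (n.factorial * (Nat.gcd (ordN g) (p ^ 40)) ^ 2) (2 * (ordN g) ^ 2)

/-- the survivors -/
def tab : List (ℕ × ℕ × Grp) :=
  [(5, 2, .psl 2 4), (5, 5, .psl 2 5), (6, 3, .psl 2 9), (7, 2, .psl 2 8), (8, 2, .psl 4 2), (8, 2, .psl 3 4)]

/-- the computation -/
def chk (n : ℕ) : Bool :=
  (List.range (n + 1)).all fun p => !(isPrimeB p) ||
    ((Cfsg.Agent.H816.TwoOrd.lieList p ((n - 1) / (p - 1))).filter (ok n p)).all fun g => decide ((n, p, g) ∈ tab)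

/-- the computation on an interval (split for the memory of the kernel check) -/
def chkI (a k : ℕ) : Bool := (List.range k).all fun i => chk (a + i)

theorem chkI_a : chkI 5 15 = true := by decide +kernel
theorem chkI_b : chkI 20 6 = true := by decide +kernel
theorem chkI_c : chkI 26 4 = true := by decide +kernel
theorem chkI_d : chkI 30 3 = true := by decide +kernel
theorem chkI_e : chkI 33 2 = true := by decide +kernel
theorem chkI_f : chkI 35 2 = true := by decide +kernel
theorem chkI_g : chkI 37 2 = true := by decide +kernel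

theorem chk_of_chkI {a k n : ℕ} (h : chkI a k = true) (h1 : a ≤ n) (h2 : n < a + k) : chk n = true := by
  have h3 := List.all_eq_true.1 h (n - a) (List.mem_range.2 (by omega))
  rwa [Nat.add_sub_cancel' h1] at h3

theorem chk_all : ((List.range 39).all fun n => !(Nat.ble 5 n) || chk n) = true := by
  refine List.all_eq_true.2 fun n hn => ?_
  have h39 : n < 39 := List.mem_range.1 hn
  by_cases h5 : 5 ≤ n
  · have h : chk n = true := by
      rcases Nat.lt_or_ge n 20 with h | h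
      · exact chk_of_chkI chkI_a h5 h
      rcases Nat.lt_or_ge n 26 with h' | h'
      · exact chk_of_chkI chkI_b h h'
      rcases Nat.lt_or_ge n 30 with h'' | h''
      · exact chk_of_chkI chkI_c h' h''
      rcases Nat.lt_or_ge n 33 with h3 | h3
      · exact chk_of_chkI chkI_d h'' h3
      rcases Nat.lt_or_ge n 35 with h4 | h4
      · exact chk_of_chkI chkI_e h3 h4
      rcases Nat.lt_or_ge n 37 with h6 | h6
      · exact chk_of_chkI chkI_f h4 h6
      · exact chk_of_chkI chkI_g h6 h39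
    rw [h, Bool.or_true]
  · have h : Nat.ble 5 n = false := by
      rw [← Bool.not_eq_true, Nat.ble_eq]
      exact h5
    rw [h]
    rfl

theorem gcd_eq {N p k : ℕ} (hp : p.Prime) (hN : N ≠ 0) (h : N.factorization p ≤ k) : Nat.gcd N (p ^ k) = ordProj[p] N := by
  apply Nat.dvd_antisymm
  · obtain ⟨j, -, hj⟩ := (Nat.dvd_prime_pow hp).1 (Nat.gcd_dvd_right N (p ^ k))
    rw [hj]
    apply pow_dvd_pow
    have h1 : p ^ j ∣ N := by
      rw [← hj]
      exact Nat.gcd_dvd_left _ _
    exact (hp.pow_dvd_iff_le_factorization hN).1 h1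
  · exact Nat.dvd_gcd (Nat.ordProj_dvd N p) (pow_dvd_pow p h)

theorem legendre {n p : ℕ} (hp : p.Prime) (hn : 1 ≤ n) : (p - 1) * n.factorial.factorization p ≤ n - 1 := by
  have : Fact p.Prime := ⟨hp⟩
  have h := sub_one_mul_padicValNat_factorial (p := p) n
  rw [Nat.factorization_def _ hp, h]
  have h2 : 1 ≤ (p.digits n).sum := by
    by_contra hlt
    have h3 : (p.digits n).sum = 0 := by omega
    have h4 : ∀ x ∈ p.digits n, x = 0 := by
      intro x hx
      have := List.single_le_sum (fun _ _ => Nat.zero_le _) x hx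
      omega
    have h5 : p.digits n ≠ [] := by
      rw [Ne, Nat.digits_eq_nil_iff_eq_zero]
      omega
    exact Nat.getLast_digit_ne_zero p (by omega : n ≠ 0) (h4 _ (List.getLast_mem h5))
  omega

theorem fact_large : ∀ m : ℕ, 2 * 16 ^ (m + 38) ≤ (m + 39).factorial
  | 0 => by decide +kernel
  | m + 1 => by
    have h := fact_large m
    have h1 : (m + 1 + 39).factorial = (m + 40) * (m + 39).factorial := Nat.factorial_succ (m + 39)
    rw [h1, show m + 1 + 38 = (m + 38) + 1 from by ring, pow_succ]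
    nlinarith

theorem le_two_pow (p : ℕ) (hp : 1 ≤ p) : p ≤ 2 ^ (p - 1) := by
  have := Nat.lt_two_pow_self (n := p - 1)
  omega

/-- the bound for `n` -/
theorem bound {n p N : ℕ} (hn : 5 ≤ n) (hp : p.Prime) (hN : N ≠ 0) (hd : 2 * N ∣ n.factorial)
    (hk : n.factorial * (ordProj[p] N) ^ 2 < 2 * N ^ 2) (hc : N < (ordProj[p] N) ^ 3) : n ≤ 38 := by
  by_contra hlt
  push Not at hlt
  obtain ⟨m, rfl⟩ : ∃ m, n = m + 39 := ⟨n - 39, by omega⟩
  have h1 := fact_large m
  obtain ⟨P, hP⟩ : ∃ P, P = ordProj[p] N := ⟨_, rfl⟩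
  rw [← hP] at hk hc
  have hPpos : 0 < P := by rw [hP]; exact Nat.ordProj_pos N p
  have h2 : (m + 39).factorial < 2 * P ^ 4 := by
    have h3 : N ^ 2 < P ^ 6 := by
      calc N ^ 2 < (P ^ 3) ^ 2 := Nat.pow_lt_pow_left hc (by norm_num)
        _ = P ^ 6 := by ring
    have h4 : (m + 39).factorial * P ^ 2 < (2 * P ^ 4) * P ^ 2 := by
      calc (m + 39).factorial * P ^ 2 < 2 * N ^ 2 := hk
        _ < 2 * P ^ 6 := by omega
        _ = (2 * P ^ 4) * P ^ 2 := by ring
    exact lt_of_mul_lt_mul_right h4 (Nat.zero_le _)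
  have hv : (p - 1) * N.factorization p ≤ m + 38 := by
    have h3 := legendre (n := m + 39) hp (by omega)
    have h4 : N.factorization p ≤ (m + 39).factorial.factorization p := by
      apply (Nat.factorization_le_iff_dvd hN (Nat.factorial_ne_zero _)).2
      exact (Dvd.intro_left 2 rfl).trans hd
    have h5 := Nat.mul_le_mul_left (p - 1) h4
    omega
  have hP2 : P ≤ 2 ^ (m + 38) := by
    have hp1 : p - 1 ≠ 0 := by have := hp.two_le; omega
    apply (Nat.pow_le_pow_iff_left hp1).1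
    rw [hP, ← pow_mul, mul_comm]
    calc p ^ ((p - 1) * N.factorization p) ≤ p ^ (m + 38) := Nat.pow_le_pow_right hp.pos hv
      _ ≤ (2 ^ (p - 1)) ^ (m + 38) := Nat.pow_le_pow_left (le_two_pow p hp.one_le) _
      _ = (2 ^ (m + 38)) ^ (p - 1) := by rw [← pow_mul, ← pow_mul, mul_comm]
  have h5 : P ^ 4 ≤ 16 ^ (m + 38) := by
    calc P ^ 4 ≤ (2 ^ (m + 38)) ^ 4 := Nat.pow_le_pow_left hP2 4
      _ = 16 ^ (m + 38) := by rw [← pow_mul, mul_comm, pow_mul]; norm_num
  omega

/-- **task 597: `lie_list`** -/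
theorem lie_list {n p : ℕ} (hn : 5 ≤ n) (hp : p.Prime) {T : Type u} [Group T] [Finite T] [IsSimpleGroup T]
    (h : IsLieTypeChar p T) (hd : 2 * Nat.card T ∣ n.factorial)
    (hk : n.factorial * (ordProj[p] (Nat.card T)) ^ 2 < 2 * (Nat.card T) ^ 2) :
    Nonempty (T ≃* alternatingGroup (Fin n)) ∨ (n = 7 ∧ p = 2 ∧ Nat.card T = 504) ∨
      (n = 8 ∧ ∃ (F : Type) (_ : Field F) (_ : Fintype F), Fintype.card F = 4 ∧
        Nonempty (T ≃* Matrix.ProjectiveSpecialLinearGroup (Fin 3) F)) := by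
  have hT0 : Nat.card T ≠ 0 := Nat.card_pos.ne'
  have hc : Nat.card T < (ordProj[p] (Nat.card T)) ^ 3 := by
    by_cases hp2 : p = 2
    · subst hp2
      exact Cfsg.Agent.H131.CharTwo.card_lt_cube_two h
    · exact Cfsg.Agent.OrdCrit.card_lt_cube hp hp2 h
  have hn38 := bound hn hp hT0 hd hk hc
  have hle := legendre (n := n) hp (by omega)
  have hfac : (Nat.card T).factorization p ≤ n.factorial.factorization p := by
    apply (Nat.factorization_le_iff_dvd hT0 (Nat.factorial_ne_zero _)).2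
    exact (Dvd.intro_left 2 rfl).trans hd
  have hp1 : 1 ≤ p - 1 := by have := hp.two_le; omega
  have hfk : (Nat.card T).factorization p ≤ (n - 1) / (p - 1) := by
    rw [Nat.le_div_iff_mul_le hp1, mul_comm]
    exact (Nat.mul_le_mul_left _ hfac).trans hle
  have hndvd : ¬ p ^ ((n - 1) / (p - 1) + 1) ∣ Nat.card T := by
    rw [hp.pow_dvd_iff_le_factorization hT0]
    omega
  have hpn : p ≤ n := by
    by_contra hlt
    push Not at hlt
    have h1 : (Nat.card T).factorization p ≤ 0 := by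
      refine hfk.trans ?_
      rw [Nat.div_eq_of_lt (by omega)]
    have h2 : (Nat.card T).factorization p = 0 := by omega
    rw [h2, pow_zero, one_pow] at hc
    have := Nat.card_pos (α := T)
    omega
  obtain ⟨g, hg, hr, hcard⟩ := Cfsg.Agent.H816.TwoOrd.lie_bounded table hp h hndvd
  have hf40 : (Nat.card T).factorization p ≤ 40 := by
    refine hfk.trans ((Nat.div_le_self _ _).trans ?_)
    omega
  have hok : ok n p g = true := by
    unfold ok
    rw [Bool.and_eq_true, Nat.beq_eq, Nat.blt_eq, ← hcard, gcd_eq hp hT0 hf40]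
    exact ⟨Nat.mod_eq_zero_of_dvd hd, hk⟩
  have hmem : (n, p, g) ∈ tab := by
    have h1 := chk_all
    rw [List.all_eq_true] at h1
    have h2 := h1 n (List.mem_range.2 (by omega))
    rw [Bool.or_eq_true] at h2
    have h3 : chk n = true := by
      rcases h2 with h2 | h2
      · exfalso
        rw [Nat.ble_eq_true_of_le hn] at h2
        exact absurd h2 (by decide)
      · exact h2
    unfold chk at h3
    rw [List.all_eq_true] at h3
    have h4 := h3 p (List.mem_range.2 (by omega))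
    rw [Bool.or_eq_true] at h4
    rcases h4 with h4 | h4
    · exfalso
      rw [Cfsg.Agent.H816.TwoOrd.isPrimeB_of hp] at h4
      exact absurd h4 (by decide)
    · rw [List.all_eq_true] at h4
      exact of_decide_eq_true (h4 g (List.mem_filter.2 ⟨hg, hok⟩))
  unfold tab at hmem
  simp only [List.mem_cons, Prod.mk.injEq, List.not_mem_nil, or_false] at hmem
  rcases hmem with ⟨rfl, rfl, rfl⟩ | ⟨rfl, rfl, rfl⟩ | ⟨rfl, rfl, rfl⟩ | ⟨rfl, rfl, rfl⟩ | ⟨rfl, rfl, rfl⟩ | ⟨rfl, rfl, rfl⟩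
  · obtain ⟨F, _, _, hF, ⟨e⟩⟩ := hr
    obtain ⟨e'⟩ := Cfsg.Agent.S0252.result hF
    exact Or.inl ⟨e.trans e'⟩
  · obtain ⟨F, _, _, hF, ⟨e⟩⟩ := hr
    obtain ⟨e'⟩ := Cfsg.Agent.S0253.result hF
    exact Or.inl ⟨e.trans e'⟩
  · obtain ⟨F, _, _, hF, ⟨e⟩⟩ := hr
    obtain ⟨e'⟩ := Cfsg.Agent.S0254.result hF
    exact Or.inl ⟨e.trans e'⟩
  · exact Or.inr (Or.inl ⟨rfl, rfl, hcard.trans (by decide +kernel)⟩)
  · obtain ⟨F, _, _, hF, ⟨e⟩⟩ := hr
    obtain ⟨e'⟩ := Cfsg.Agent.S0256.result hF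
    exact Or.inl ⟨e.trans e'⟩
  · obtain ⟨F, i1, i2, hF, ⟨e⟩⟩ := hr
    exact Or.inr (Or.inr ⟨rfl, F, i1, i2, hF, ⟨e⟩⟩)

end Cfsg.Agent.H131.LieList
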