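import Cfsg.Agent.H461.T5.Cube
import Cfsg.Agent.H797.T5.MCong

/-!
# Middle pairs in groups with Sylow `p`-subgroups of order `p ^ 3`: a certificate (helper131)

`allM_of_cube` is the middle version of `H461.T5.wpair_of_cube`: `p ^ 4 ∤ |G|`, `a`, `b`, `c` of order `p` with
`a b = b a c`, `c ≠ 1` commuting with `a` and `b`; if all pairs of representatives `c`, `a`, `a ^ t b` are middle pairs,
all pairs of elements of order `p` of `G` are.  `red_line` : a representative conjugate to `a ^ k c ^ j` can be replaced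
by `a`.
-/

set_option autoImplicit false

namespace Cfsg.Agent.H131.MCube

open Subgroup Cfsg.Agent.H461.T5 Cfsg.Agent.H957.T5M Cfsg.Agent.H797.T5

variable {G : Type*} [Group G] {p : ℕ}

theorem exists_pow_self (hp : p.Prime) {r : G} {N : ℕ} (hr : r ^ p ^ N = 1) {n : ℕ} (hn : ¬ p ∣ n) :
    ∃ m : ℕ, (r ^ n) ^ m = r := by
  have h1 : (orderOf r).Coprime n := by
    have h2 : orderOf r ∣ p ^ N := orderOf_dvd_of_pow_eq_one hr
    exact Nat.Coprime.coprime_dvd_left h2 (Nat.Coprime.pow_left N ((Nat.Prime.coprime_iff_not_dvd hp).2 hn))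
  exact exists_pow_eq_self_of_coprime h1.symm

/-- **The certificate**: groups with Sylow `p`-subgroups of order `p ^ 3`. -/
theorem allM_of_cube [Finite G] [Fact p.Prime] (h4 : ¬ p ^ 4 ∣ Nat.card G) {a b c : G} (ha : a ^ p = 1) (hb : b ^ p = 1)
    (hc : c ^ p = 1) (hc1 : c ≠ 1) (hac : a * c = c * a) (hbc : b * c = c * b) (hab : a * b = b * a * c)
    (H : ∀ r s : G, Rp p a b c r → Rp p a b c s → MPair p (⊤ : Subgroup G) r s) : AllM p G := by
  have hp : p.Prime := Fact.out
  intro x y hx hy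
  -- the Sylow subgroup
  obtain ⟨Q, hQ, haQ, hbQ⟩ := Cfsg.Agent.H573.exists_pgroup_of_class_two (p := p) (a := a) (b := b) (c := c) (i := 1) (j := 1)
    (k := 1) (by rw [pow_one, ha]) (by rw [pow_one, hb]) (by rw [pow_one, hc]) hac hbc hab
  have hle : closure ({a, b} : Set G) ≤ Q := by
    rw [closure_le]
    rintro z (rfl | rfl)
    · exact haQ
    · exact hbQ
  have hP : IsPGroup p (closure ({a, b} : Set G)) := hQ.to_le hle
  have hidx : ¬ p ∣ (closure ({a, b} : Set G)).index := by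
    intro hd
    obtain ⟨n, hn⟩ := IsPGroup.iff_card.1 hP
    have hn3 : 3 ≤ n := by
      by_contra hlt
      have hcomm : ∀ u v : closure ({a, b} : Set G), u * v = v * u := by
        have hn2 : n ≤ 2 := by omega
        interval_cases n
        · have h1 : Subsingleton (closure ({a, b} : Set G)) := (Nat.card_eq_one_iff_unique.1 (by simpa using hn)).1
          exact fun u v => Subsingleton.elim _ _
        · have h1 : IsCyclic (closure ({a, b} : Set G)) := isCyclic_of_prime_card (p := p) (by simpa using hn)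
          let _ := IsCyclic.commGroup (α := (closure ({a, b} : Set G)))
          exact fun u v => mul_comm u v
        · exact fun u v => (IsPGroup.isMulCommutative_of_card_eq_prime_sq hn).1.1 u v
      have h1 := congrArg Subtype.val (hcomm ⟨a, subset_closure (by simp)⟩ ⟨b, subset_closure (by simp)⟩)
      change a * b = b * a at h1
      rw [hab] at h1
      exact hc1 (mul_eq_left.1 h1)
    apply h4
    rw [← Subgroup.card_mul_index (closure ({a, b} : Set G)), hn]
    calc p ^ 4 = p ^ 3 * p := by rw [pow_succ]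
      _ ∣ p ^ n * (closure ({a, b} : Set G)).index := Nat.mul_dvd_mul (pow_dvd_pow p hn3) hd
  -- the representatives are `p`-elements
  have hrp : ∀ r, Rp p a b c r → ∃ N, r ^ p ^ N = 1 := by
    intro r hr
    rcases hr with rfl | rfl | ⟨t, -, rfl⟩
    · exact ⟨1, by rw [pow_one, hc]⟩
    · exact ⟨1, by rw [pow_one, ha]⟩
    · obtain ⟨N, hN⟩ := hP ⟨a ^ t * b, mul_mem (pow_mem (subset_closure (by simp)) _) (subset_closure (by simp))⟩
      exact ⟨N, congrArg Subtype.val hN⟩
  have key : ∀ z : G, orderOf z = p → ∃ r, Rp p a b c r ∧ ∃ (u : G) (m : ℕ), (u * z * u⁻¹) ^ m = r := by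
    intro z hz
    obtain ⟨g, hg⟩ := Cfsg.Agent.H533.T5.exists_conj_mem_of_index hidx hz
    have hne : g * z * g⁻¹ ≠ 1 := by
      intro h
      have h1 : z = 1 := by
        have h2 : z = g⁻¹ * (g * z * g⁻¹) * g := by group
        rw [h2, h]
        group
      rw [h1, orderOf_one] at hz
      exact hp.one_lt.ne hz
    obtain ⟨r, hr, u, n, hn, h⟩ := exists_rep hp ha hc hbc hac hab hb hg hne
    obtain ⟨N, hN⟩ := hrp r hr
    obtain ⟨m, hm⟩ := exists_pow_self hp hN hn
    refine ⟨r, hr, u⁻¹ * g, m, ?_⟩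
    have h2 : u⁻¹ * g * z * (u⁻¹ * g)⁻¹ = r ^ n := by
      calc u⁻¹ * g * z * (u⁻¹ * g)⁻¹ = u⁻¹ * (g * z * g⁻¹) * u := by group
        _ = r ^ n := by rw [h]; group
    rw [h2, hm]
  obtain ⟨r, hr, u, n, hn⟩ := key x hx
  obtain ⟨s, hs, v, m, hm⟩ := key y hy
  refine MPair.conj_left (mem_top u) (MPair.conj_right (mem_top v) (MPair.of_pow n m ?_))
  rw [hn, hm]
  exact H r s hr hs

/-- a representative conjugate to `a ^ k c ^ j`, `p ∤ k`, can be replaced by `a` -/
theorem red_line [Finite G] (hp : p.Prime) {a b c r m : G} (ha : a ^ p = 1) (hc : c ^ p = 1) (hac : a * c = c * a)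
    (hbc : b * c = c * b) (hab : a * b = b * a * c) {k j : ℕ} (hk : ¬ p ∣ k) (h : m * r = a ^ k * c ^ j * m) {d : G}
    (hM : MPair p (⊤ : Subgroup G) a d) : MPair p (⊤ : Subgroup G) r d := by
  obtain ⟨M, -, hM'⟩ := exists_mul_modEq hp hk j
  have h1 : m * r * m⁻¹ = (b ^ M)⁻¹ * a ^ k * b ^ M := by
    rw [h, conj_a hbc hac hab, pow_eq_of_modEq hc hM', mul_inv_cancel_right]
  obtain ⟨e, he⟩ := exists_pow_self hp (N := 1) (by rw [pow_one, ha]) hk (r := a)
  refine MPair.conj_left (s := b ^ M * m) (mem_top _) (MPair.of_pow e 1 ?_)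
  have h2 : b ^ M * m * r * (b ^ M * m)⁻¹ = a ^ k := by
    calc b ^ M * m * r * (b ^ M * m)⁻¹ = b ^ M * (m * r * m⁻¹) * (b ^ M)⁻¹ := by group
      _ = a ^ k := by rw [h1]; group
  rw [h2, he, pow_one]
  exact hM

/-- all lines are fused to `a` -/
theorem allM_of_fused [Finite G] [Fact p.Prime] (h4 : ¬ p ^ 4 ∣ Nat.card G) {a b c : G} (ha : a ^ p = 1) (hb : b ^ p = 1)
    (hc : c ^ p = 1) (hc1 : c ≠ 1) (hac : a * c = c * a) (hbc : b * c = c * b) (hab : a * b = b * a * c)
    (hf : ∀ t < p, ∃ (m : G) (k j : ℕ), ¬ p ∣ k ∧ m * (a ^ t * b) = a ^ k * c ^ j * m)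
    (hcc : MPair p (⊤ : Subgroup G) c c) (hca : MPair p (⊤ : Subgroup G) c a) (haa : MPair p (⊤ : Subgroup G) a a) :
    AllM p G := by
  have hp : p.Prime := Fact.out
  have key : ∀ (r d : G), Rp p a b c r → MPair p (⊤ : Subgroup G) c d → MPair p (⊤ : Subgroup G) a d →
      MPair p (⊤ : Subgroup G) r d := by
    intro r d hr h1 h2
    rcases hr with rfl | rfl | ⟨t, ht, rfl⟩
    · exact h1
    · exact h2
    · obtain ⟨m, k, j, hk, h⟩ := hf t ht
      exact red_line hp ha hc hac hbc hab hk h h2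
  refine allM_of_cube h4 ha hb hc hc1 hac hbc hab fun r s hr hs => ?_
  refine key r s hr ?_ ?_
  · exact (key s c hs hcc hca.symm).symm
  · exact (key s a hs hca haa).symm

end Cfsg.Agent.H131.MCube
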