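import Cfsg.Agent.H777.M5.Elim5Def
import Cfsg.Agent.H978.ThreeTor
import Cfsg.Agent.H610.SpField
import Cfsg.Agent.H423.PGBlk
import Cfsg.Agent.H211.Unf.PSpEven

/-!
# Large abelian 5-subgroups of `PSp_{2m}(q)` (helper131, for S5232/S5230)

* `exists_P` : `SL(2, E)` has an abelian Sylow `p`-subgroup, `p` odd.
* `HasAb m F c` : `Sp(2m, F)` has an abelian 5-subgroup of order at least `5 ^ c`.
* `row_psp`.
-/

set_option autoImplicit false

namespace Cfsg.Agent.H131.MonFive

open Matrix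
open Cfsg.Agent.H777.Elim5 Cfsg.Agent.H749

section syl

variable {F : Type*} [Field F] [Fintype F]

/-- `SL(2, F)` has an abelian Sylow `p`-subgroup, `p` odd. -/
theorem exists_P {p : ℕ} (hp : p.Prime) (hp2 : p ≠ 2) : ∃ P : Subgroup (SpecialLinearGroup (Fin 2) F), IsPGroup p P ∧
    (∀ x ∈ P, ∀ y ∈ P, x * y = y * x) ∧
    Nat.card P = p ^ (Nat.card (SpecialLinearGroup (Fin 2) F)).factorization p := by
  have hf : Fact (Nat.Prime p) := ⟨hp⟩
  obtain ⟨P⟩ : Nonempty (Sylow p (SpecialLinearGroup (Fin 2) F)) := inferInstance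
  refine ⟨P, P.isPGroup', ?_, P.card_eq_multiplicity⟩
  rcases subsingleton_or_nontrivial (P : Subgroup (SpecialLinearGroup (Fin 2) F)) with hs | hn
  · intro x hx y hy
    have h1 : (⟨x, hx⟩ : P) = ⟨y, hy⟩ := Subsingleton.elim _ _
    have h2 : x = y := congrArg Subtype.val h1
    rw [h2]
  · have hc := P.isPGroup'.center_nontrivial
    obtain ⟨⟨z, hz⟩, hz1⟩ := exists_ne (1 : Subgroup.center (P : Subgroup (SpecialLinearGroup (Fin 2) F)))
    have hcz : ∀ x ∈ (P : Subgroup (SpecialLinearGroup (Fin 2) F)), x.1 * z.1.1 = z.1.1 * x.1 := by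
      intro x hx
      have := Subgroup.mem_center_iff.1 hz ⟨x, hx⟩
      exact congrArg (fun g : P => (g.1 : SpecialLinearGroup (Fin 2) F).1) this
    have hns : ¬ (z.1.1 0 1 = 0 ∧ z.1.1 1 0 = 0 ∧ z.1.1 0 0 = z.1.1 1 1) := by
      rintro ⟨e1, e2, e3⟩
      apply hz1
      -- `z` is scalar with `z ^ 2 = 1`
      have hd := z.1.2
      rw [det_fin_two, e1, e2, ← e3, mul_zero, sub_zero] at hd
      have h2 : z.1 * z.1 = 1 := by
        apply Subtype.ext
        change z.1.1 * z.1.1 = 1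
        ext i j
        fin_cases i <;> fin_cases j <;> simp [Matrix.mul_apply, Fin.sum_univ_two, e1, e2, ← e3, hd]
      obtain ⟨k, hk⟩ := P.isPGroup' z
      have h4 : z ^ 2 = 1 := Subtype.ext (by rw [pow_two]; exact h2)
      have h5 : z ^ Nat.gcd 2 (p ^ k) = 1 := pow_gcd_eq_one.2 ⟨h4, hk⟩
      have h6 : Nat.gcd 2 (p ^ k) = 1 := Nat.Coprime.pow_right k
        ((Nat.coprime_primes Nat.prime_two hp).2 (Ne.symm hp2))
      rw [h6, pow_one] at h5
      exact Subtype.ext h5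
    intro x hx y hy
    apply Subtype.ext
    exact Cfsg.Agent.H978.ThreeTor.comm_two hns (hcz x hx) (hcz y hy)

end syl

/-! ### abelian 5-subgroups of symplectic groups -/

/-- `Sp(2m, F)` has an abelian 5-subgroup of order at least `5 ^ c`. -/
def HasAb (m : ℕ) (F : Type) [Field F] (c : ℕ) : Prop :=
  ∃ A : Subgroup (symplecticGroup (Fin m) F), IsPGroup 5 A ∧ (∀ x ∈ A, ∀ y ∈ A, x * y = y * x) ∧ 5 ^ c ≤ Nat.card A

section ab

variable {F : Type} [Field F]

theorem HasAb.le {m c c' : ℕ} (h : HasAb m F c) (hc : c' ≤ c) : HasAb m F c' := by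
  obtain ⟨A, h1, h2, h3⟩ := h
  exact ⟨A, h1, h2, (Nat.pow_le_pow_right (by norm_num) hc).trans h3⟩

theorem hasAb_zero (m : ℕ) : HasAb m F 0 := by
  refine ⟨⊥, IsPGroup.of_bot, ?_, by simp⟩
  intro x hx y hy
  rw [Subgroup.mem_bot.1 hx, Subgroup.mem_bot.1 hy]

theorem blkSp_injective (k l : ℕ) : Function.Injective (Cfsg.Agent.H423.PGBlk.blkSp (F := F) k l) := by
  intro M N h
  have h1 : (Matrix.fromBlocks M.1.1 0 0 M.2.1).submatrix (Cfsg.Agent.H423.PGBlk.spE k l).symm
      (Cfsg.Agent.H423.PGBlk.spE k l).symm = (Matrix.fromBlocks N.1.1 0 0 N.2.1).submatrix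
      (Cfsg.Agent.H423.PGBlk.spE k l).symm (Cfsg.Agent.H423.PGBlk.spE k l).symm := congrArg Subtype.val h
  have h2 : Matrix.fromBlocks M.1.1 0 0 M.2.1 = Matrix.fromBlocks N.1.1 0 0 N.2.1 := by
    ext i j
    have := congrFun (congrFun h1 (Cfsg.Agent.H423.PGBlk.spE k l i)) (Cfsg.Agent.H423.PGBlk.spE k l j)
    simpa using this
  rw [Matrix.fromBlocks_inj] at h2
  exact Prod.ext (Subtype.ext h2.1) (Subtype.ext h2.2.2.2)

theorem HasAb.add {k l c d : ℕ} (h1 : HasAb k F c) (h2 : HasAb l F d) : HasAb (k + l) F (c + d) := by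
  obtain ⟨A, a1, a2, a3⟩ := h1
  obtain ⟨B, b1, b2, b3⟩ := h2
  refine ⟨(A.prod B).map (Cfsg.Agent.H423.PGBlk.blkSp k l), ?_, ?_, ?_⟩
  · refine IsPGroup.map ?_ _
    rintro ⟨⟨x, y⟩, hx, hy⟩
    obtain ⟨i, hi⟩ := a1 ⟨x, hx⟩
    obtain ⟨j, hj⟩ := b1 ⟨y, hy⟩
    have hi' : x ^ 5 ^ i = 1 := congrArg Subtype.val hi
    have hj' : y ^ 5 ^ j = 1 := congrArg Subtype.val hj
    refine ⟨i + j, Subtype.ext (Prod.ext ?_ ?_)⟩
    · show x ^ 5 ^ (i + j) = 1
      rw [pow_add, pow_mul, hi', one_pow]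
    · show y ^ 5 ^ (i + j) = 1
      rw [pow_add, mul_comm, pow_mul, hj', one_pow]
  · rintro _ ⟨⟨x, y⟩, ⟨hx, hy⟩, rfl⟩ _ ⟨⟨x', y'⟩, ⟨hx', hy'⟩, rfl⟩
    rw [← map_mul, ← map_mul]
    congr 1
    exact Prod.ext (a2 _ hx _ hx') (b2 _ hy _ hy')
  · rw [Subgroup.card_map_of_injective (blkSp_injective k l)]
    have e : Nat.card ↥(A.prod B) = Nat.card A * Nat.card B := by
      rw [Nat.card_congr (Subgroup.prodEquiv A B).toEquiv, Nat.card_prod]
    rw [e, pow_add]
    exact Nat.mul_le_mul a3 b3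

theorem HasAb.mul {e a : ℕ} (h : HasAb e F a) (k : ℕ) : HasAb (k * e) F (k * a) := by
  induction k with
  | zero => rw [Nat.zero_mul, Nat.zero_mul]; exact hasAb_zero 0
  | succ k ih => rw [Nat.succ_mul, Nat.succ_mul]; exact ih.add h

theorem HasAb.mono {m n c : ℕ} (h : HasAb m F c) (hmn : m ≤ n) : HasAb n F c := by
  obtain ⟨k, rfl⟩ := Nat.exists_eq_add_of_le hmn
  exact h.add (hasAb_zero k)

/-- the torus -/
theorem hasAb_ext [Fintype F] (h5 : ¬ 5 ∣ Fintype.card F) {e : ℕ} (he : e ≠ 0) :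
    HasAb e F (((Fintype.card F ^ e) ^ 2 - 1).factorization 5) := by
  classical
  obtain ⟨p, hp⟩ := CharP.exists F
  have hpp : Fact p.Prime := ⟨(CharP.char_is_prime_or_zero F p).resolve_right fun h => by
    subst h
    have := CharP.charP_to_charZero F
    exact not_finite F⟩
  have he0 : NeZero e := ⟨he⟩
  let E := FiniteField.Extension F p e
  have : Fintype E := Fintype.ofFinite E
  have hE : Fintype.card E = Fintype.card F ^ e := by
    rw [← Nat.card_eq_fintype_card, ← Nat.card_eq_fintype_card]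
    exact FiniteField.natCard_extension F p e
  have hfin : Module.finrank F E = e := FiniteField.finrank_extension F p e
  let b : Module.Basis (Fin e) F E := Module.finBasisOfFinrankEq F E hfin
  obtain ⟨P, hP, hPc, hcard⟩ := exists_P (F := E) (p := 5) (by norm_num) (by norm_num)
  have hq : 1 < Fintype.card E := Fintype.one_lt_card
  have hsl : (Nat.card (SpecialLinearGroup (Fin 2) E)).factorization 5 =
      ((Fintype.card F ^ e) ^ 2 - 1).factorization 5 := by
    rw [LFourR.LiftPlus.card_SL2, Nat.factorization_mul Fintype.card_ne_zero (by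
      have : 1 < Fintype.card E ^ 2 := one_lt_pow₀ hq (by norm_num)
      omega), Finsupp.add_apply, Nat.factorization_eq_zero_of_not_dvd (fun h => h5 (by
        rw [hE] at h
        exact (by norm_num : Nat.Prime 5).dvd_of_dvd_pow h)), zero_add, hE]
  refine ⟨P.map (Cfsg.Agent.H610.SpField.emb b), hP.map _, ?_, ?_⟩
  · rintro _ ⟨x, hx, rfl⟩ _ ⟨y, hy, rfl⟩
    rw [← map_mul, ← map_mul, hPc x hx y hy]
  · rw [Subgroup.card_map_of_injective (Cfsg.Agent.H610.SpField.emb_injective b), hcard, hsl]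

/-- symmetric matrices from functions on `Sym2` -/
def symF (m : ℕ) (F : Type) [Field F] : (Sym2 (Fin m) → F) →+ Cfsg.Agent.H211.UnfSp.sym m F where
  toFun f := ⟨Matrix.of fun i j => f s(i, j), by
    show (Matrix.of fun i j => f s(i, j))ᵀ = _
    ext i j
    show f s(j, i) = f s(i, j)
    rw [Sym2.eq_swap]⟩
  map_zero' := rfl
  map_add' f g := rfl

theorem symF_injective (m : ℕ) : Function.Injective (symF m F) := by
  intro f g h
  funext x
  induction x using Sym2.ind with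
  | _ i j => exact congrFun (congrFun (congrArg Subtype.val h) i) j

theorem sie_injective (m : ℕ) : Function.Injective (Cfsg.Agent.H211.UnfSp.sie m F) := by
  intro S T h
  have h1 : Matrix.fromBlocks 1 (S.toAdd : Matrix (Fin m) (Fin m) F) 0 1 =
      Matrix.fromBlocks 1 (T.toAdd : Matrix (Fin m) (Fin m) F) 0 1 := congrArg Subtype.val h
  rw [Matrix.fromBlocks_inj] at h1
  exact Subtype.ext h1.2.1

/-- the Siegel radical in characteristic 5 -/
theorem hasAb_siegel [Fintype F] [CharP F 5] {f : ℕ} (hf : Fintype.card F = 5 ^ f) (m : ℕ) :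
    HasAb m F (f * (m * (m + 1) / 2)) := by
  let φ : Multiplicative (Sym2 (Fin m) → F) →* symplecticGroup (Fin m) F :=
    (Cfsg.Agent.H211.UnfSp.sie m F).comp (AddMonoidHom.toMultiplicative (symF m F))
  have hφ : Function.Injective φ := by
    intro a b h
    have h1 := sie_injective m h
    exact symF_injective m h1
  refine ⟨φ.range, ?_, ?_, ?_⟩
  · rintro ⟨_, ⟨a, rfl⟩⟩
    refine ⟨1, Subtype.ext ?_⟩
    show φ a ^ 5 ^ 1 = 1
    rw [pow_one, ← map_pow]
    have h1 : a ^ 5 = 1 := by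
      apply Multiplicative.toAdd.injective
      show 5 • a.toAdd = 0
      funext x
      show 5 • (a.toAdd x) = 0
      rw [nsmul_eq_mul, CharP.cast_eq_zero F 5, zero_mul]
    rw [h1, map_one]
  · rintro _ ⟨x, rfl⟩ _ ⟨y, rfl⟩
    rw [← map_mul, ← map_mul, mul_comm]
  · have h1 : Nat.card φ.range = 5 ^ (f * (m * (m + 1) / 2)) := by
      rw [← Nat.card_congr (MonoidHom.ofInjective hφ).toEquiv]
      show Nat.card (Sym2 (Fin m) → F) = _
      rw [Nat.card_eq_fintype_card, Fintype.card_fun, hf, Sym2.card, Fintype.card_fin, ← pow_mul,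
        Nat.choose_two_right, Nat.add_sub_cancel, mul_comm (m + 1)]
    rw [h1]

end ab

/-! ### the arithmetic -/

theorem five_dvd {F : Type*} [Field F] [Fintype F] (h : 5 ∣ Fintype.card F) :
    CharP F 5 ∧ ∃ f : ℕ, Fintype.card F = 5 ^ f := by
  obtain ⟨p, hp⟩ := CharP.exists F
  obtain ⟨n, hpp, hn⟩ := FiniteField.card F p
  rw [hn] at h
  have h2 : 5 ∣ p := (by norm_num : Nat.Prime 5).dvd_of_dvd_pow h
  have h4 : 5 = p := (Nat.prime_dvd_prime_iff_eq (by norm_num) hpp).1 h2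
  subst h4
  exact ⟨hp, n, hn⟩

theorem hdec : ∀ x : ZMod 5, x ≠ 0 → (x ^ 2) ^ 2 = 1 := by decide

theorem cross {q m : ℕ} (hq : 1 < q) (h5 : ¬ 5 ∣ q)
    (h : 8 ≤ (∏ i ∈ Finset.range m, (q ^ (2 * (i + 1)) - 1)).factorization 5) :
    ∃ e k : ℕ, e ≠ 0 ∧ k * e ≤ m ∧ 5 ≤ k * ((q ^ e) ^ 2 - 1).factorization 5 := by
  have hf : Fact (Nat.Prime 5) := ⟨by norm_num⟩
  have hne : ((q : ℤ) : ZMod 5) ≠ 0 := by
    intro h1
    have h2 := (ZMod.intCast_zmod_eq_zero_iff_dvd _ 5).1 h1
    exact h5 (by exact_mod_cast h2)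
  obtain ⟨e, he⟩ : ∃ e, orderOf (((q : ℤ) ^ 2 : ℤ) : ZMod 5) = e := ⟨_, rfl⟩
  have he2 : e ∣ 2 := by
    rw [← he]
    apply orderOf_dvd_of_pow_eq_one
    push_cast at hne ⊢
    exact hdec _ hne
  have he0 : e ≠ 0 := by
    rintro rfl
    exact absurd (Nat.eq_zero_of_zero_dvd he2) (by norm_num)
  have hq2 : (1 : ℤ) < (q : ℤ) ^ 2 := by
    have : (1 : ℤ) < q := by exact_mod_cast hq
    nlinarith
  have h2 := vp_prod (p := 5) (by norm_num) he (fun i hi h => by
    have := one_lt_pow₀ hq2 hi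
    omega) m
  have h4 : vp 5 (∏ i ∈ Finset.range m, (((q : ℤ) ^ 2) ^ (i + 1) - 1)) =
      (∏ i ∈ Finset.range m, (q ^ (2 * (i + 1)) - 1)).factorization 5 := by
    rw [← vp_natCast]
    congr 1
    rw [Nat.cast_prod]
    refine Finset.prod_congr rfl fun i _ => ?_
    rw [Nat.cast_sub (Nat.one_le_pow _ _ (by omega))]
    push_cast
    rw [pow_mul]
  have h6 : vp 5 (((q : ℤ) ^ 2) ^ e - 1) = ((q ^ e) ^ 2 - 1).factorization 5 := by
    rw [← vp_natCast]
    congr 1
    rw [Nat.cast_sub (Nat.one_le_pow _ _ (Nat.pos_of_ne_zero (pow_ne_zero _ (by omega))))]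
    push_cast
    ring
  rw [h4, h6] at h2
  rw [h2] at h
  have h7 : 4 * (m / e).factorial.factorization 5 ≤ m / e := by
    generalize m / e = k
    have h1 := sub_one_mul_padicValNat_factorial (p := 5) k
    rw [← Nat.factorization_def _ (by norm_num : Nat.Prime 5)] at h1
    omega
  have h8 : 1 ≤ ((q ^ e) ^ 2 - 1).factorization 5 := by
    rw [← h6]
    refine vp_pos (p := 5) ?_ ?_
    · have := one_lt_pow₀ hq2 he0
      omega
    · rw [dvd_pow_sub_one_iff, he]
  refine ⟨e, m / e, he0, Nat.div_mul_le_self m e, ?_⟩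
  have h9 : m / e ≤ m / e * ((q ^ e) ^ 2 - 1).factorization 5 := Nat.le_mul_of_pos_right _ h8
  generalize m / e * ((q ^ e) ^ 2 - 1).factorization 5 = x at h h9 ⊢
  generalize m / e = k at h h7 h9
  omega

/-- **the row** -/
theorem row_psp {m : ℕ} (hm : 1 ≤ m) {F : Type} [Field F] [Fintype F] : Row5 (Cfsg.PSp m F) := by
  intro hV
  have h8 : 5 ^ 8 ∣ Nat.card (symplecticGroup (Fin m) F) := by
    have h1 : 5 ^ 8 ∣ Nat.card (Cfsg.PSp m F) := by
      rcases hV with h | h
      · exact h.1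
      · exact (pow_dvd_pow 5 (by norm_num)).trans h.1
    exact h1.trans (Subgroup.card_quotient_dvd_card _)
  rw [S0245.result (F := F) rfl m] at h8
  have hq : 1 < Fintype.card F := Fintype.one_lt_card
  have hnz : ∏ i ∈ Finset.range m, (Fintype.card F ^ (2 * (i + 1)) - 1) ≠ 0 := by
    rw [Finset.prod_ne_zero_iff]
    intro i _
    have : 1 < Fintype.card F ^ (2 * (i + 1)) := one_lt_pow₀ hq (by omega)
    omega
  have hp5 : Nat.Prime 5 := by norm_num
  have hab : HasAb m F 5 := by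
    by_cases h5 : 5 ∣ Fintype.card F
    · obtain ⟨hch, f, hf⟩ := five_dvd h5
      refine (hasAb_siegel hf m).le ?_
      have h4 : Nat.Coprime (5 ^ 8) (∏ i ∈ Finset.range m, (Fintype.card F ^ (2 * (i + 1)) - 1)) := by
        apply Nat.Coprime.pow_left
        rw [Nat.coprime_prod_right_iff]
        intro i _
        rw [Nat.Prime.coprime_iff_not_dvd hp5]
        intro h
        have h1 : 5 ∣ Fintype.card F ^ (2 * (i + 1)) := h5.trans (dvd_pow_self _ (by omega))
        have h2 : 0 < Fintype.card F ^ (2 * (i + 1)) := Nat.pos_of_ne_zero (pow_ne_zero _ (by omega))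
        have h3 := (Nat.dvd_sub_iff_right (by omega) h1).1 h
        exact absurd (Nat.le_of_dvd one_pos h3) (by norm_num)
      have h6 := h4.dvd_of_dvd_mul_right h8
      rw [hf, ← pow_mul] at h6
      have h7 : 8 ≤ f * m ^ 2 := (Nat.pow_dvd_pow_iff_le_right (by norm_num)).1 h6
      have hm' : m = 1 ∨ m = 2 ∨ 3 ≤ m := by omega
      rcases hm' with rfl | rfl | hm3
      · omega
      · omega
      · have hf0 : 1 ≤ f := by
          rcases Nat.eq_zero_or_pos f with h0 | h0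
          · rw [h0, Nat.zero_mul] at h7; omega
          · exact h0
        have h9 : 12 ≤ m * (m + 1) := Nat.mul_le_mul hm3 (by omega : 4 ≤ m + 1)
        have h10 : 6 ≤ m * (m + 1) / 2 := by omega
        calc 5 ≤ 1 * 6 := by norm_num
          _ ≤ f * (m * (m + 1) / 2) := Nat.mul_le_mul hf0 h10
    · have h4 : Nat.Coprime (5 ^ 8) (Fintype.card F ^ m ^ 2) := by
        apply Nat.Coprime.pow
        rw [Nat.Prime.coprime_iff_not_dvd hp5]
        exact h5
      have h6 := h4.dvd_of_dvd_mul_left h8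
      obtain ⟨e, k, he, hke, hk⟩ := cross hq h5 ((Nat.Prime.pow_dvd_iff_le_factorization hp5 hnz).1 h6)
      exact (((hasAb_ext h5 he).mul k).mono hke).le hk
  obtain ⟨A, hA, hAc, hcard⟩ := hab
  refine Big5.of_hom (A := A) (QuotientGroup.mk' (Subgroup.center (symplecticGroup (Fin m) F))) hA hAc hcard ?_
  intro x hx h1
  have h2 : x ∈ Subgroup.center (symplecticGroup (Fin m) F) := (QuotientGroup.eq_one_iff _).1 h1
  have h4 : (⟨x, h2⟩ : Subgroup.center (symplecticGroup (Fin m) F)) ^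
      Nat.card (Subgroup.center (symplecticGroup (Fin m) F)) = 1 := pow_card_eq_one'
  have h5 : x ^ Nat.card (Subgroup.center (symplecticGroup (Fin m) F)) = 1 := congrArg Subtype.val h4
  obtain ⟨k, hk⟩ := hA ⟨x, hx⟩
  have h6 : x ^ 5 ^ k = 1 := congrArg Subtype.val hk
  have h7 := pow_gcd_eq_one.2 ⟨h5, h6⟩
  have h8 : Nat.gcd (Nat.card (Subgroup.center (symplecticGroup (Fin m) F))) (5 ^ k) = 1 := by
    rw [S0246.result (F := F) rfl m hm]
    apply Nat.Coprime.pow_right
    exact Nat.Coprime.coprime_dvd_left (Nat.gcd_dvd_left _ _) (by norm_num)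
  rw [h8, pow_one] at h7
  exact h7

end Cfsg.Agent.H131.MonFive
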