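import Mathlib
import Cfsg.Agent.H131.SmallClass
import Cfsg.Agent.H131.OrthTwo
import Cfsg.Agent.H131.ExcBig
import Cfsg.Agent.H131.ExcSmall

/-!
# The cube bound for groups of Lie type in odd characteristic with one class of involutions (helper131)
-/

set_option autoImplicit false

namespace Cfsg.Agent.H131.OddLie

open Subgroup Matrix Cfsg Cfsg.Lie Cfsg.Agent.H131.OneClass

theorem field_odd {F : Type*} [Field F] [Fintype F] {p : ℕ} (hp : p.Prime) (hp2 : p ≠ 2) [CharP F p] :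
    Odd (Fintype.card F) ∧ (2 : F) ≠ 0 ∧ 3 ≤ Fintype.card F := by
  obtain ⟨n, hpn, hn⟩ := FiniteField.card F p
  have ho : Odd (Fintype.card F) := by
    rw [hn]
    exact (hp.odd_of_ne_two hp2).pow
  refine ⟨ho, fun h => ?_, ?_⟩
  · have h3 : ((2 : ℕ) : F) = 0 := by exact_mod_cast h
    rw [CharP.cast_eq_zero_iff F p] at h3
    have := Nat.le_of_dvd (by norm_num) h3
    have := hp.two_le
    omega
  · have := Fintype.one_lt_card (α := F)
    obtain ⟨r, hr⟩ := ho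
    omega

/-- **The cube bound**, odd characteristic. -/
theorem cube {p : ℕ} (hp : p.Prime) (hp2 : p ≠ 2) {X : Type*} [Group X] [Finite X] (h : IsLieTypeChar p X)
    (h1 : OneC X) : Cube X := by
  have hfp : Fact p.Prime := ⟨hp⟩
  rcases h with h | h | h | h | h | h | h | h | ⟨hp', -⟩ | ⟨hp', -⟩ | ⟨-, h⟩
  · obtain ⟨F, _, _, _, n, h2, h3, ⟨f⟩⟩ := h
    obtain ⟨ho, hF2, hq⟩ := field_odd (F := F) hp hp2
    have h4 := h1.congr f
    refine Cube.congr f.symm ?_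
    rcases lt_or_ge n 5 with hn | hn
    · interval_cases n
      · refine SmallClass.sl2 ho hF2 ?_ h4
        have := h3 rfl
        obtain ⟨r, hr⟩ := ho
        omega
      · exact SmallClass.sl3 hF2 hq h4
      · exact SmallClass.sl4 ho hF2 hq h4
    · exact absurd h4 (ClassTwo.sl hF2 hn)
  · obtain ⟨F, _, _, _, m, h2, h3, ⟨f⟩⟩ := h
    obtain ⟨ho, hF2, hq⟩ := field_odd (F := F) hp hp2
    exact absurd (h1.congr f) (ClassTwo.sp hF2 h2)
  · obtain ⟨F, _, _, _, n, q, hF, h2, h3, ⟨f⟩⟩ := h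
    obtain ⟨ho, hF2, hq⟩ := field_odd (F := F) hp hp2
    have hqo : Odd q := by
      rw [hF] at ho
      exact (Nat.odd_pow_iff (by norm_num)).1 ho
    have hq3 : 3 ≤ q := by
      have := Fintype.one_lt_card (α := F)
      rw [hF] at this
      rcases hqo with ⟨r, hr⟩
      rcases Nat.eq_zero_or_pos r with h | h
      · subst h; rw [hr] at this; norm_num at this
      · omega
    have h4 := h1.congr f
    refine Cube.congr f.symm ?_
    rcases lt_or_ge n 5 with hn | hn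
    · interval_cases n
      · exact SmallClass.su3 hF hqo hF2 hq3 h4
      · exact SmallClass.su4 hF hqo hF2 hq3 h4
    · exact absurd h4 (ClassTwo.su hF hqo hF2 hn)
  · obtain ⟨F, _, _, _, m, h2, h3, ⟨f⟩⟩ := h
    obtain ⟨ho, hF2, hq⟩ := field_odd (F := F) hp hp2
    exact absurd (h1.congr f) (OrthTwo.odd hF2 h2)
  · obtain ⟨F, _, _, _, m, h2, ⟨f⟩⟩ := h
    obtain ⟨ho, hF2, hq⟩ := field_odd (F := F) hp hp2
    exact absurd (h1.congr f) (OrthTwo.plus hF2 h2)
  · obtain ⟨F, _, _, _, m, a, b, h2, hab, ⟨f⟩⟩ := h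
    obtain ⟨ho, hF2, hq⟩ := field_odd (F := F) hp hp2
    exact absurd (h1.congr f) (OrthTwo.minus hF2 (by omega) a b hab)
  · obtain ⟨F, _, _, _, h⟩ := h
    obtain ⟨ho, hF2, hq⟩ := field_odd (F := F) hp hp2
    rcases h with ⟨h3, ⟨f⟩⟩ | ⟨⟨f⟩⟩ | ⟨⟨f⟩⟩ | ⟨⟨f⟩⟩ | ⟨⟨f⟩⟩
    · exact Cube.congr f.symm (ExcSmall.g2 hF2 hq (h1.congr f))
    · exact Cube.congr f.symm (ExcBig.f4 (p := p) hF2 (h1.congr f))
    · exact Cube.congr f.symm (ExcBig.e6 (p := p) hF2 (h1.congr f))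
    · exact Cube.congr f.symm (ExcBig.e7 (p := p) hF2 (h1.congr f))
    · exact Cube.congr f.symm (ExcBig.e8 (p := p) hF2 (h1.congr f))
  · obtain ⟨F, _, _, _, q, hq, h⟩ := h
    obtain ⟨ho, hF2, -⟩ := field_odd (F := F) hp hp2
    rcases h with ⟨hF, ⟨f⟩⟩ | ⟨hF, ⟨f⟩⟩
    · have hqo : Odd q := by rw [hF] at ho; exact (Nat.odd_pow_iff (by norm_num)).1 ho
      exact Cube.congr f.symm (ExcBig.twE6 hqo hF (h1.congr f))
    · have hqo : Odd q := by rw [hF] at ho; exact (Nat.odd_pow_iff (by norm_num)).1 ho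
      exact Cube.congr f.symm (ExcSmall.twD4 hqo hF (h1.congr f))
  · exact absurd hp' hp2
  · exact absurd hp' hp2
  · obtain ⟨F, _, _, m, hm, hF, ⟨f⟩⟩ := h
    exact Cube.congr f.symm (ExcSmall.ree hm hF (h1.congr f))

end Cfsg.Agent.H131.OddLie
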