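import Mathlib
import Cfsg.Agent.Solvable.Hall

/-!
# A Hall argument (helper131)

* `exists_commuting` : `R` solvable, `q` a prime dividing `|R|` exactly once, `p ^ 4 ∤ |R|`, no `p ^ i ≡ 1 [MOD q]`
  for `1 ≤ i ≤ 3` and `p ∤ q - 1`: some element of order `q` commutes with a Sylow `p`-subgroup.
* `commute_of_prime_order` : elements of `p`-power order normalizing a group of prime order `q`, `p ∤ q - 1`.
* `fac_dvd` : a divisor of a number in terms of its exact prime powers.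
-/

set_option autoImplicit false

namespace Cfsg.Agent.H131.T5

open Subgroup

/-- `t` normalizes `⟨s⟩`, `|⟨s⟩| = q` prime, `t` of order coprime to `q - 1`: `t` and `s` commute. -/
theorem commute_of_prime_order {G : Type*} [Group G] {q : ℕ} (hq : q.Prime) {s t : G} (hs : orderOf s = q)
    (ht : t * s * t⁻¹ ∈ zpowers s) {n : ℕ} (htn : t ^ n = 1) (hn : n.Coprime (q - 1)) : t * s = s * t := by
  have hnorm : ∀ m : ℕ, ∀ k : ℤ, (t * s * t⁻¹ = s ^ k) → t ^ m * s * (t ^ m)⁻¹ = s ^ (k ^ m) := by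
    intro m k hk
    induction m with
    | zero => simp
    | succ m ih =>
      calc t ^ (m + 1) * s * (t ^ (m + 1))⁻¹ = t ^ m * (t * s * t⁻¹) * (t ^ m)⁻¹ := by
            rw [pow_succ]; group
        _ = t ^ m * s ^ k * (t ^ m)⁻¹ := by rw [hk]
        _ = (t ^ m * s * (t ^ m)⁻¹) ^ k := by rw [conj_zpow]
        _ = s ^ (k ^ (m + 1)) := by rw [ih, ← zpow_mul, pow_succ]
  obtain ⟨k, hk⟩ := mem_zpowers_iff.1 ht
  have h1 := hnorm n k hk.symm
  rw [htn, one_mul, inv_one, mul_one] at h1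
  have h2 : ((q : ℕ) : ℤ) ∣ k ^ n - 1 := by
    rw [← hs, orderOf_dvd_iff_zpow_eq_one, zpow_sub, ← h1, zpow_one, mul_inv_cancel]
  have : Fact q.Prime := ⟨hq⟩
  have h3 : ((k : ZMod q)) ^ n = 1 := by
    have := (ZMod.intCast_zmod_eq_zero_iff_dvd (k ^ n - 1) q).2 h2
    push_cast at this
    exact sub_eq_zero.1 this
  have hk0 : (k : ZMod q) ≠ 0 := by
    intro h0
    rw [h0] at h3
    rcases Nat.eq_zero_or_pos n with rfl | hpos
    · rw [Nat.coprime_zero_left] at hn
      -- `q = 2`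
      have hq2 : q = 2 := by have := hq.two_le; omega
      subst hq2
      have h4 : (2 : ℤ) ∣ k := by
        have := (ZMod.intCast_zmod_eq_zero_iff_dvd k 2).1 h0
        exact_mod_cast this
      have h5 : t * s * t⁻¹ = 1 := by
        rw [← hk]
        obtain ⟨j, rfl⟩ := h4
        rw [zpow_mul]
        have : s ^ (2 : ℤ) = 1 := by
          have := pow_orderOf_eq_one s
          rw [hs] at this
          exact_mod_cast this
        rw [this, one_zpow]
      have h6 : s = 1 := by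
        calc s = t⁻¹ * (t * s * t⁻¹) * t := by group
          _ = 1 := by rw [h5]; group
      rw [h6, orderOf_one] at hs
      exact absurd hs (by norm_num)
    · rw [zero_pow hpos.ne'] at h3
      exact zero_ne_one h3
  have h4 : (k : ZMod q) ^ (q - 1) = 1 := ZMod.pow_card_sub_one_eq_one hk0
  have h5 : orderOf (k : ZMod q) ∣ 1 := by
    rw [← hn]
    exact Nat.dvd_gcd (orderOf_dvd_of_pow_eq_one h3) (orderOf_dvd_of_pow_eq_one h4)
  have h6 : (k : ZMod q) = 1 := orderOf_eq_one_iff.1 (Nat.dvd_one.1 h5)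
  have h7 : ((q : ℕ) : ℤ) ∣ k - 1 := by
    rw [← ZMod.intCast_zmod_eq_zero_iff_dvd]
    push_cast
    rw [h6, sub_self]
  have h8 : s ^ k = s := by
    have h9 : s ^ (k - 1) = 1 := by
      rw [← orderOf_dvd_iff_zpow_eq_one, hs]
      exact h7
    rw [zpow_sub, zpow_one, mul_inv_eq_one] at h9
    exact h9
  rw [h8] at hk
  exact (mul_inv_eq_iff_eq_mul.1 hk.symm)

theorem exists_part (n : ℕ) (hn : n ≠ 0) (P : ℕ → Prop) :
    ∃ m k, n = m * k ∧ m.Coprime k ∧ (∀ t : ℕ, t.Prime → t ∣ m → P t) ∧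
      ∀ t : ℕ, t.Prime → t ∣ k → ¬ P t := by
  classical
  let S : Finset ℕ := n.divisors.filter (fun m => ∀ t : ℕ, t.Prime → t ∣ m → P t)
  have hS : S.Nonempty := ⟨1, by
    rw [Finset.mem_filter, Nat.mem_divisors]
    refine ⟨⟨one_dvd _, hn⟩, fun t ht h1 => ?_⟩
    exact absurd (Nat.dvd_one.1 h1) ht.one_lt.ne'⟩
  obtain ⟨m, hmS, hmax⟩ := S.exists_max_image id hS
  rw [Finset.mem_filter, Nat.mem_divisors] at hmS
  obtain ⟨⟨⟨k, hk⟩, -⟩, hmP⟩ := hmS
  have hkP : ∀ t : ℕ, t.Prime → t ∣ k → ¬ P t := by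
    rintro t ht ⟨l, rfl⟩ hPt
    have h1 : m * t ∈ S := by
      rw [Finset.mem_filter, Nat.mem_divisors]
      refine ⟨⟨⟨l, by rw [hk, mul_assoc]⟩, hn⟩, ?_⟩
      intro u hu hd
      rcases (Nat.Prime.dvd_mul hu).1 hd with h | h
      · exact hmP u hu h
      · rw [(Nat.prime_dvd_prime_iff_eq hu ht).1 h]; exact hPt
    have h2 := hmax _ h1
    simp only [id] at h2
    have hm0 : m ≠ 0 := by
      rintro rfl
      apply hn; rw [hk, zero_mul]
    have := ht.two_le
    have := Nat.pos_of_ne_zero hm0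
    nlinarith
  refine ⟨m, k, hk, ?_, hmP, hkP⟩
  rw [Nat.coprime_iff_gcd_eq_one]
  by_contra h
  obtain ⟨t, ht, hd⟩ := Nat.exists_prime_and_dvd h
  exact hkP t ht (hd.trans (Nat.gcd_dvd_right _ _)) (hmP t ht (hd.trans (Nat.gcd_dvd_left _ _)))

/-- Hall subgroups for a set of primes. -/
theorem exists_hall {G : Type*} [Group G] [Finite G] [Group.IsSolvable G] (P : ℕ → Prop) :
    ∃ L : Subgroup G, (∀ t : ℕ, t.Prime → t ∣ Nat.card L → P t) ∧
      ∀ K : Subgroup G, (∀ t : ℕ, t.Prime → t ∣ Nat.card K → P t) →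
        ∃ g : G, ∀ k ∈ K, g * k * g⁻¹ ∈ L := by
  obtain ⟨m, n, hG, hmn, hm, hn⟩ := exists_part (Nat.card G) Nat.card_pos.ne' P
  obtain ⟨L, hL⟩ := Solvable.Hall.hall_exists m n hG hmn
  refine ⟨L, fun t ht hd => hm t ht (by rwa [hL] at hd), fun K hK => ?_⟩
  have hcop : (Nat.card K).Coprime n := by
    rw [Nat.coprime_iff_gcd_eq_one]
    by_contra h
    obtain ⟨t, ht, hd⟩ := Nat.exists_prime_and_dvd h
    exact hn t ht (hd.trans (Nat.gcd_dvd_right _ _)) (hK t ht (hd.trans (Nat.gcd_dvd_left _ _)))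
  obtain ⟨g, hg⟩ := Solvable.Hall.hall_conj_le m n hG hmn L K hL hcop
  refine ⟨g, fun k hk => hg ?_⟩
  have h1 := Subgroup.smul_mem_pointwise_smul k (MulAut.conj g) K hk
  simpa using h1

/-- **The Hall argument.** -/
theorem exists_commuting {R : Type*} [Group R] [Finite R] (hR : Group.IsSolvable R) {p q : ℕ} [hp : Fact p.Prime]
    [hq : Fact q.Prime] (hqR : q ∣ Nat.card R) (hp4 : ¬ p ^ 4 ∣ Nat.card R)
    (h1 : ∀ i, 1 ≤ i → i ≤ 3 → ¬ p ^ i ≡ 1 [MOD q]) (h2 : ¬ q ^ 2 ∣ Nat.card R) (h3 : ¬ p ∣ q - 1) :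
    ∃ (T : Subgroup R) (s : R), orderOf s = q ∧ IsPGroup p ↥T ∧ ¬ p ∣ T.index ∧ ∀ t ∈ T, t * s = s * t := by
  obtain ⟨L, hL, hLc⟩ := exists_hall (G := R) (fun t => t = p ∨ t = q)
  have T0 : Sylow p R := default
  obtain ⟨g, hg⟩ := hLc (T0 : Subgroup R) (fun t ht hd => by
    left
    obtain ⟨n, hn⟩ := IsPGroup.iff_card.1 T0.2
    rw [hn] at hd
    exact (Nat.prime_dvd_prime_iff_eq ht hp.out).1 (ht.dvd_of_dvd_pow hd))
  obtain ⟨y, hy⟩ := exists_prime_orderOf_dvd_card' q hqR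
  obtain ⟨k, hk⟩ := hLc (zpowers y) (fun t ht hd => by
    right
    rw [Nat.card_zpowers, hy] at hd
    exact (Nat.prime_dvd_prime_iff_eq ht hq.out).1 hd)
  -- the Sylow `q`-subgroup of `L` is normal
  let s : R := k * y * k⁻¹
  have hsL : s ∈ L := hk y (mem_zpowers y)
  have hso : orderOf s = q := by
    rw [← hy]
    exact orderOf_injective (MulAut.conj k).toMonoidHom (MulAut.conj k).injective y
  let s' : ↥L := ⟨s, hsL⟩
  have hso' : orderOf s' = q := by rw [Subgroup.orderOf_mk, hso]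
  have hq1 : ¬ q ^ 2 ∣ Nat.card ↥L := fun h => h2 (h.trans (Subgroup.card_subgroup_dvd_card L))
  have hqS : IsPGroup q ↥(zpowers s') := IsPGroup.of_card (n := 1) (by rw [Nat.card_zpowers, hso', pow_one])
  have hqi : ¬ q ∣ (zpowers s').index := by
    intro h
    apply hq1
    have h4 := (zpowers s').card_mul_index
    rw [Nat.card_zpowers, hso'] at h4
    rw [← h4, pow_two]
    exact Nat.mul_dvd_mul_left _ h
  let S : Sylow q ↥L := hqS.toSylow hqi
  have hn1 : Nat.card (Sylow q ↥L) = 1 := by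
    have h4 := card_sylow_modEq_one q ↥L
    have h5 : Nat.card (Sylow q ↥L) ∣ Nat.card ↥L := by
      rw [S.card_eq_index_normalizer]
      exact Subgroup.index_dvd_card _
    have h6 : ∀ t : ℕ, t.Prime → t ∣ Nat.card (Sylow q ↥L) → t = p := by
      intro t ht hd
      rcases hL t ht (hd.trans h5) with h | h
      · exact h
      · exfalso
        subst h
        have h7 := (Nat.modEq_zero_iff_dvd.2 hd).symm.trans h4
        have h8 : (0 : ℕ) % t = 1 % t := h7
        rw [Nat.zero_mod, Nat.mod_eq_of_lt ht.one_lt] at h8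
        exact absurd h8 (by norm_num)
    have h7 : Nat.card (Sylow q ↥L) ≠ 0 := Nat.card_pos.ne'
    obtain ⟨i, hi⟩ : ∃ i, Nat.card (Sylow q ↥L) = p ^ i := by
      refine ⟨_, Nat.eq_prime_pow_of_unique_prime_dvd h7 (fun {d} hd hdd => h6 d hd hdd)⟩
    have hi3 : i ≤ 3 := by
      by_contra hcon
      apply hp4
      refine (pow_dvd_pow p (by omega : 4 ≤ i)).trans ?_
      rw [← hi]
      exact h5.trans (Subgroup.card_subgroup_dvd_card L)
    rcases Nat.eq_zero_or_pos i with rfl | hpos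
    · rw [hi, pow_zero]
    · rw [hi] at h4
      exact absurd h4 (h1 i hpos hi3)
  have hnorm : (zpowers s').Normal := by
    have := Subsingleton.intro (fun a b : Sylow q ↥L => (Nat.card_eq_one_iff_unique.1 hn1).1.elim a b)
    exact (Sylow.normal_of_subsingleton S)
  refine ⟨(T0 : Subgroup R).map (MulAut.conj g).toMonoidHom, s, hso, T0.2.map _, ?_, ?_⟩
  · have h4 : ((T0 : Subgroup R).map (MulAut.conj g).toMonoidHom).index = (T0 : Subgroup R).index :=
      Subgroup.index_map_equiv _ (MulAut.conj g)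
    rw [h4]
    exact T0.not_dvd_index
  · rintro t ⟨u, hu, rfl⟩
    have htL : g * u * g⁻¹ ∈ L := hg u hu
    have h4 := hnorm.conj_mem s' (mem_zpowers s') ⟨g * u * g⁻¹, htL⟩
    obtain ⟨n, hn⟩ := T0.2 ⟨u, hu⟩
    have hn' : u ^ p ^ n = 1 := congrArg Subtype.val hn
    have h5 : g * u * g⁻¹ * s * (g * u * g⁻¹)⁻¹ ∈ zpowers s := by
      obtain ⟨j, hj⟩ := mem_zpowers_iff.1 h4
      exact mem_zpowers_iff.2 ⟨j, congrArg Subtype.val hj⟩
    refine commute_of_prime_order hq.out hso h5 (n := p ^ n) ?_ ?_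
    · show (g * u * g⁻¹) ^ p ^ n = 1
      have h6 : (g * u * g⁻¹) ^ p ^ n = g * u ^ p ^ n * g⁻¹ := conj_pow
      rw [h6, hn', mul_one, mul_inv_cancel]
    · exact Nat.Coprime.pow_left n ((Nat.Prime.coprime_iff_not_dvd hp.out).2 h3)

end Cfsg.Agent.H131.T5
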