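import Cfsg.Agent.H131.T5J4A
import Cfsg.Agent.H858.FixJ4
import Cfsg.Agent.H533.T5.SporDefs

/-!
# The weak pair row of `J₄`, `p = 11` (helper131)

The orders of the centralizers of the elements of order 11 divide `2^3 3^3 5 7 11^3 23`.
-/

set_option autoImplicit false

namespace Cfsg.Agent.H131.T5J4

open Subgroup Cfsg Cfsg.Agent.H858.Fix Cfsg.Agent.H858.FixJ4 Cfsg.Agent.SporadicStructure.M22Syl11
open Cfsg.Agent.J4.Pres Cfsg.Agent.J4.Upper

/-! ### The normalizer of a subgroup of order 11 of `M₂₄` -/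

theorem mem_or {n : Equiv.Perm GolayPt} (hn : n ∈ M24) (hf : n * f11 * n⁻¹ ∈ zpowers f11) :
    n ∈ (N0 : Set (Equiv.Perm GolayPt)) ∪ (fun g => g * projInv⁻¹) '' (N0 : Set (Equiv.Perm GolayPt)) := by
  obtain ⟨k, hk⟩ := mem_zpowers_iff.1 hf
  -- `n⁻¹` maps fixed points of `f11` to fixed points
  have hfix : ∀ p : GolayPt, f11 p = p → f11 (n⁻¹ p) = n⁻¹ p := by
    intro p hp
    have h1 : (f11 ^ k) p = p := by
      have hp' : f11 ∈ MulAction.stabilizer (Equiv.Perm GolayPt) p := hp
      exact (MulAction.stabilizer (Equiv.Perm GolayPt) p).zpow_mem hp' k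
    rw [hk] at h1
    have h2 : n (f11 (n⁻¹ p)) = p := h1
    calc f11 (n⁻¹ p) = n⁻¹ (n (f11 (n⁻¹ p))) := (Equiv.symm_apply_apply n _).symm
      _ = n⁻¹ p := by rw [h2]
  have h0 := Cfsg.Agent.CpAutJ4.Eleven.fix_f11 _ (hfix none f11_none)
  have h1 := Cfsg.Agent.CpAutJ4.Eleven.fix_f11 _ (hfix (some 0) f11_zero)
  have hinj : n⁻¹ none ≠ n⁻¹ (some 0) := fun h => Cfsg.Agent.CpAutJ4.Eleven.none_ne (n⁻¹.injective h)
  rcases h0 with h0 | h0
  · left
    have h1' : n⁻¹ (some 0) = some 0 := h1.resolve_left (fun h => hinj (h0.trans h.symm))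
    have e0 : n none = none := by
      calc n none = n (n⁻¹ none) := by rw [h0]
        _ = none := Equiv.apply_symm_apply n _
    have e1 : n (some 0) = some 0 := by
      calc n (some 0) = n (n⁻¹ (some 0)) := by rw [h1']
        _ = some 0 := Equiv.apply_symm_apply n _
    exact mem_N0_of ⟨hn, e0, e1⟩ hf
  · right
    have h1' : n⁻¹ (some 0) = none := h1.resolve_right (fun h => hinj (h0.trans h.symm))
    have e0 : n (some 0) = none := by
      calc n (some 0) = n (n⁻¹ none) := by rw [h0]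
        _ = none := Equiv.apply_symm_apply n _
    have e1 : n none = some 0 := by
      calc n none = n (n⁻¹ (some 0)) := by rw [h1']
        _ = some 0 := Equiv.apply_symm_apply n _
    refine ⟨n * projInv, ?_, by show n * projInv * projInv⁻¹ = n; group⟩
    refine mem_N0_of ⟨M24.mul_mem hn Cfsg.Agent.S0372.result, e0, e1⟩ ?_
    have h3 : n * projInv * f11 * (n * projInv)⁻¹ = (n * f11 * n⁻¹)⁻¹ := by
      calc n * projInv * f11 * (n * projInv)⁻¹ = n * (projInv * f11 * projInv⁻¹) * n⁻¹ := by group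
        _ = n * f11⁻¹ * n⁻¹ := by rw [Cfsg.Agent.CpAutJ4.Eleven.projInv_f11]
        _ = (n * f11 * n⁻¹)⁻¹ := by group
    rw [h3]
    exact Subgroup.inv_mem _ hf

theorem card_normalizer_le {y : ↥M24} (hy : orderOf y = 11) :
    Nat.card ↥(normalizer ((zpowers y : Subgroup ↥M24) : Set ↥M24)) ≤ 110 := by
  have : Fact (Nat.Prime 11) := ⟨by norm_num⟩
  have hyM : (y : Equiv.Perm GolayPt) ∈ M24 := y.2
  have hyo : orderOf (y : Equiv.Perm GolayPt) = 11 := by rw [Subgroup.orderOf_coe, hy]
  obtain ⟨g, hg, hgx⟩ := Cfsg.Agent.SporadicStructure.SylowPrime.exists_conj_mem M24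
    (Subgroup.zpowers (y : Equiv.Perm GolayPt))
    (by rwa [Subgroup.zpowers_le]) 11 (by rw [Cfsg.Agent.SporadicA.M24Trans.card_M24]; norm_num) f11 f11_mem
    orderOf_f11 (by rw [Nat.card_zpowers, hyo])
  obtain ⟨_, ⟨k, rfl⟩, hk⟩ := hgx
  have hk' : g * (y : Equiv.Perm GolayPt) ^ k * g⁻¹ = f11 := hk
  -- `g y g⁻¹` is a power of `f11`
  have hcop : Int.gcd k 11 = 1 := by
    have h1 : ¬ (11 : ℤ) ∣ k := by
      intro hd
      obtain ⟨j, rfl⟩ := hd
      have h2 : (y : Equiv.Perm GolayPt) ^ (11 * j) = 1 := by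
        rw [zpow_mul]
        have : (y : Equiv.Perm GolayPt) ^ (11 : ℤ) = 1 := by
          have h3 := pow_orderOf_eq_one (y : Equiv.Perm GolayPt)
          rw [hyo] at h3
          exact_mod_cast h3
        rw [this, one_zpow]
      rw [h2, mul_one, mul_inv_cancel] at hk'
      exact f11_ne_one hk'.symm
    have h2 : Nat.Coprime k.natAbs 11 := by
      rw [Nat.Coprime, Nat.gcd_comm]
      exact (Nat.Prime.coprime_iff_not_dvd (by norm_num)).2 (fun h => h1 (Int.natCast_dvd.2 h))
    exact h2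
  have hzf : (zpowers (g * (y : Equiv.Perm GolayPt) * g⁻¹)) = zpowers f11 := by
    have h1 : f11 ∈ zpowers (g * (y : Equiv.Perm GolayPt) * g⁻¹) := by
      rw [← hk', ← conj_zpow]
      exact zpow_mem (mem_zpowers _) k
    have h2 : zpowers f11 ≤ zpowers (g * (y : Equiv.Perm GolayPt) * g⁻¹) := zpowers_le.2 h1
    refine (Subgroup.eq_of_le_of_card_ge h2 ?_).symm
    rw [Nat.card_zpowers, Nat.card_zpowers, orderOf_f11]
    have h3 : orderOf (g * (y : Equiv.Perm GolayPt) * g⁻¹) = orderOf (y : Equiv.Perm GolayPt) :=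
      orderOf_injective (MulAut.conj g).toMonoidHom (MulAut.conj g).injective _
    rw [h3, hyo]
  -- the injection
  let F : ↥(normalizer ((zpowers y : Subgroup ↥M24) : Set ↥M24)) →
      ↥((N0 : Set (Equiv.Perm GolayPt)) ∪ (fun g => g * projInv⁻¹) '' (N0 : Set (Equiv.Perm GolayPt))) :=
    fun n => ⟨g * ((n : ↥M24) : Equiv.Perm GolayPt) * g⁻¹, by
      refine mem_or (M24.mul_mem (M24.mul_mem hg (n : ↥M24).2) (M24.inv_mem hg)) ?_
      have h1 : f11 ∈ zpowers (g * (y : Equiv.Perm GolayPt) * g⁻¹) := by rw [hzf]; exact mem_zpowers _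
      obtain ⟨i, hi⟩ := mem_zpowers_iff.1 h1
      rw [← hzf, ← hi]
      have h2 : g * ((n : ↥M24) : Equiv.Perm GolayPt) * g⁻¹ * (g * (y : Equiv.Perm GolayPt) * g⁻¹) ^ i *
          (g * ((n : ↥M24) : Equiv.Perm GolayPt) * g⁻¹)⁻¹ =
          (g * (((n : ↥M24) : Equiv.Perm GolayPt) * y * ((n : ↥M24) : Equiv.Perm GolayPt)⁻¹) * g⁻¹) ^ i := by
        rw [← conj_zpow]
        congr 1
        group
      rw [h2]
      refine zpow_mem ?_ i
      have h3 := (mem_normalizer_iff.1 n.2 y).1 (mem_zpowers y)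
      obtain ⟨j, hj⟩ := mem_zpowers_iff.1 h3
      have h4 : (y : Equiv.Perm GolayPt) ^ j =
          ((n : ↥M24) : Equiv.Perm GolayPt) * y * ((n : ↥M24) : Equiv.Perm GolayPt)⁻¹ :=
        congrArg Subtype.val hj
      rw [← h4, ← conj_zpow]
      exact zpow_mem (mem_zpowers _) j⟩
  have hF : Function.Injective F := by
    intro a b hab
    have h1 := congrArg Subtype.val hab
    exact Subtype.ext (Subtype.ext (mul_left_cancel (mul_right_cancel h1)))
  have hfin : Finite ↥((N0 : Set (Equiv.Perm GolayPt)) ∪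
      (fun g => g * projInv⁻¹) '' (N0 : Set (Equiv.Perm GolayPt))) := by
    exact Finite.of_injective (fun u => (u : Equiv.Perm GolayPt)) Subtype.val_injective
  refine (Nat.card_le_card_of_injective F hF).trans ?_
  rw [Nat.card_coe_set_eq]
  refine (Set.ncard_union_le _ _).trans ?_
  have h1 : (N0 : Set (Equiv.Perm GolayPt)).ncard = 55 := by
    rw [← Nat.card_coe_set_eq]
    exact card_N0
  have h2 : ((fun g => g * projInv⁻¹) '' (N0 : Set (Equiv.Perm GolayPt))).ncard ≤ 55 := by
    rw [← h1]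
    exact Set.ncard_image_le (Set.toFinite _)
  omega

/-! ### The fixed points -/

/-- an element of order 11 of the 20th stabiliser -/
theorem exists_y : ∃ y : ↥M24, orderOf y = 11 ∧ y ∈ S 19 := by
  have : Fact (Nat.Prime 11) := ⟨by norm_num⟩
  have h : 11 ∣ Nat.card (S 19) := by
    rw [card_S 19]
    exact ⟨23, by decide⟩
  obtain ⟨y, hy⟩ := exists_prime_orderOf_dvd_card' 11 h
  exact ⟨y, by rw [Subgroup.orderOf_coe, hy], y.2⟩

theorem so_ndvd : ∀ j < 20, j ≠ 0 → j ≠ 19 → ¬ 11 ∣ so j := by decide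

theorem fix_le {y : ↥M24} (hy : orderOf y = 11) (hyS : y ∈ S 19) :
    (fixSet B ((zpowers y).map phi)).ncard ≤ 11 := by
  have : Fact (Nat.Prime 11) := ⟨by norm_num⟩
  refine (card_fix_le (zpowers y)).trans ?_
  have key : ∀ i : Fin 20, (fixSet (S i) (zpowers y)).ncard ≤ if i = 0 then 1 else if i = 19 then 10 else 0 := by
    intro i
    by_cases h0 : i = 0
    · subst h0
      rw [if_pos rfl]
      have h1 : Nat.card (M24 ⧸ S 0) = 1 := by
        have h2 := index_S 0
        exact h2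
      have h3 : Finite (M24 ⧸ S 0) := Nat.finite_of_card_ne_zero (by rw [h1]; norm_num)
      refine (Set.ncard_le_ncard (Set.subset_univ _) (Set.toFinite _)).trans ?_
      rw [Set.ncard_univ, h1]
    · rw [if_neg h0]
      by_cases h19 : i = 19
      · subst h19
        rw [if_pos rfl]
        have hle : zpowers y ≤ S 19 := zpowers_le.2 hyS
        have hP : IsPGroup 11 ↥(zpowers y) := IsPGroup.of_card (n := 1) (by rw [Nat.card_zpowers, hy, pow_one])
        have hi : ¬ 11 ∣ (zpowers y).index := by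
          intro h
          have h4 := (zpowers y).card_mul_index
          rw [Nat.card_zpowers, hy, card_M24] at h4
          obtain ⟨c, hc⟩ := h
          rw [hc] at h4
          omega
        have h1 := card_fix_mul hle hP hi
        have h2 := card_normalizer_le hy
        have h3 : 11 ≤ Nat.card (Subgroup.normalizer ((zpowers y : Subgroup ↥M24) : Set ↥M24) ⊓ S 19 :
            Subgroup ↥M24) := by
          have h4 : zpowers y ≤ Subgroup.normalizer ((zpowers y : Subgroup ↥M24) : Set ↥M24) ⊓ S 19 :=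
            le_inf Subgroup.le_normalizer hle
          have h5 := Subgroup.card_le_of_le h4
          rwa [Nat.card_zpowers, hy] at h5
        nlinarith
      · rw [if_neg h19]
        have hemp : fixSet (S i) (zpowers y) = ∅ := by
          rw [Set.eq_empty_iff_forall_notMem]
          intro c hc
          obtain ⟨g, rfl⟩ := QuotientGroup.mk_surjective c
          rw [mk_mem_fixSet] at hc
          have h1 := hc y (mem_zpowers y)
          have h2 : orderOf (g⁻¹ * y * g) = 11 := by
            rw [← hy]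
            have := orderOf_injective (MulAut.conj g⁻¹).toMonoidHom (MulAut.conj g⁻¹).injective y
            simpa using this
          have h3 : 11 ∣ Nat.card (S i) := by
            have h4 := orderOf_dvd_natCard (⟨_, h1⟩ : S i)
            rwa [Subgroup.orderOf_mk, h2] at h4
          rw [card_S i] at h3
          exact so_ndvd i i.2 (fun h => h0 (Fin.ext h)) (fun h => h19 (Fin.ext h)) h3
        rw [hemp, Set.ncard_empty]
  refine (Finset.sum_le_sum (fun i _ => key i)).trans ?_
  decide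

/-- elements of large prime order do not commute with `phi y` -/
theorem no_q {y : ↥M24} (hy : orderOf y = 11) (hyS : y ∈ S 19) {q : ℕ} (hq : q.Prime) (h12 : 11 < q)
    (hqB : ¬ q ∣ Nat.card B) {s : Spor.J4} (hs : orderOf s = q) (hc : s * phi y = phi y * s) : False := by
  have hfin : Finite Spor.J4 := facts.1
  have hyB : ∀ m : ℤ, phi y ^ m ∈ B := fun m => by
    rw [← map_zpow]
    exact range_le ⟨_, rfl⟩
  let c0 : Spor.J4 ⧸ B := QuotientGroup.mk 1
  have horb : ∀ c ∈ MulAction.orbit ↥(zpowers s) c0, c ∈ fixSet B ((zpowers y).map phi) := by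
    rintro _ ⟨⟨u, hu⟩, rfl⟩
    show (QuotientGroup.mk (u * 1) : Spor.J4 ⧸ B) ∈ _
    rw [mul_one, mk_mem_fixSet]
    rintro _ ⟨_, ⟨m, rfl⟩, rfl⟩
    obtain ⟨k, rfl⟩ := mem_zpowers_iff.1 hu
    have h1 : Commute (s ^ k) (phi y ^ m) := ((show Commute s (phi y) from hc).zpow_left k).zpow_right m
    have h2 : (s ^ k)⁻¹ * phi (y ^ m) * s ^ k = phi y ^ m := by
      rw [map_zpow, mul_assoc, ← h1.eq, inv_mul_cancel_left]
    show (s ^ k)⁻¹ * phi (y ^ m) * s ^ k ∈ B
    rw [h2]
    exact hyB m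
  have hcard : Nat.card (MulAction.orbit ↥(zpowers s) c0) ∣ q := by
    have h2 : Nat.card ↥(zpowers s) = q := by rw [Nat.card_zpowers, hs]
    have h3 : Nat.card (MulAction.orbit ↥(zpowers s) c0) *
        Nat.card (MulAction.stabilizer ↥(zpowers s) c0) = q := by
      rw [← h2, ← Nat.card_prod]
      exact Nat.card_congr (MulAction.orbitProdStabilizerEquivGroup ↥(zpowers s) c0)
    exact ⟨_, h3.symm⟩
  have hle : Nat.card (MulAction.orbit ↥(zpowers s) c0) ≤ 11 := by
    have hfB : Finite (Spor.J4 ⧸ B) := inferInstance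
    rw [Nat.card_coe_set_eq]
    exact (Set.ncard_le_ncard horb (Set.toFinite _)).trans (fix_le hy hyS)
  rcases (Nat.dvd_prime hq).1 hcard with h | h
  · have h1 : s • c0 = c0 := by
      have h2 : c0 ∈ MulAction.orbit ↥(zpowers s) c0 := MulAction.mem_orbit_self _
      have h3 : s • c0 ∈ MulAction.orbit ↥(zpowers s) c0 := ⟨⟨s, mem_zpowers s⟩, rfl⟩
      have h4 := (Nat.card_eq_one_iff_unique.1 h).1.elim ⟨_, h3⟩ ⟨_, h2⟩
      exact congrArg Subtype.val h4
    have h2 : s ∈ B := by
      have h3 : (QuotientGroup.mk (s * 1) : Spor.J4 ⧸ B) = QuotientGroup.mk 1 := h1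
      rw [QuotientGroup.eq] at h3
      have h4 : ((s * 1)⁻¹ * 1)⁻¹ ∈ B := B.inv_mem h3
      simpa using h4
    apply hqB
    have h3 := orderOf_dvd_natCard (⟨s, h2⟩ : B)
    rwa [Subgroup.orderOf_mk, hs] at h3
  · omega

end Cfsg.Agent.H131.T5J4
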