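import Cfsg.Agent.H131.T5M13A

/-!
# Pairs of elements of order 13: the elements commuting with no conjugate of `z` are conjugate (helper131)
-/

set_option autoImplicit false
set_option linter.unusedSectionVars false

namespace Cfsg.Agent.H131.T5M13

open Subgroup Cfsg.Agent.H131.T5Cube
open Cfsg.Agent.H533.T5

universe u

variable {G : Type u} [Group G] [Finite G] {x z t : G} {Q : Subgroup G}

/-- The Sylow subgroup with a group of automorphisms of order 32. -/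
structure RW (x : G) (R W : Subgroup G) : Prop where
  cu : Cu 13 R x
  wr : ∀ w ∈ W, ∀ r ∈ R, w * r * w⁻¹ ∈ R
  wx : ∀ w ∈ W, ∀ c ∈ zpowers x, w * c * w⁻¹ ∈ zpowers x
  card : Nat.card ↥W = 32

theorem eight_dvd {Q : Subgroup G} (hQ : IsPGroup 2 ↥Q) (hnc : ∃ k ∈ Q, ∃ l ∈ Q, k * l ≠ l * k) :
    8 ∣ Nat.card ↥Q := by
  have h2 : Fact (Nat.Prime 2) := ⟨Nat.prime_two⟩
  obtain ⟨n, hn⟩ := IsPGroup.iff_card.1 hQ
  obtain ⟨k, hk, l, hl, hkl⟩ := hnc
  have h3 : 3 ≤ n := by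
    by_contra hlt
    apply hkl
    have h4 : n = 0 ∨ n = 1 ∨ n = 2 := by omega
    rcases h4 with rfl | rfl | rfl
    · rw [pow_zero] at hn
      have h5 := (Nat.card_eq_one_iff_unique.1 hn).1
      have h6 : (⟨k, hk⟩ : ↥Q) = ⟨l, hl⟩ := Subsingleton.elim _ _
      have h7 : k = l := congrArg Subtype.val h6
      rw [h7]
    · have hcyc : IsCyclic ↥Q := isCyclic_of_prime_card (p := 2) (by simpa using hn)
      have h5 := (IsCyclic.commGroup (α := ↥Q)).mul_comm ⟨k, hk⟩ ⟨l, hl⟩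
      exact congrArg Subtype.val h5
    · exact congrArg Subtype.val ((IsPGroup.isMulCommutative_of_card_eq_prime_sq hn).is_comm.comm
        (⟨k, hk⟩ : ↥Q) ⟨l, hl⟩)
  rw [hn]
  exact pow_dvd_pow 2 h3

theorem mem_normalizer_of {R : Subgroup G} {g : G} (h : ∀ r ∈ R, g * r * g⁻¹ ∈ R) : g ∈ normalizer (R : Set G) :=
  Transfer.FusionBasic.mem_normalizer_of_conj_mem h

theorem pow5 {y : G} {c : G} (hc : c * y * c⁻¹ = y ^ 5) (n : ℕ) :
    c ^ n * y * (c ^ n)⁻¹ = y ^ (5 ^ n) := by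
  induction n with
  | zero => simp
  | succ n ih =>
    calc c ^ (n + 1) * y * (c ^ (n + 1))⁻¹ = c ^ n * (c * y * c⁻¹) * (c ^ n)⁻¹ := by rw [pow_succ]; group
      _ = c ^ n * y ^ 5 * (c ^ n)⁻¹ := by rw [hc]
      _ = (c ^ n * y * (c ^ n)⁻¹) ^ 5 := by rw [conj_pow]
      _ = y ^ (5 ^ (n + 1)) := by rw [ih, ← pow_mul, pow_succ]

theorem D.exists_RW (h : D x z t Q) (hna : ∀ S : Sylow 13 G, ∃ a ∈ (S : Subgroup G), ∃ b ∈ (S : Subgroup G),
    a * b ≠ b * a) : ∃ R W : Subgroup G, RW x R W := by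
  have hp : Fact (Nat.Prime 13) := ⟨by norm_num⟩
  have h2 : Fact (Nat.Prime 2) := ⟨Nat.prime_two⟩
  obtain ⟨R, hRp, hxR, hRx, hQR, hRc, -⟩ := h.hyp.exists_R
  obtain ⟨S, hS⟩ := exists_syl hRc h.hyp.h4
  have hcu : Cu 13 R x := ⟨hRc, h.hyp.hx, hxR, hRx, by rw [← hS]; exact hna S⟩
  -- Frattini
  obtain ⟨c, hc⟩ := h.four
  have hx13 : x ^ 13 = 1 := by rw [← h.hyp.hx, pow_orderOf_eq_one]
  have hcR : ∀ r ∈ R, (c * r * c⁻¹) * x = x * (c * r * c⁻¹) := by
    intro r hr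
    -- `x = (x ^ 5) ^ 8`
    have h1 : x = c * x ^ 8 * c⁻¹ := by
      rw [← conj_pow, hc, ← pow_mul]
      calc x = x ^ 13 * x ^ 13 * x ^ 13 * x := by rw [hx13]; group
        _ = x ^ (5 * 8) := by rw [← pow_add, ← pow_add, ← pow_succ]
    have h2 : Commute r (x ^ 8) := (show Commute r x from hRx r hr).pow_right 8
    calc (c * r * c⁻¹) * x = (c * r * c⁻¹) * (c * x ^ 8 * c⁻¹) := by rw [← h1]
      _ = c * (r * x ^ 8) * c⁻¹ := by group
      _ = c * (x ^ 8 * r) * c⁻¹ := by rw [h2.eq]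
      _ = (c * x ^ 8 * c⁻¹) * (c * r * c⁻¹) := by group
      _ = x * (c * r * c⁻¹) := by rw [← h1]
  have hRC : R ≤ centralizer ({x} : Set G) := fun r hr => mem_centralizer_singleton_iff.2 (hRx r hr)
  have hcRC : R.map (MulAut.conj c).toMonoidHom ≤ centralizer ({x} : Set G) := by
    rintro _ ⟨r, hr, rfl⟩
    exact mem_centralizer_singleton_iff.2 (hcR r hr)
  have hcardC : ∀ A : Subgroup G, A ≤ centralizer ({x} : Set G) → Nat.card ↥A = 13 ^ 3 →
      IsPGroup 13 ↥(A.subgroupOf (centralizer ({x} : Set G))) ∧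
        ¬ 13 ∣ (A.subgroupOf (centralizer ({x} : Set G))).index := by
    intro A hA hAc
    have h5 : Nat.card ↥(A.subgroupOf (centralizer ({x} : Set G))) = 13 ^ 3 := by
      rw [← hAc]
      exact Nat.card_congr (Subgroup.subgroupOfEquivOfLe hA).toEquiv
    refine ⟨IsPGroup.of_card h5, fun hd => h.hyp.h4 ?_⟩
    have h6 := (A.subgroupOf (centralizer ({x} : Set G))).card_mul_index
    rw [h5] at h6
    have h7 : 13 ^ 4 ∣ Nat.card ↥(centralizer ({x} : Set G)) := by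
      rw [← h6, pow_succ 13 3]
      exact Nat.mul_dvd_mul_left _ hd
    exact h7.trans (Subgroup.card_subgroup_dvd_card _)
  obtain ⟨a1, a2⟩ := hcardC R hRC hRc
  obtain ⟨b1, b2⟩ := hcardC _ hcRC (by
    rw [Subgroup.card_map_of_injective (MulAut.conj c).injective]; exact hRc)
  obtain ⟨f, hf⟩ := MulAction.exists_smul_eq ↥(centralizer ({x} : Set G)) (b1.toSylow b2) (a1.toSylow a2)
  have hfR : ∀ r ∈ R, ((f : G) * c) * r * ((f : G) * c)⁻¹ ∈ R := by
    intro r hr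
    have h5 : (⟨c * r * c⁻¹, mem_centralizer_singleton_iff.2 (hcR r hr)⟩ : ↥(centralizer ({x} : Set G))) ∈
        (R.map (MulAut.conj c).toMonoidHom).subgroupOf (centralizer ({x} : Set G)) := ⟨r, hr, rfl⟩
    have h6 : MulAut.conj f ⟨c * r * c⁻¹, mem_centralizer_singleton_iff.2 (hcR r hr)⟩ ∈
        (f • (b1.toSylow b2) : Sylow 13 ↥(centralizer ({x} : Set G))) :=
      Subgroup.smul_mem_pointwise_smul _ (MulAut.conj f) _ h5
    rw [hf] at h6
    have h7 : (f : G) * (c * r * c⁻¹) * (f : G)⁻¹ ∈ R := h6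
    have e : ((f : G) * c) * r * ((f : G) * c)⁻¹ = (f : G) * (c * r * c⁻¹) * (f : G)⁻¹ := by group
    rw [e]; exact h7
  obtain ⟨d, hd⟩ : ∃ d : G, d = (f : G) * c := ⟨_, rfl⟩
  rw [← hd] at hfR
  have hdx : d * x * d⁻¹ = x ^ 5 := by
    have h5 : (f : G) * x = x * f := mem_centralizer_singleton_iff.1 f.2
    calc d * x * d⁻¹ = (f : G) * (c * x * c⁻¹) * (f : G)⁻¹ := by rw [hd]; group
      _ = (f : G) * x ^ 5 * (f : G)⁻¹ := by rw [hc]
      _ = x ^ 5 := by
        rw [mul_inv_eq_iff_eq_mul]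
        exact ((show Commute (f : G) x from h5).pow_right 5).eq
  -- the group `M`
  let M : Subgroup G := normalizer (R : Set G) ⊓ normalizer ((zpowers x : Subgroup G) : Set G)
  have hdM : d ∈ M := by
    refine mem_inf.2 ⟨mem_normalizer_of hfR, mem_normalizer_of ?_⟩
    intro c hc
    obtain ⟨k, rfl⟩ := mem_zpowers_iff.1 hc
    rw [← conj_zpow, hdx]
    exact zpow_mem (pow_mem (mem_zpowers x) 5) k
  have hQM : Q ≤ M := by
    intro q hq
    refine mem_inf.2 ⟨mem_normalizer_of (hQR q hq), mem_normalizer_of ?_⟩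
    intro c hc
    obtain ⟨k, rfl⟩ := mem_zpowers_iff.1 hc
    have h5 : q * x ^ k * q⁻¹ = x ^ k := by
      rw [mul_inv_eq_iff_eq_mul]
      exact ((show Commute q x from h.hyp.qx q hq).zpow_right k).eq
    rw [h5]
    exact zpow_mem (mem_zpowers x) k
  let M0 : Subgroup ↥M := (centralizer ({x} : Set G)).subgroupOf M
  have hM0 : M0.Normal := by
    constructor
    intro m hm g
    have h5 : (m : G) * x = x * m := mem_centralizer_singleton_iff.1 hm
    show (g : G) * m * (g : G)⁻¹ ∈ centralizer ({x} : Set G)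
    rw [mem_centralizer_singleton_iff]
    have h6 : (g : G)⁻¹ * x * ((g : G)⁻¹)⁻¹ ∈ zpowers x :=
      (mem_normalizer_iff.1 ((mem_inf.1 (M.inv_mem g.2)).2) x).1 (mem_zpowers x)
    rw [inv_inv] at h6
    obtain ⟨k, hk⟩ := mem_zpowers_iff.1 h6
    have h7 : (m : G) * ((g : G)⁻¹ * x * g) = ((g : G)⁻¹ * x * g) * m := by
      rw [← hk]
      exact ((show Commute (m : G) x from h5).zpow_right k).eq
    calc (g : G) * m * (g : G)⁻¹ * x = g * (m * ((g : G)⁻¹ * x * g)) * (g : G)⁻¹ := by group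
      _ = g * (((g : G)⁻¹ * x * g) * m) * (g : G)⁻¹ := by rw [h7]
      _ = _ := by group
  have h8 : 8 ∣ Nat.card ↥M0 := by
    refine (eight_dvd h.hyp.q2 h.hyp.nc).trans ?_
    have h5 : Q.subgroupOf M ≤ M0 := by
      intro q hq
      exact mem_centralizer_singleton_iff.2 (h.hyp.qx _ hq)
    have h6 := Subgroup.card_dvd_of_le h5
    have h7 : Nat.card ↥(Q.subgroupOf M) = Nat.card ↥Q :=
      Nat.card_congr (Subgroup.subgroupOfEquivOfLe hQM).toEquiv
    rwa [h7] at h6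
  have h4 : 4 ∣ Nat.card (↥M ⧸ M0) := by
    have h5 : 4 ∣ orderOf (QuotientGroup.mk' M0 ⟨d, hdM⟩) := by
      have h6 : ∀ n : ℕ, (QuotientGroup.mk' M0 ⟨d, hdM⟩) ^ n = 1 → 13 ∣ 5 ^ n - 1 := by
        intro n hn
        rw [← map_pow] at hn
        have h7 : (⟨d, hdM⟩ : ↥M) ^ n ∈ M0 := (QuotientGroup.eq_one_iff _).1 hn
        have h8 : d ^ n ∈ centralizer ({x} : Set G) := h7
        rw [mem_centralizer_singleton_iff] at h8
        have h9 : d ^ n * x * (d ^ n)⁻¹ = x := mul_inv_eq_iff_eq_mul.2 h8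
        rw [pow5 hdx n] at h9
        have h10 : x ^ (5 ^ n - 1) = 1 := by
          have h11 : x ^ (5 ^ n - 1) * x = 1 * x := by
            rw [← pow_succ, Nat.sub_add_cancel (Nat.one_le_pow _ _ (by norm_num)), h9, one_mul]
          exact mul_right_cancel h11
        have h12 := orderOf_dvd_of_pow_eq_one h10
        rwa [h.hyp.hx] at h12
      have h7 := h6 _ (pow_orderOf_eq_one _)
      obtain ⟨n, hn⟩ : ∃ n, n = orderOf (QuotientGroup.mk' M0 ⟨d, hdM⟩) := ⟨_, rfl⟩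
      rw [← hn] at h7 ⊢
      -- `5 ^ n ≡ 1` modulo 13
      have h8 : 5 ^ n % 13 = 1 := by
        have h9 : 1 ≤ 5 ^ n := Nat.one_le_pow _ _ (by norm_num)
        omega
      have h9 : 5 ^ n % 13 = 5 ^ (n % 4) % 13 := by
        conv_lhs => rw [← Nat.div_add_mod n 4, pow_add, pow_mul, Nat.mul_mod, Nat.pow_mod]
        norm_num
      rw [h9] at h8
      have h10 : n % 4 < 4 := Nat.mod_lt _ (by norm_num)
      interval_cases hm : n % 4
      · exact Nat.dvd_of_mod_eq_zero hm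
      all_goals norm_num at h8
    exact h5.trans (orderOf_dvd_natCard _)
  have h32 : 2 ^ 5 ∣ Nat.card ↥M := by
    rw [Subgroup.card_eq_card_quotient_mul_card_subgroup M0]
    exact (by norm_num : 2 ^ 5 = 4 * 8) ▸ Nat.mul_dvd_mul h4 h8
  obtain ⟨W, hW⟩ := Sylow.exists_subgroup_card_pow_prime (G := ↥M) 2 h32
  refine ⟨R, W.map M.subtype, hcu, ?_, ?_, ?_⟩
  · rintro _ ⟨w, -, rfl⟩ r hr
    exact (mem_normalizer_iff.1 (mem_inf.1 w.2).1 r).1 hr
  · rintro _ ⟨w, -, rfl⟩ r hr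
    exact (mem_normalizer_iff.1 (mem_inf.1 w.2).2 r).1 hr
  · rw [Subgroup.card_map_of_injective M.subtype_injective, hW]
    norm_num

section

variable {R W : Subgroup G}

/-- members of lines -/
theorem exists_pow (h : Cu 13 R x) {E : Subgroup G} (hE : E ∈ Lin 13 R x) {y e : G} (hy : y ∈ E)
    (hyx : y ∉ zpowers x) (he : e ∈ E) : ∃ k : ℤ, ∃ c ∈ zpowers x, e = y ^ k * c := by
  have hp : Fact (Nat.Prime 13) := ⟨by norm_num⟩
  let Z : Subgroup ↥E := (zpowers x).subgroupOf E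
  have hZn : Z.Normal := by
    constructor
    intro c hc g
    have h1 : g * c = c * g := Subtype.ext (Lin.comm hE g.2 c.2)
    rw [h1, mul_inv_cancel_right]
    exact hc
  have hxE : zpowers x ≤ E := zpowers_le.2 hE.2.1
  have hcard : Nat.card (↥E ⧸ Z) = 13 := by
    have h1 := Subgroup.card_eq_card_quotient_mul_card_subgroup Z
    have h2 : Nat.card ↥Z = 13 := by
      rw [← h.card_z]
      exact Nat.card_congr (Subgroup.subgroupOfEquivOfLe hxE).toEquiv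
    rw [h2, hE.2.2, pow_two] at h1
    exact (Nat.eq_of_mul_eq_mul_right (by norm_num) h1).symm
  have hqy : QuotientGroup.mk' Z ⟨y, hy⟩ ≠ 1 := by
    intro h1
    have h2 := (QuotientGroup.eq_one_iff (N := Z) (⟨y, hy⟩ : ↥E)).1 h1
    exact hyx h2
  have h1 : QuotientGroup.mk' Z ⟨e, he⟩ ∈ zpowers (QuotientGroup.mk' Z ⟨y, hy⟩) :=
    mem_zpowers_of_prime_card hcard hqy
  obtain ⟨k, hk⟩ := mem_zpowers_iff.1 h1
  rw [← map_zpow] at hk
  have h2 := (QuotientGroup.eq (s := Z)).1 hk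
  have h3 : (((⟨y, hy⟩ : ↥E) ^ k : ↥E) : G)⁻¹ * e ∈ zpowers x := h2
  rw [SubgroupClass.coe_zpow] at h3
  exact ⟨k, _, h3, by group⟩

/-- elements outside `⟨x⟩` with no conjugate of `z` in the centralizer: small stabilizers -/
theorem D.stab (h : D x z t Q) (hr : RW x R W) {y : G} (hy : y ∈ R) (hyx : y ∉ zpowers x) (hb : ¬ TB z y)
    (S : Subgroup G) (hSW : S ≤ W) (hS : ∀ s ∈ S, ∀ e ∈ R ⊓ centralizer ({y} : Set G),
      s * e * s⁻¹ ∈ R ⊓ centralizer ({y} : Set G)) : Nat.card ↥S * 8 ≤ Nat.card ↥W := by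
  have hp : Fact (Nat.Prime 13) := ⟨by norm_num⟩
  have h2 : Fact (Nat.Prime 2) := ⟨Nat.prime_two⟩
  have hyE : y ∈ R ⊓ centralizer ({y} : Set G) := mem_inf.2 ⟨hy, mem_centralizer_singleton_iff.2 rfl⟩
  have h1 := hr.cu.stab_dvd (hr.cu.cent_mem hy hyx) hyE hyx S hS (fun s hs => hr.wx s (hSW hs)) (by
    intro s hs hsy
    by_contra hs1
    -- powers of `s`
    have hpow : ∀ n : ℕ, y⁻¹ * (s ^ n * y * (s ^ n)⁻¹) ∈ zpowers x := by
      intro n
      induction n with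
      | zero =>
        have : y⁻¹ * (s ^ 0 * y * (s ^ 0)⁻¹) = 1 := by group
        rw [this]; exact one_mem _
      | succ n ih =>
        have h3 := hr.wx s (hSW hs) _ ih
        have e : y⁻¹ * (s ^ (n + 1) * y * (s ^ (n + 1))⁻¹) =
            (y⁻¹ * (s * y * s⁻¹)) * (s * (y⁻¹ * (s ^ n * y * (s ^ n)⁻¹)) * s⁻¹) := by
          rw [pow_succ']
          group
        rw [e]
        exact mul_mem hsy h3
    have hso : ∃ k, orderOf s = 2 ^ k := by
      have h3 : orderOf s ∣ 2 ^ 5 := by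
        have h4 := orderOf_dvd_natCard (⟨s, hSW hs⟩ : ↥W)
        rw [Subgroup.orderOf_mk, hr.card] at h4
        exact h4
      obtain ⟨k, -, hk⟩ := (Nat.dvd_prime_pow Nat.prime_two).1 h3
      exact ⟨k, hk⟩
    obtain ⟨k, hk⟩ := hso
    have hk0 : k ≠ 0 := by
      rintro rfl
      rw [pow_zero, orderOf_eq_one_iff] at hk
      exact hs1 hk
    obtain ⟨m, rfl⟩ := Nat.exists_eq_succ_of_ne_zero hk0
    have hu : orderOf (s ^ 2 ^ m) = 2 := by
      rw [orderOf_pow, hk, Nat.gcd_eq_right (pow_dvd_pow 2 (Nat.le_succ m)), Nat.succ_eq_add_one, pow_succ]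
      exact Nat.mul_div_cancel_left _ (pow_pos (by norm_num) m)
    have huW : s ^ 2 ^ m ∈ W := pow_mem (hSW hs) _
    obtain ⟨c, hc, huc⟩ := hr.cu.exists_fixed (by norm_num) hu (hr.wx _ huW) (hpow _)
    obtain ⟨r, hrR, hrc⟩ := hr.cu.exists_conj hy hyx hc
    rcases h.cls _ hu with hz | ht
    · apply hb
      obtain ⟨g, hg⟩ := isConj_iff.1 hz
      have h3 : TB z (y * c) := ⟨g, by rw [hg]; exact huc.symm⟩
      exact h3.of_isConj (isConj_iff.2 ⟨r, hrc⟩ : IsConj y (y * c)).symm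
    · exact h.not_norm ht (hr.wx _ huW))
  have h3 : Nat.card ↥S ∣ 32 := by rw [← hr.card]; exact Subgroup.card_dvd_of_le hSW
  have h4 : Nat.card ↥S ∣ 4 := by
    have h5 := Nat.dvd_gcd h1 h3
    norm_num at h5
    exact h5
  have h5 := Nat.le_of_dvd (by norm_num) h4
  rw [hr.card]
  omega

/-- **the elements of `R` commuting with no conjugate of `z` are conjugate up to powers** -/
theorem D.bad_conj (h : D x z t Q) (hr : RW x R W) {y y' : G} (hy : y ∈ R) (hy' : y' ∈ R)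
    (hb : ¬ TB z y) (hb' : ¬ TB z y') : ∃ k : ℤ, IsConj (y ^ k) y' := by
  have hp : Fact (Nat.Prime 13) := ⟨by norm_num⟩
  have hx : ∀ c ∈ zpowers x, TB z c := by
    intro c hc
    obtain ⟨k, rfl⟩ := mem_zpowers_iff.1 hc
    exact h.tb_of_pow (IsConj.refl _)
  have hyx : y ∉ zpowers x := fun hc => hb (hx y hc)
  have hyx' : y' ∉ zpowers x := fun hc => hb' (hx y' hc)
  obtain ⟨w, hw, hwE⟩ := hr.cu.exists_move hr.wr hr.wx (n := 8) (by norm_num) (hr.cu.cent_mem hy hyx)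
    (hr.cu.cent_mem hy' hyx') (fun S hS hSE => h.stab hr hy hyx hb S hS hSE)
    (fun S hS hSE => h.stab hr hy' hyx' hb' S hS hSE)
  have h1 := hwE y (mem_inf.2 ⟨hy, mem_centralizer_singleton_iff.2 rfl⟩)
  have h2 : w * y * w⁻¹ ∉ zpowers x := by
    intro h3
    have h4 := hr.wx w⁻¹ (W.inv_mem hw) _ h3
    apply hyx
    have e : w⁻¹ * (w * y * w⁻¹) * w⁻¹⁻¹ = y := by group
    rwa [e] at h4
  obtain ⟨k, c, hc, hk⟩ := exists_pow hr.cu (hr.cu.cent_mem hy' hyx') h1 h2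
    (mem_inf.2 ⟨hy', mem_centralizer_singleton_iff.2 rfl⟩)
  have h3 : (w * y * w⁻¹) ^ k ∉ zpowers x := by
    intro h4
    apply hyx'
    rw [hk]
    exact mul_mem h4 hc
  obtain ⟨r, hrR, hrc⟩ := hr.cu.exists_conj (zpow_mem (mem_inf.1 h1).1 k) h3 hc
  refine ⟨k, ?_⟩
  have h4 : IsConj (y ^ k) ((w * y * w⁻¹) ^ k) := isConj_iff.2 ⟨w, by rw [conj_zpow]⟩
  rw [hk]
  exact h4.trans (isConj_iff.2 ⟨r, hrc⟩)

end

end Cfsg.Agent.H131.T5M13
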