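import Cfsg.Agent.H780.TwoDefs
import Cfsg.Agent.H781.Realized

/-!
# The system of an extension satisfies the data (helper131, task S5260-R2)
-/

set_option autoImplicit false
set_option linter.unusedSimpArgs false
set_option linter.unusedVariables false

universe u v w

namespace Cfsg.Agent.H131.TwoDataExt

open Cfsg Cfsg.FusionSystem Cfsg.Agent.H780 Cfsg.Agent.H454.AlperinGL3 Cfsg.Agent.H802 Cfsg.Agent.H781
open Matrix
open scoped MatrixGroups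

section gl

variable {K : Type v} [Field K] {Δ : Subgroup Kˣ}

theorem card_T [Finite K] : Nat.card (T Δ) = Nat.card K ^ 3 := by
  have h : Nat.card (K × K × K) = Nat.card (T Δ) := by
    refine Nat.card_congr (Equiv.ofBijective (fun x : K × K × K => (⟨xx Δ x.1 x.2.1 x.2.2, xx_mem _ _ _⟩ : T Δ)) ⟨?_, ?_⟩)
    · rintro ⟨a, b, c⟩ ⟨a', b', c'⟩ h
      have h1 : xx Δ a b c = xx Δ a' b' c' := congrArg Subtype.val h
      obtain ⟨e1, e2, e3⟩ := xx_coord (Δ := Δ) a b c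
      obtain ⟨f1, f2, f3⟩ := xx_coord (Δ := Δ) a' b' c'
      rw [h1] at e1 e2 e3
      rw [← e1, ← e2, ← e3, f1, f2, f3]
    · rintro ⟨x, hx⟩
      exact ⟨(x.1.1 0 1, x.1.1 1 2, x.1.1 0 2), Subtype.ext (eq_xx hx).symm⟩
  rw [← h, Nat.card_prod, Nat.card_prod]
  ring

/-- `T` has odd index. -/
theorem index_T [Finite K] [CharP K 2] : ¬ 2 ∣ (T Δ).index := by
  classical
  have : Fintype K := Fintype.ofFinite K
  have hpos : 0 < Nat.card K := Nat.card_pos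
  have heven : 2 ∣ Nat.card K := by
    have h : ((Fintype.card K : ℕ) : K) = 0 := Nat.cast_card_eq_zero K
    rw [Nat.card_eq_fintype_card]
    exact (CharP.cast_eq_zero_iff K 2 _).1 h
  have h1 : Nat.card (GD Δ) ∣ Nat.card (GL (Fin 3) K) := Subgroup.card_subgroup_dvd_card _
  have h2 := Matrix.card_GL_field (𝔽 := K) 3
  rw [Fin.prod_univ_three] at h2
  have h3 : Nat.card (T Δ) * (T Δ).index = Nat.card (GD Δ) := Subgroup.card_mul_index _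
  obtain ⟨q, hq⟩ : ∃ q, q = Nat.card K := ⟨_, rfl⟩
  have hF : Fintype.card K = q := by rw [hq, Nat.card_eq_fintype_card]
  rw [card_T, ← hq] at h3
  rw [← h3, h2, hF] at h1
  rw [← hq] at hpos heven
  have h4 : (q ^ 3 - q ^ ((0 : Fin 3) : ℕ)) * (q ^ 3 - q ^ ((1 : Fin 3) : ℕ)) * (q ^ 3 - q ^ ((2 : Fin 3) : ℕ)) =
      q ^ 3 * ((q ^ 3 - 1) * (q ^ 2 - 1) * (q - 1)) := by
    have e0 : q ^ ((0 : Fin 3) : ℕ) = 1 := by simp
    have e1 : q ^ 3 - q ^ ((1 : Fin 3) : ℕ) = q * (q ^ 2 - 1) := by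
      rw [Nat.mul_sub]
      simp only [Fin.val_one, pow_one, mul_one]
      ring_nf
    have e2 : q ^ 3 - q ^ ((2 : Fin 3) : ℕ) = q ^ 2 * (q - 1) := by
      rw [Nat.mul_sub]
      simp only [Fin.val_two, mul_one]
      ring_nf
    rw [e0, e1, e2]
    ring
  rw [h4] at h1
  have h5 : (T Δ).index ∣ (q ^ 3 - 1) * (q ^ 2 - 1) * (q - 1) := Nat.dvd_of_mul_dvd_mul_left (pow_pos hpos 3) h1
  intro h6
  have h7 := h6.trans h5
  have h8 : ∀ k, 1 ≤ k → ¬ 2 ∣ q ^ k - 1 := by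
    intro k hk hd
    have h9 : 2 ∣ q ^ k := heven.trans (dvd_pow_self q (by omega))
    have h10 : 1 ≤ q ^ k := Nat.one_le_pow _ _ hpos
    omega
  rcases Nat.prime_two.dvd_mul.1 h7 with h | h
  · rcases Nat.prime_two.dvd_mul.1 h with h | h
    · exact h8 3 (by norm_num) h
    · exact h8 2 (by norm_num) h
  · have := h8 1 le_rfl
    rw [pow_one] at this
    exact this h

/-- an element normalising `T` is upper triangular -/
theorem up_of_T {g : GD Δ} (hg : ∀ y ∈ T Δ, g * y * g⁻¹ ∈ T Δ) : Up g.1.1 := by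
  have key : ∀ a b c : K, ∀ i j, (g * xx Δ a b c * g⁻¹ : GD Δ).1.1 i j = (if i = j then 1 else 0) +
      (g.1.1 i 0 * a * (g.1⁻¹).1 1 j + g.1.1 i 0 * c * (g.1⁻¹).1 2 j + g.1.1 i 1 * b * (g.1⁻¹).1 2 j) := by
    intro a b c i j
    have e := mul_entry g.1 g.1⁻¹ i j
    rw [mul_inv_cancel, one_entry] at e
    have h1 : (g * xx Δ a b c * g⁻¹ : GD Δ).1.1 i j = (g.1 * (xx Δ a b c).1 * g.1⁻¹).1 i j := rfl
    rw [h1, mul_entry, mul_entry, mul_entry, mul_entry, e, xx_val]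
    simp
    ring
  have h1 := hg _ (xx_mem 0 0 1)
  have h2 := hg _ (xx_mem 0 1 0)
  have h3 := hg _ (xx_mem 1 0 0)
  have k1 := key 0 0 1
  have k2 := key 0 1 0
  have k3 := key 1 0 0
  obtain ⟨⟨a10, a20, a21⟩, ad⟩ := h1
  obtain ⟨⟨b10, b20, b21⟩, bd⟩ := h2
  obtain ⟨⟨c10, c20, c21⟩, cd⟩ := h3
  rw [k1, if_neg (by decide)] at a10 a20 a21
  rw [k2, if_neg (by decide)] at b10 b20 b21
  rw [k3, if_neg (by decide)] at c10 c20 c21
  have ad' := fun i => (k1 i i).symm.trans (ad i)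
  have bd' := fun i => (k2 i i).symm.trans (bd i)
  have cd' := fun i => (k3 i i).symm.trans (cd i)
  simp only [if_true, mul_zero, zero_mul, mul_one, add_zero, zero_add] at a10 a20 a21 b10 b20 b21 c10 c20 c21 ad' bd' cd'
  have r22 := mul_entry g.1⁻¹ g.1 2 2
  have r00 := mul_entry g.1⁻¹ g.1 0 0
  rw [inv_mul_cancel, one_entry, if_pos rfl] at r22 r00
  have ad2 := ad' 2
  have ad1 := ad' 1
  have ad0 := ad' 0
  have m20 : g.1.1 2 0 = 0 := by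
    have h : g.1.1 2 0 * (g.1⁻¹).1 2 2 = 0 := by linear_combination ad2
    linear_combination g.1.1 2 0 * r22 + g.1.1 0 2 * a20 + g.1.1 1 2 * a21 + g.1.1 2 2 * h
  have n20 : (g.1⁻¹).1 2 0 = 0 := by
    have h : g.1.1 0 0 * (g.1⁻¹).1 2 0 = 0 := by linear_combination ad0
    linear_combination (g.1⁻¹).1 2 0 * r00 + (g.1⁻¹).1 0 0 * h + (g.1⁻¹).1 0 1 * a10 + (g.1⁻¹).1 0 2 * a20
  have hor : g.1.1 1 0 * (g.1⁻¹).1 2 1 = 0 := by linear_combination ad1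
  rcases mul_eq_zero.1 hor with h | h
  · -- first column
    have m21 : g.1.1 2 1 = 0 := by
      have h' : g.1.1 2 1 * (g.1⁻¹).1 2 2 = 0 := by linear_combination bd' 2
      linear_combination g.1.1 2 1 * r22 + g.1.1 0 2 * b20 + g.1.1 1 2 * b21 + g.1.1 2 2 * h'
    exact ⟨h, m20, m21⟩
  · have hr := row_inv (g := g.1⁻¹) n20 h
    rw [inv_inv] at hr
    obtain ⟨-, m21, -⟩ := hr
    have m10 : g.1.1 1 0 = 0 := by
      have h' : g.1.1 1 0 * (g.1⁻¹).1 1 1 = 0 := by linear_combination cd' 1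
      have r11 := mul_entry g.1⁻¹ g.1 1 1
      have s00 := mul_entry g.1 g.1⁻¹ 0 0
      have r10 := mul_entry g.1⁻¹ g.1 1 0
      rw [inv_mul_cancel, one_entry, if_pos rfl] at r11
      rw [mul_inv_cancel, one_entry, if_pos rfl] at s00
      rw [inv_mul_cancel, one_entry, if_neg (by decide)] at r10
      rw [m21] at r11
      linear_combination g.1.1 1 0 * r11 + g.1.1 0 1 * c10 + g.1.1 1 1 * h'
    exact ⟨m10, m20, m21⟩

end gl

section fus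

variable {Ω : Type u} [Group Ω] {S : Subgroup Ω} {E : Type w} [Group E]

/-- automorphisms of the pulled back system come from elements -/
theorem aut_elt {ι : S →* E} (hι : Function.Injective ι) {P : Subgroup Ω} (hP : P ≤ S) {α : MulAut P}
    (hα : α ∈ (pullback ι hι).autGroup P) :
    ∃ e : E, ∀ x : P, ι ⟨(α x : P), hP (α x).2⟩ = e * ι ⟨x, hP x.2⟩ * e⁻¹ := by
  obtain ⟨_, _, g, hg⟩ := (mem_autGroup_iff _ hP α).1 hα
  exact ⟨g, hg⟩

/-- conversely -/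
theorem elt_aut [Finite S] {ι : S →* E} (hι : Function.Injective ι) {P : Subgroup Ω} (hP : P ≤ S) (e : E)
    (he : ∀ x : P, ∃ y : P, e * ι ⟨x, hP x.2⟩ * e⁻¹ = ι ⟨y, hP y.2⟩) :
    ∃ α ∈ (pullback ι hι).autGroup P, ∀ x : P, ι ⟨(α x : P), hP (α x).2⟩ = e * ι ⟨x, hP x.2⟩ * e⁻¹ := by
  have : Finite P := finite_of_le hP
  choose f hf using he
  have hinj : ∀ {a b : P}, ι ⟨a, hP a.2⟩ = ι ⟨b, hP b.2⟩ → a = b := by
    intro a b hab
    exact Subtype.ext (congrArg (fun x : S => (x : Ω)) (hι hab))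
  have hmul : ∀ x y : P, f (x * y) = f x * f y := by
    intro x y
    apply hinj
    rw [← hf]
    have h1 : ι ⟨((f x * f y : P) : Ω), hP (f x * f y).2⟩ = ι ⟨f x, hP (f x).2⟩ * ι ⟨f y, hP (f y).2⟩ := by
      rw [← map_mul]
      rfl
    have h2 : ι ⟨((x * y : P) : Ω), hP (x * y).2⟩ = ι ⟨x, hP x.2⟩ * ι ⟨y, hP y.2⟩ := by
      rw [← map_mul]
      rfl
    rw [h1, h2, ← hf, ← hf]
    group
  let φ : P →* Ω := MonoidHom.mk' (fun x => (f x : Ω)) (fun x y => by rw [hmul]; rfl)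
  have hφ : φ ∈ (pullback ι hι).Hom P := ⟨hP, fun x => hP (f x).2, e, fun x => (hf x).symm⟩
  obtain ⟨α, hα, hα'⟩ := exists_aut hφ (range_eq_of_mapsTo hφ fun x => (f x).2)
  refine ⟨α, hα, fun x => ?_⟩
  rw [hf x]
  congr 1
  exact Subtype.ext (hα' x)

end fus

section main

variable {Ω : Type u} [Group Ω] {S : Subgroup Ω} {K : Type v} [Field K] {C : SpC S K} {Δ : Subgroup Kˣ}
  {E : Type w} [Group E] {ι : S →* E} {ρ : E →* GD Δ}

/-- elements over `T` -/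
theorem exists_of_T (h : ExtData C Δ ι ρ) {e : E} (he : ρ e ∈ T Δ) : ∃ x : S, e = ι x := by
  obtain ⟨x, hx, h1, h2, h3, -⟩ := C.surj ((ρ e).1.1 0 1) ((ρ e).1.1 1 2) ((ρ e).1.1 0 2) 0
  have h4 : ρ (e * (ι ⟨x, hx⟩)⁻¹) = 1 := by
    rw [map_mul, map_inv, h.comp]
    show ρ e * (xx Δ (C.t x) (C.s x) (C.u x))⁻¹ = 1
    rw [h1, h2, h3, ← eq_xx he, mul_inv_cancel]
  obtain ⟨y, -, hy⟩ := h.ker _ h4
  exact ⟨y * ⟨x, hx⟩, by rw [map_mul, ← hy, inv_mul_cancel_right]⟩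

theorem rho_mem (h : ExtData C Δ ι ρ) (x : S) : ρ (ι x) ∈ T Δ := by
  rw [h.comp]
  exact xx_mem _ _ _

theorem range_eq (h : ExtData C Δ ι ρ) : ι.range = (T Δ).comap ρ := by
  ext e
  constructor
  · rintro ⟨x, rfl⟩
    exact rho_mem h x
  · intro he
    obtain ⟨x, hx⟩ := exists_of_T h he
    exact ⟨x, hx.symm⟩

/-- the basic relations for the coordinates, when `g` is upper triangular -/
theorem rel_up {g : GD Δ} (hg : Up g.1.1) {t s u t' s' u' : K}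
    (h : xx Δ t' s' u' * g = g * xx Δ t s u) :
    g.1.1 0 0 * t = t' * g.1.1 1 1 ∧ g.1.1 1 1 * s = s' * g.1.1 2 2 ∧
      g.1.1 0 0 * u + g.1.1 0 1 * s = t' * g.1.1 1 2 + u' * g.1.1 2 2 := by
  obtain ⟨h1, h2, h3⟩ := hg
  have e : ∀ i j, ((xx Δ t' s' u').1 * g.1).1 i j = (g.1 * (xx Δ t s u).1).1 i j := fun i j =>
    congrArg (fun y : GD Δ => y.1.1 i j) h
  have e01 := e 0 1
  have e12 := e 1 2
  have e02 := e 0 2
  rw [mul_entry, mul_entry, xx_val, xx_val] at e01 e12 e02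
  simp [h1, h2, h3] at e01 e12 e02
  refine ⟨?_, ?_, ?_⟩
  · linear_combination (-1 : K) * e01
  · linear_combination (-1 : K) * e12
  · linear_combination (-1 : K) * e02

theorem rel_M {g : GD Δ} (h0 : g.1.1 2 0 = 0) (h1 : g.1.1 2 1 = 0) {s u s' u' : K}
    (h : xx Δ 0 s' u' * g = g * xx Δ 0 s u) :
    g.1.1 0 0 * u + g.1.1 0 1 * s = u' * g.1.1 2 2 ∧ g.1.1 1 0 * u + g.1.1 1 1 * s = s' * g.1.1 2 2 := by
  have e : ∀ i j, ((xx Δ 0 s' u').1 * g.1).1 i j = (g.1 * (xx Δ 0 s u).1).1 i j := fun i j =>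
    congrArg (fun y : GD Δ => y.1.1 i j) h
  have e12 := e 1 2
  have e02 := e 0 2
  rw [mul_entry, mul_entry, xx_val, xx_val] at e12 e02
  simp [h0, h1] at e12 e02
  refine ⟨?_, ?_⟩
  · linear_combination (-1 : K) * e02
  · linear_combination (-1 : K) * e12

theorem rel_M' {g : GD Δ} (h0 : g.1.1 1 0 = 0) (h1 : g.1.1 2 0 = 0) {t u t' u' : K}
    (h : xx Δ t' 0 u' * g = g * xx Δ t 0 u) :
    g.1.1 0 0 * t = t' * g.1.1 1 1 + u' * g.1.1 2 1 ∧ g.1.1 0 0 * u = t' * g.1.1 1 2 + u' * g.1.1 2 2 := by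
  have e : ∀ i j, ((xx Δ t' 0 u').1 * g.1).1 i j = (g.1 * (xx Δ t 0 u).1).1 i j := fun i j =>
    congrArg (fun y : GD Δ => y.1.1 i j) h
  have e01 := e 0 1
  have e02 := e 0 2
  rw [mul_entry, mul_entry, xx_val, xx_val] at e01 e02
  simp [h0, h1] at e01 e02
  refine ⟨?_, ?_⟩
  · linear_combination (-1 : K) * e01
  · linear_combination (-1 : K) * e02

/-- from conjugation in `E` to the matrix relation -/
theorem rel_of (h : ExtData C Δ ι ρ) {e : E} {x y : S} (hxy : ι y = e * ι x * e⁻¹) :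
    xx Δ (C.t y) (C.s y) (C.u y) * ρ e = ρ e * xx Δ (C.t x) (C.s x) (C.u x) := by
  rw [← h.comp, ← h.comp, ← map_mul, ← map_mul, hxy, inv_mul_cancel_right]

/-- the action on `Z₁` -/
theorem z_of (h : ExtData C Δ ι ρ) {e : E} {x y : S} (hxy : ι y = e * ι x * e⁻¹) (hx : (x : Ω) ∈ C.Z1) :
    (y : Ω) ∈ C.Z1 ∧ C.z y * ((Matrix.GeneralLinearGroup.det (ρ e).1 : Kˣ) : K) = C.z x := by
  have hd : ((Matrix.GeneralLinearGroup.det (ρ e).1 : Kˣ) : K) ≠ 0 := Units.ne_zero _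
  obtain ⟨w, hw, h1, h2, h3, h4⟩ := C.surj 0 0 0 (C.z x / ((Matrix.GeneralLinearGroup.det (ρ e).1 : Kˣ) : K))
  have hwZ : w ∈ C.Z1 := ⟨hw, h1, h2, h3⟩
  have h5 := h.conj e x ⟨w, hw⟩ hx hwZ (by
    show C.z w * _ = _
    rw [h4, div_mul_cancel₀ _ hd])
  have h6 : y = ⟨w, hw⟩ := h.inj (hxy.trans h5)
  rw [h6]
  refine ⟨hwZ, ?_⟩
  show C.z w * _ = _
  rw [h4, div_mul_cancel₀ _ hd]

/-- `ρ e` normalises `T` if `e` normalises the image of `S` -/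
theorem up_of (h : ExtData C Δ ι ρ) {e : E} (he : ∀ x : S, ∃ y : S, ι y = e * ι x * e⁻¹) : Up (ρ e).1.1 := by
  apply up_of_T
  intro y hy
  rw [eq_xx hy]
  obtain ⟨x, hx, h1, h2, h3, -⟩ := C.surj (y.1.1 0 1) (y.1.1 1 2) (y.1.1 0 2) 0
  obtain ⟨w, hw⟩ := he ⟨x, hx⟩
  have h4 := h.comp ⟨x, hx⟩
  have h5 : ρ (ι w) = ρ e * ρ (ι ⟨x, hx⟩) * (ρ e)⁻¹ := by
    rw [hw, map_mul, map_mul, map_inv]
  rw [h4] at h5
  have h6 : xx Δ (C.t x) (C.s x) (C.u x) = xx Δ (y.1.1 0 1) (y.1.1 1 2) (y.1.1 0 2) := by rw [h1, h2, h3]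
  have h7 : ρ e * xx Δ (y.1.1 0 1) (y.1.1 1 2) (y.1.1 0 2) * (ρ e)⁻¹ = ρ (ι w) := by
    rw [h5, ← h6]
  rw [h7]
  exact rho_mem h w

/-- conversely -/
theorem norm_of (h : ExtData C Δ ι ρ) {e : E} (he : Up (ρ e).1.1) (x : S) : ∃ y : S, e * ι x * e⁻¹ = ι y := by
  apply exists_of_T h
  rw [map_mul, map_mul, map_inv]
  exact (Subgroup.mem_normalizer_iff.1 (up_mem_normalizer he) _).1 (rho_mem h x)

theorem mem_M_iff' (h : ExtData C Δ ι ρ) {e : E} (he : ρ e ∈ M Δ) : ∃ x : S, (x : Ω) ∈ C.M ∧ e = ι x := by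
  obtain ⟨x, rfl⟩ := exists_of_T h (M_le_T he)
  refine ⟨x, ⟨x.2, ?_⟩, rfl⟩
  have h1 := he.2
  rw [h.comp, (xx_coord _ _ _).1] at h1
  exact h1

theorem mem_M'_iff' (h : ExtData C Δ ι ρ) {e : E} (he : ρ e ∈ M' Δ) : ∃ x : S, (x : Ω) ∈ C.L 0 ∧ e = ι x := by
  obtain ⟨x, rfl⟩ := exists_of_T h (M'_le_T he)
  refine ⟨x, ⟨x.2, ?_⟩, rfl⟩
  have h1 := he.2
  rw [h.comp, (xx_coord _ _ _).2.1] at h1
  rw [h1, zero_mul]

theorem rho_mem_M (h : ExtData C Δ ι ρ) {x : S} (hx : (x : Ω) ∈ C.M) : ρ (ι x) ∈ M Δ := by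
  refine ⟨rho_mem h x, ?_⟩
  rw [h.comp, (xx_coord _ _ _).1]
  exact hx.2

theorem rho_mem_M' (h : ExtData C Δ ι ρ) {x : S} (hx : (x : Ω) ∈ C.L 0) : ρ (ι x) ∈ M' Δ := by
  refine ⟨rho_mem h x, ?_⟩
  rw [h.comp, (xx_coord _ _ _).2.1]
  rw [hx.2, zero_mul]

/-- `e` normalising `ι(M)` -/
theorem norm_M (h : ExtData C Δ ι ρ) {e : E} {N : Subgroup Ω} {NΔ : Subgroup (GD Δ)} [Finite NΔ]
    (hN : N ≤ S) (h1 : ∀ y ∈ NΔ, ∃ x : S, (x : Ω) ∈ N ∧ ρ (ι x) = y) (h2 : ∀ x : S, (x : Ω) ∈ N → ρ (ι x) ∈ NΔ)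
    (he : ∀ x : N, ∃ y : N, ι ⟨y, hN y.2⟩ = e * ι ⟨x, hN x.2⟩ * e⁻¹) :
    ρ e ∈ Subgroup.normalizer (NΔ : Set (GD Δ)) := by
  apply Subgroup.mem_normalizer_fintype
  intro y hy
  obtain ⟨x, hx, rfl⟩ := h1 y hy
  obtain ⟨w, hw⟩ := he ⟨x, hx⟩
  have h3 : ρ e * ρ (ι x) * (ρ e)⁻¹ = ρ (ι ⟨w, hN w.2⟩) := by
    rw [hw, map_mul, map_mul, map_inv]
  rw [h3]
  exact h2 _ w.2

end main

section final

variable {Ω : Type u} [Group Ω] {S : Subgroup Ω} {K : Type v} [Field K]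

theorem ext_M {C : SpC S K} {Δ : Subgroup Kˣ} {E : Type w} [Group E] {ι : S →* E} {ρ : E →* GD Δ}
    [Finite K] (h : ExtData C Δ ι ρ) {e : E} {N : Subgroup Ω} (hN : N ≤ S) {α : MulAut N}
    (he : ∀ x : N, ι ⟨(α x : N), hN (α x).2⟩ = e * ι ⟨x, hN x.2⟩ * e⁻¹) [Finite S] (hup : Up (ρ e).1.1) :
    ∃ β ∈ (pullback ι h.inj).autGroup S, ∀ (x : Ω) (hx : x ∈ N) (hx' : x ∈ S),
      ((β ⟨x, hx'⟩ : S) : Ω) = (α ⟨x, hx⟩ : N) := by
  obtain ⟨β, hβ, hβe⟩ := elt_aut h.inj (le_refl S) e (fun x => norm_of h hup x)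
  refine ⟨β, hβ, fun x hx hx' => ?_⟩
  have h1 := he ⟨x, hx⟩
  have h2 := hβe ⟨x, hx'⟩
  exact congrArg (fun y : S => (y : Ω)) (h.inj (h2.trans h1.symm))

/-- **task S5260-R2: `twoData_of_extData`** -/
theorem twoData_of_extData {Ω : Type u} [Group Ω] {S : Subgroup Ω} {K : Type v} [Field K] [Finite K] [CharP K 2]
    [Finite S] (hS : IsPGroup 2 S) {C : SpC S K} {Δ : Subgroup Kˣ} (hK : ∀ c : K, c ≠ 0 → c ^ 3 = 1)
    {E : Type w} [Group E] [Finite E] {ι : S →* E} {ρ : E →* GD Δ} (h : ExtData C Δ ι ρ) :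
    ∃ F₁ : FusionSystem S, F₁.IsRealizedBy ι ∧ F₁.IsSaturated 2 ∧ (∃ T : Sylow 2 E, (T : Subgroup E) = ι.range) ∧
      TwoData F₁ C Δ := by
  have : Fact (Nat.Prime 2) := ⟨Nat.prime_two⟩
  have hindex : ¬ 2 ∣ ι.range.index := by
    rw [range_eq h, Subgroup.index_comap_of_surjective _ h.surj]
    exact index_T
  have hrange : IsPGroup 2 ι.range := hS.of_surjective ι.rangeRestrict ι.rangeRestrict_surjective
  have hreal := pullback_isRealizedBy ι h.inj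
  have hM : C.M ≤ S := C.M_le
  have hL : C.L 0 ≤ S := C.L_le 0
  have h2K : (2 : K) = 0 := CharTwo.two_eq_zero
  have hneg : ∀ x : K, -x = x := fun x => CharTwo.neg_eq x
  have hnM : ∀ {e : E}, (∀ x : C.M, ∃ y : C.M, ι ⟨y, hM y.2⟩ = e * ι ⟨x, hM x.2⟩ * e⁻¹) →
      (ρ e).1.1 2 0 = 0 ∧ (ρ e).1.1 2 1 = 0 := by
    intro e he
    apply mem_normalizer_M_iff.1
    refine norm_M h hM ?_ (fun x hx => rho_mem_M h hx) he
    intro y hy
    obtain ⟨e', rfl⟩ := h.surj y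
    obtain ⟨x, hx, rfl⟩ := mem_M_iff' h hy
    exact ⟨x, hx, rfl⟩
  have hnL : ∀ {e : E}, (∀ x : C.L 0, ∃ y : C.L 0, ι ⟨y, hL y.2⟩ = e * ι ⟨x, hL x.2⟩ * e⁻¹) →
      (ρ e).1.1 1 0 = 0 ∧ (ρ e).1.1 2 0 = 0 := by
    intro e he
    apply mem_normalizer_M'_iff.1
    refine norm_M h hL ?_ (fun x hx => rho_mem_M' h hx) he
    intro y hy
    obtain ⟨e', rfl⟩ := h.surj y
    obtain ⟨x, hx, rfl⟩ := mem_M'_iff' h hy
    exact ⟨x, hx, rfl⟩
  -- relations on `M` and `L`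
  have relM : ∀ {e : E}, (ρ e).1.1 2 0 = 0 → (ρ e).1.1 2 1 = 0 → ∀ {x y : S}, (x : Ω) ∈ C.M → (y : Ω) ∈ C.M →
      ι y = e * ι x * e⁻¹ →
      (ρ e).1.1 0 0 * C.u x + (ρ e).1.1 0 1 * C.s x = C.u y * (ρ e).1.1 2 2 ∧
        (ρ e).1.1 1 0 * C.u x + (ρ e).1.1 1 1 * C.s x = C.s y * (ρ e).1.1 2 2 := by
    intro e h0 h1 x y hx hy hxy
    have h2 := rel_of h hxy
    rw [hx.2, hy.2] at h2
    exact rel_M h0 h1 h2
  have relL : ∀ {e : E}, (ρ e).1.1 1 0 = 0 → (ρ e).1.1 2 0 = 0 → ∀ {x y : S}, (x : Ω) ∈ C.L 0 → (y : Ω) ∈ C.L 0 →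
      ι y = e * ι x * e⁻¹ →
      (ρ e).1.1 0 0 * C.t x = C.t y * (ρ e).1.1 1 1 + C.u y * (ρ e).1.1 2 1 ∧
        (ρ e).1.1 0 0 * C.u x = C.t y * (ρ e).1.1 1 2 + C.u y * (ρ e).1.1 2 2 := by
    intro e h0 h1 x y hx hy hxy
    have h2 := rel_of h hxy
    rw [hx.2, hy.2, zero_mul, zero_mul] at h2
    exact rel_M' h0 h1 h2
  refine ⟨pullback ι h.inj, hreal, isSaturated_of_isRealizedBy hreal (hrange.toSylow hindex)
    (IsPGroup.toSylow_coe _ _), ⟨hrange.toSylow hindex, IsPGroup.toSylow_coe _ _⟩, ?_⟩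
  constructor
  · -- autS
    intro α hα
    obtain ⟨e, he⟩ := aut_elt h.inj le_rfl hα
    have he' : ∀ x : S, ι (α x) = e * ι x * e⁻¹ := he
    have hup := up_of h (fun x => ⟨α x, he' x⟩)
    have d0 := hup.diag_mul_inv 0
    have d1 := hup.diag_mul_inv 1
    have d2 := hup.diag_mul_inv 2
    have n0 : (ρ e).1.1 0 0 ≠ 0 := left_ne_zero_of_mul_eq_one d0
    have n1 : (ρ e).1.1 1 1 ≠ 0 := left_ne_zero_of_mul_eq_one d1
    have n2 : (ρ e).1.1 2 2 ≠ 0 := left_ne_zero_of_mul_eq_one d2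
    have hdet := det_entries (ρ e).1
    rw [hup.1, hup.2.1, hup.2.2] at hdet
    obtain ⟨x1, hx1⟩ : ∃ x1, x1 = (ρ e).1.1 0 0 := ⟨_, rfl⟩
    obtain ⟨x2, hx2⟩ : ∃ x2, x2 = (ρ e).1.1 1 1 := ⟨_, rfl⟩
    obtain ⟨x3, hx3⟩ : ∃ x3, x3 = (ρ e).1.1 2 2 := ⟨_, rfl⟩
    have hrel : ∀ x : S, _ := fun x => rel_up hup (rel_of h (he' x))
    rw [← hx1] at n0
    rw [← hx2] at n1
    rw [← hx3] at n2
    rw [← hx1, ← hx2, ← hx3] at hdet
    simp only [← hx1, ← hx2, ← hx3] at hrel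
    have c1 := hK x1 n0
    let a : Kˣ := Units.mk0 (x1 / x2) (div_ne_zero n0 n1)
    let b : Kˣ := Units.mk0 (x2 / x3) (div_ne_zero n1 n2)
    have hab : a ^ 2 * b = (Matrix.GeneralLinearGroup.det (ρ e).1)⁻¹ := by
      apply Units.ext
      rw [Units.val_inv_eq_inv_val, hdet]
      show (x1 / x2) ^ 2 * (x2 / x3) = _
      have : x1 * x2 * x3 - x1 * (ρ e).1.1 1 2 * 0 - (ρ e).1.1 0 1 * 0 * x3 + (ρ e).1.1 0 1 * (ρ e).1.1 1 2 * 0 +
        (ρ e).1.1 0 2 * 0 * 0 - (ρ e).1.1 0 2 * x2 * 0 = x1 * x2 * x3 := by ring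
      rw [this]
      field_simp
      linear_combination c1
    refine ⟨a, b, ?_, -((ρ e).1.1 1 2 / x3) * (x1 / x2), (ρ e).1.1 0 1 / x3, ?_, ?_⟩
    · rw [hab]
      exact inv_mem (ρ e).2
    · intro x
      obtain ⟨e1, e2, e3⟩ := hrel x
      have f1 : C.t (α x : S) = x1 / x2 * C.t x := by
        field_simp
        linear_combination -e1
      have f2 : C.s (α x : S) = x2 / x3 * C.s x := by
        field_simp
        linear_combination -e2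
      refine ⟨f1, f2, ?_⟩
      show C.u (α x : S) = x1 / x2 * (x2 / x3) * C.u x + -((ρ e).1.1 1 2 / x3) * (x1 / x2) * C.t x + (ρ e).1.1 0 1 / x3 * C.s x
      rw [f1] at e3
      field_simp
      field_simp at e3
      linear_combination -e3
    · intro x hx
      obtain ⟨z1, z2⟩ := z_of h (he' x) hx
      refine ⟨z1, ?_⟩
      have h3 : ((a ^ 2 * b : Kˣ) : K) * ((Matrix.GeneralLinearGroup.det (ρ e).1 : Kˣ) : K) = 1 := by
        rw [hab, Units.inv_mul]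
      have h4 : ((a : K)) ^ 2 * (b : K) = ((a ^ 2 * b : Kˣ) : K) := by push_cast; ring
      rw [h4, ← z2]
      linear_combination (-C.z (α x : S)) * h3
  · -- exS
    intro a b hab
    have ca := hK a a.ne_zero
    have cb := hK b b.ne_zero
    obtain ⟨g, hg⟩ : ∃ g : GD Δ, g.1.1 = !![(a : K) * b, 0, 0; 0, (b : K), 0; 0, 0, 1] :=
      ⟨mk _ (a ^ 2 * b)⁻¹ (by
        rw [Units.val_inv_eq_inv_val]
        apply eq_inv_of_mul_eq_one_left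
        rw [Matrix.det_fin_three]
        push_cast
        simp
        linear_combination (b : K) ^ 3 * ca + cb) (inv_mem hab), rfl⟩
    obtain ⟨e, rfl⟩ := h.surj g
    have g00 : (ρ e).1.1 0 0 = a * b := by rw [hg]; rfl
    have g01 : (ρ e).1.1 0 1 = 0 := by rw [hg]; rfl
    have g11 : (ρ e).1.1 1 1 = b := by rw [hg]; rfl
    have g12 : (ρ e).1.1 1 2 = 0 := by rw [hg]; rfl
    have g22 : (ρ e).1.1 2 2 = 1 := by rw [hg]; rfl
    have g02 : (ρ e).1.1 0 2 = 0 := by rw [hg]; rfl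
    have hup : Up (ρ e).1.1 := by
      refine ⟨?_, ?_, ?_⟩ <;> rw [hg] <;> rfl
    have hdet := det_entries (ρ e).1
    rw [hup.1, hup.2.1, hup.2.2, g00, g11, g22] at hdet
    obtain ⟨α, hα, hαe⟩ := elt_aut h.inj (le_refl S) e (fun x => norm_of h hup x)
    have hαe' : ∀ x : S, ι (α x) = e * ι x * e⁻¹ := hαe
    refine ⟨α, hα, fun x => ?_, fun x hx => ?_⟩
    · obtain ⟨e1, e2, e3⟩ := rel_up hup (rel_of h (hαe' x))
      rw [g00, g11] at e1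
      rw [g11, g22] at e2
      rw [g00, g01, g12, g22] at e3
      refine ⟨?_, ?_, ?_⟩
      · apply mul_right_cancel₀ b.ne_zero
        linear_combination -e1
      · linear_combination -e2
      · linear_combination -e3
    · obtain ⟨z1, z2⟩ := z_of h (hαe' x) hx
      refine ⟨z1, ?_⟩
      rw [hdet] at z2
      rw [← z2]
      linear_combination (-C.z (α x : S)) * ((b : K) ^ 3 * ca + cb)
  · -- Z1M
    intro α hα x hx
    obtain ⟨e, he⟩ := aut_elt h.inj hM hα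
    exact (z_of h (he x) hx).1
  · -- Z1L
    intro α hα x hx
    obtain ⟨e, he⟩ := aut_elt h.inj hL hα
    exact (z_of h (he x) hx).1
  · -- nM
    obtain ⟨e, he⟩ := h.surj (s1 Δ)
    obtain ⟨n, hn, hne⟩ := elt_aut h.inj hM e (fun x => by
      have h1 : ρ (e * ι ⟨x, hM x.2⟩ * e⁻¹) ∈ M Δ := by
        rw [map_mul, map_mul, map_inv, he]
        exact (Subgroup.mem_normalizer_iff.1 s1_mem _).1 (rho_mem_M h x.2)
      obtain ⟨y, hy, hye⟩ := mem_M_iff' h h1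
      exact ⟨⟨y, hy⟩, hye⟩)
    have g00 : (ρ e).1.1 0 0 = 0 := by rw [he, s1_val]; rfl
    have g01 : (ρ e).1.1 0 1 = 1 := by rw [he, s1_val]; rfl
    have g10 : (ρ e).1.1 1 0 = -1 := by rw [he, s1_val]; rfl
    have g11 : (ρ e).1.1 1 1 = 0 := by rw [he, s1_val]; rfl
    have g20 : (ρ e).1.1 2 0 = 0 := by rw [he, s1_val]; rfl
    have g21 : (ρ e).1.1 2 1 = 0 := by rw [he, s1_val]; rfl
    have g22 : (ρ e).1.1 2 2 = 1 := by rw [he, s1_val]; rfl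
    have hdet := det_entries (ρ e).1
    rw [g00, g01, g10, g11, g20, g21, g22] at hdet
    refine ⟨n, hn, fun x hx => ?_, fun x => ?_⟩
    · obtain ⟨z1, z2⟩ := z_of h (hne x) hx
      apply Subtype.ext
      rw [hdet] at z2
      apply C.inj (hM (n x).2) (hM x.2)
      · rw [z1.2.1, hx.2.1]
      · rw [z1.2.2.1, hx.2.2.1]
      · rw [z1.2.2.2, hx.2.2.2]
      · linear_combination z2
    · obtain ⟨e1, e2⟩ := relM g20 g21 (x := ⟨x, hM x.2⟩) (y := ⟨n x, hM (n x).2⟩) x.2 (n x).2 (hne x)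
      rw [g00, g01, g22] at e1
      rw [g10, g11, g22] at e2
      have e3 := hneg (C.u x)
      refine ⟨?_, ?_⟩
      · linear_combination e3 - e2
      · linear_combination -e1
  · -- nL
    obtain ⟨e, he⟩ := h.surj (s2 Δ)
    obtain ⟨n, hn, hne⟩ := elt_aut h.inj hL e (fun x => by
      have h1 : ρ (e * ι ⟨x, hL x.2⟩ * e⁻¹) ∈ M' Δ := by
        rw [map_mul, map_mul, map_inv, he]
        exact (Subgroup.mem_normalizer_iff.1 s2_mem _).1 (rho_mem_M' h x.2)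
      obtain ⟨y, hy, hye⟩ := mem_M'_iff' h h1
      exact ⟨⟨y, hy⟩, hye⟩)
    have g00 : (ρ e).1.1 0 0 = 1 := by rw [he, s2_val]; rfl
    have g01 : (ρ e).1.1 0 1 = 0 := by rw [he, s2_val]; rfl
    have g10 : (ρ e).1.1 1 0 = 0 := by rw [he, s2_val]; rfl
    have g11 : (ρ e).1.1 1 1 = 0 := by rw [he, s2_val]; rfl
    have g12 : (ρ e).1.1 1 2 = 1 := by rw [he, s2_val]; rfl
    have g20 : (ρ e).1.1 2 0 = 0 := by rw [he, s2_val]; rfl
    have g21 : (ρ e).1.1 2 1 = -1 := by rw [he, s2_val]; rfl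
    have g22 : (ρ e).1.1 2 2 = 0 := by rw [he, s2_val]; rfl
    have hdet := det_entries (ρ e).1
    rw [g00, g01, g10, g11, g12, g20, g21, g22] at hdet
    refine ⟨n, hn, fun x hx => ?_, fun x => ?_⟩
    · obtain ⟨z1, z2⟩ := z_of h (hne x) hx
      apply Subtype.ext
      rw [hdet] at z2
      apply C.inj (hL (n x).2) (hL x.2)
      · rw [z1.2.1, hx.2.1]
      · rw [z1.2.2.1, hx.2.2.1]
      · rw [z1.2.2.2, hx.2.2.2]
      · linear_combination z2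
    · obtain ⟨e1, e2⟩ := relL g10 g20 (x := ⟨x, hL x.2⟩) (y := ⟨n x, hL (n x).2⟩) x.2 (n x).2 (hne x)
      rw [g00, g11, g21] at e1
      rw [g00, g12, g22] at e2
      have e3 := hneg (C.t x)
      refine ⟨?_, ?_⟩
      · linear_combination -e2
      · linear_combination e3 + e1
  · -- spreadM
    intro α hα
    obtain ⟨e, he⟩ := aut_elt h.inj hM hα
    obtain ⟨g20, g21⟩ := hnM (fun x => ⟨α x, he x⟩)
    have g22 : (ρ e).1.1 2 2 ≠ 0 := left_ne_zero_of_mul_eq_one (row_inv g20 g21).2.2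
    by_cases g10 : (ρ e).1.1 1 0 = 0
    · left
      intro x hx
      obtain ⟨e1, e2⟩ := relM g20 g21 (x := ⟨x, hM x.2⟩) (y := ⟨α x, hM (α x).2⟩) x.2 (α x).2 (he x)
      refine ⟨hM (α x).2, (α x).2.2, ?_⟩
      rw [g10, hx.2.2] at e2
      apply mul_right_cancel₀ g22
      linear_combination -e2
    · right
      refine ⟨(ρ e).1.1 0 0 / (ρ e).1.1 1 0, fun x hx => ?_⟩
      obtain ⟨e1, e2⟩ := relM g20 g21 (x := ⟨x, hM x.2⟩) (y := ⟨α x, hM (α x).2⟩) x.2 (α x).2 (he x)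
      rw [hx.2.2] at e1 e2
      apply mul_right_cancel₀ g22
      rw [div_mul_eq_mul_div, div_mul_eq_mul_div, eq_div_iff g10]
      linear_combination (ρ e).1.1 0 0 * e2 - (ρ e).1.1 1 0 * e1
  · -- spreadL
    intro α hα
    obtain ⟨e, he⟩ := aut_elt h.inj hL hα
    obtain ⟨g10, g20⟩ := hnL (fun x => ⟨α x, he x⟩)
    by_cases g21 : (ρ e).1.1 2 1 = 0
    · left
      have hup : Up (ρ e).1.1 := ⟨g10, g20, g21⟩
      have g11 : (ρ e).1.1 1 1 ≠ 0 := left_ne_zero_of_mul_eq_one (hup.diag_mul_inv 1)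
      intro x hx
      obtain ⟨e1, e2⟩ := relL g10 g20 (x := ⟨x, hL x.2⟩) (y := ⟨α x, hL (α x).2⟩) x.2 (α x).2 (he x)
      rw [g21, hx.2.1] at e1
      have ht : C.t (α x : C.L 0) = 0 := by
        apply mul_right_cancel₀ g11
        linear_combination -e1
      refine ⟨hL (α x).2, ht, ?_⟩
      rw [(α x).2.2, zero_mul]
    · right
      refine ⟨-((ρ e).1.1 1 1 / (ρ e).1.1 2 1), fun x hx => ?_⟩
      obtain ⟨e1, e2⟩ := relL g10 g20 (x := ⟨x, hL x.2⟩) (y := ⟨α x, hL (α x).2⟩) x.2 (α x).2 (he x)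
      rw [hx.2.1] at e1
      field_simp
      linear_combination -e1
  · -- extM
    intro α hα hZ
    obtain ⟨e, he⟩ := aut_elt h.inj hM hα
    obtain ⟨g20, g21⟩ := hnM (fun x => ⟨α x, he x⟩)
    obtain ⟨x, hx, h1, h2, h3, -⟩ := C.surj 0 0 1 0
    have hxM : x ∈ C.M := ⟨hx, h1⟩
    have hxZ : x ∈ C.Z2 := ⟨hx, h1, h2⟩
    obtain ⟨e1, e2⟩ := relM g20 g21 (x := ⟨x, hx⟩) (y := ⟨α ⟨x, hxM⟩, hM (α ⟨x, hxM⟩).2⟩) hxM (α ⟨x, hxM⟩).2 (he ⟨x, hxM⟩)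
    have h4 := (hZ ⟨x, hxM⟩ hxZ).2.2
    have g10 : (ρ e).1.1 1 0 = 0 := by
      have e2' : (ρ e).1.1 1 0 * C.u x + (ρ e).1.1 1 1 * C.s x = C.s (α ⟨x, hxM⟩ : C.M) * (ρ e).1.1 2 2 := e2
      rw [h2, h3, h4] at e2'
      linear_combination e2'
    exact ext_M h hM he ⟨g10, g20, g21⟩
  · -- extL
    intro α hα hZ
    obtain ⟨e, he⟩ := aut_elt h.inj hL hα
    obtain ⟨g10, g20⟩ := hnL (fun x => ⟨α x, he x⟩)
    obtain ⟨x, hx, h1, h2, h3, -⟩ := C.surj 0 0 1 0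
    have hxL : x ∈ C.L 0 := ⟨hx, by rw [h2, zero_mul]⟩
    have hxZ : x ∈ C.Z2 := ⟨hx, h1, h2⟩
    obtain ⟨e1, e2⟩ := relL g10 g20 (x := ⟨x, hx⟩) (y := ⟨α ⟨x, hxL⟩, hL (α ⟨x, hxL⟩).2⟩) hxL (α ⟨x, hxL⟩).2 (he ⟨x, hxL⟩)
    have h4 := (hZ ⟨x, hxL⟩ hxZ).2.1
    have e1' : (ρ e).1.1 0 0 * C.t x = C.t (α ⟨x, hxL⟩ : C.L 0) * (ρ e).1.1 1 1 + C.u (α ⟨x, hxL⟩ : C.L 0) * (ρ e).1.1 2 1 := e1
    have e2' : (ρ e).1.1 0 0 * C.u x = C.t (α ⟨x, hxL⟩ : C.L 0) * (ρ e).1.1 1 2 + C.u (α ⟨x, hxL⟩ : C.L 0) * (ρ e).1.1 2 2 := e2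
    rw [h4, h1] at e1'
    rw [h4, h3] at e2'
    have g00 : (ρ e).1.1 0 0 ≠ 0 := by
      have := (col_inv g10 g20).2.2
      exact right_ne_zero_of_mul_eq_one this
    have hu : C.u (α ⟨x, hxL⟩ : C.L 0) ≠ 0 := by
      intro h0
      rw [h0] at e2'
      apply g00
      linear_combination e2'
    have g21 : (ρ e).1.1 2 1 = 0 := by
      have : C.u (α ⟨x, hxL⟩ : C.L 0) * (ρ e).1.1 2 1 = 0 := by linear_combination -e1'
      exact (mul_eq_zero.1 this).resolve_left hu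
    exact ext_M h hL he ⟨g10, g20, g21⟩

end final

end Cfsg.Agent.H131.TwoDataExt
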